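import Groth.Agent.H66.DiagCrit
import Mathlib.FieldTheory.PurelyInseparable.Basic
import Mathlib.FieldTheory.IsAlgClosed.AlgebraicClosure
import Mathlib.RingTheory.Noetherian.Nilpotent
import Mathlib.RingTheory.Ideal.Quotient.Operations
import Mathlib.RingTheory.Nilpotent.Lemmas

/-!
Descent of group-like elements along purely inseparable extensions in the absence of primitives.
-/

universe u v w w'

open TensorProduct Groth.Agent.Lib.Comod.Basic

set_option linter.unusedSectionVars false
set_option linter.style.haveILetI false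

namespace Groth.Agent.H66.DiagDescent

noncomputable section

open H66.UnipBC

variable {k : Type u} [Field k] {A : Type v} [CommRing A] [HopfAlgebra k A]

variable (k A) in
/-- `x ↦ x ⊗ 1` and `x ↦ 1 ⊗ x` and comultiplication, on scalars extended to `R`. -/
def j1 (R : Type w) [CommRing R] [Algebra k R] : R ⊗[k] A →ₐ[k] R ⊗[k] (A ⊗[k] A) :=
  Algebra.TensorProduct.map (AlgHom.id k R) Algebra.TensorProduct.includeLeft

variable (k A) in
/-- Second inclusion. -/
def j2 (R : Type w) [CommRing R] [Algebra k R] : R ⊗[k] A →ₐ[k] R ⊗[k] (A ⊗[k] A) :=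
  Algebra.TensorProduct.map (AlgHom.id k R) Algebra.TensorProduct.includeRight

variable (k A) in
/-- Extended comultiplication. -/
def jΔ (R : Type w) [CommRing R] [Algebra k R] : R ⊗[k] A →ₐ[k] R ⊗[k] (A ⊗[k] A) :=
  Algebra.TensorProduct.map (AlgHom.id k R) (Bialgebra.comulAlgHom k A)

variable {R : Type w} [CommRing R] [Algebra k R]

theorem distrib_j1_mul_j2 (u v : R ⊗[k] A) :
    AlgebraTensorModule.distribBaseChange k R A A (j1 k A R u * j2 k A R v) = u ⊗ₜ[R] v := by
  induction u using TensorProduct.induction_on with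
  | zero => simp
  | add a b ha hb => simp only [map_add, add_mul, ha, hb, TensorProduct.add_tmul]
  | tmul r a =>
    induction v using TensorProduct.induction_on with
    | zero => simp
    | add p q hp hq => simp only [map_add, mul_add, hp, hq, TensorProduct.tmul_add]
    | tmul s b =>
      simp only [j1, j2, Algebra.TensorProduct.map_tmul, Algebra.TensorProduct.includeLeft_apply,
        Algebra.TensorProduct.includeRight_apply, Algebra.TensorProduct.tmul_mul_tmul, one_mul, mul_one,
        AlgHom.id_apply, AlgebraTensorModule.distribBaseChange_tmul]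
      rw [show (r * s) ⊗ₜ[k] a = s • (r ⊗ₜ[k] a) by rw [TensorProduct.smul_tmul', smul_eq_mul, mul_comm],
        TensorProduct.smul_tmul, TensorProduct.smul_tmul', smul_eq_mul, mul_one]

theorem comul_eq (u : R ⊗[k] A) :
    CoalgebraStruct.comul (R := R) u = AlgebraTensorModule.distribBaseChange k R A A (jΔ k A R u) := by
  rw [H66.Tame.comul_baseChange]
  congr 1

/-- Multiplicative form of being group-like. -/
def IsGL (u : R ⊗[k] A) : Prop := jΔ k A R u = j1 k A R u * j2 k A R u

theorem gl_iff {u : R ⊗[k] A} : IsGL u ↔ CoalgebraStruct.comul (R := R) u = u ⊗ₜ[R] u := by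
  rw [comul_eq, ← distrib_j1_mul_j2, EmbeddingLike.apply_eq_iff_eq]
  rfl


theorem IsGL.mul {u v : R ⊗[k] A} (hu : IsGL u) (hv : IsGL v) : IsGL (u * v) := by
  rw [IsGL, map_mul, map_mul, map_mul, hu, hv, mul_mul_mul_comm]

theorem IsGL.map {R' : Type w'} [CommRing R'] [Algebra k R'] (f : R →ₐ[k] R') {u : R ⊗[k] A} (hu : IsGL u) :
    IsGL (Algebra.TensorProduct.map f (AlgHom.id k A) u) := by
  have e : ∀ (g : A →ₐ[k] A ⊗[k] A) (x : R ⊗[k] A),
      Algebra.TensorProduct.map (AlgHom.id k R') g (Algebra.TensorProduct.map f (AlgHom.id k A) x) =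
        Algebra.TensorProduct.map f (AlgHom.id k (A ⊗[k] A)) (Algebra.TensorProduct.map (AlgHom.id k R) g x) := by
    intro g x
    induction x using TensorProduct.induction_on with
    | zero => simp
    | add a b ha hb => simp only [map_add, ha, hb]
    | tmul r a => simp
  unfold IsGL j1 j2 jΔ
  rw [e, e, e, ← map_mul]
  exact congrArg _ hu

theorem mem_map_of_map_eq_zero (N : Ideal R) {x : R ⊗[k] A}
    (h : Algebra.TensorProduct.map (Ideal.Quotient.mkₐ k N) (AlgHom.id k A) x = 0) :
    x ∈ N.map (Algebra.TensorProduct.includeLeft (R := k) (S := k) (B := A)) := by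
  have hex := rTensor_exact A (f := (N.restrictScalars k).subtype) (g := (Ideal.Quotient.mkₐ k N).toLinearMap)
    (fun y => by
      constructor
      · intro hy; exact ⟨⟨y, Ideal.Quotient.eq_zero_iff_mem.1 hy⟩, rfl⟩
      · rintro ⟨z, rfl⟩; exact Ideal.Quotient.eq_zero_iff_mem.2 z.2)
    Ideal.Quotient.mk_surjective
  have h' : (Ideal.Quotient.mkₐ k N).toLinearMap.rTensor A x = 0 := by
    rw [← h]
    clear h
    induction x using TensorProduct.induction_on with
    | zero => simp
    | add a b ha hb => simp only [map_add, ha, hb]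
    | tmul r a => simp
  obtain ⟨z, rfl⟩ := (hex x).1 h'
  clear h h'
  induction z using TensorProduct.induction_on with
  | zero => simp
  | add a b ha hb => rw [map_add]; exact Ideal.add_mem _ ha hb
  | tmul n a =>
    rw [LinearMap.rTensor_tmul, show ((N.restrictScalars k).subtype n) ⊗ₜ[k] a =
      ((n : R) ⊗ₜ[k] (1 : A)) * ((1 : R) ⊗ₜ[k] a) by rw [Algebra.TensorProduct.tmul_mul_tmul, mul_one, one_mul]; rfl]
    exact Ideal.mul_mem_right _ _ (Ideal.mem_map_of_mem _ n.2)

theorem eq_one_of_gl (hnp : NoPrim k A) : ∀ (n : ℕ) {R : Type w} [CommRing R] [Algebra k R] (N : Ideal R),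
    N ^ (n + 1) = ⊥ → ∀ u : R ⊗[k] A, IsGL u →
      Algebra.TensorProduct.map (Ideal.Quotient.mkₐ k N) (AlgHom.id k A) u = 1 → u = 1 := by
  intro n
  induction n with
  | zero =>
    intro R _ _ N hN u hu h1
    rw [zero_add, pow_one] at hN
    subst hN
    have h := mem_map_of_map_eq_zero (k := k) (A := A) (⊥ : Ideal R) (x := u - 1) (by rw [map_sub, map_one, h1, sub_self])
    rwa [Ideal.map_bot, Ideal.mem_bot, sub_eq_zero] at h
  | succ n ih =>
    intro R _ _ N hN u hu h1
    let M : Ideal R := N ^ (n + 1)
    have hM : M * M = ⊥ := by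
      rw [← pow_add, eq_bot_iff, ← hN]
      exact Ideal.pow_le_pow_right (by omega)
    let q := Ideal.Quotient.mkₐ k M
    have h2 : Algebra.TensorProduct.map q (AlgHom.id k A) u = 1 := by
      refine ih (N.map (Ideal.Quotient.mk M)) ?_ _ (hu.map q) ?_
      · rw [← Ideal.map_pow, Ideal.map_quotient_self]
      · have hfac : ∃ f : R ⧸ N →ₐ[k] (R ⧸ M) ⧸ N.map (Ideal.Quotient.mk M),
            (Ideal.Quotient.mkₐ k (N.map (Ideal.Quotient.mk M))).comp q = f.comp (Ideal.Quotient.mkₐ k N) := by
          refine ⟨Ideal.Quotient.liftₐ N ((Ideal.Quotient.mkₐ k (N.map (Ideal.Quotient.mk M))).comp q) fun a ha => ?_, ?_⟩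
          · exact Ideal.Quotient.eq_zero_iff_mem.2 (Ideal.mem_map_of_mem _ ha)
          · rfl
        obtain ⟨f, hf⟩ := hfac
        rw [← AlgHom.comp_apply, ← Algebra.TensorProduct.map_comp, hf, Algebra.TensorProduct.map_comp,
          AlgHom.comp_apply, h1, map_one]
    set y := u - 1 with hy
    have hu1 : u = y + 1 := by rw [hy, sub_add_cancel]
    have hmem : y ∈ M.map (Algebra.TensorProduct.includeLeft (R := k) (S := k) (B := A)) :=
      mem_map_of_map_eq_zero M (by rw [hy, map_sub, map_one, h2, sub_self])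
    have himg : ∀ g : A →ₐ[k] A ⊗[k] A, Algebra.TensorProduct.map (AlgHom.id k R) g y ∈
        M.map (Algebra.TensorProduct.includeLeft (R := k) (S := k) (B := A ⊗[k] A)) := by
      intro g
      suffices ∀ z ∈ M.map (Algebra.TensorProduct.includeLeft (R := k) (S := k) (B := A)),
          Algebra.TensorProduct.map (AlgHom.id k R) g z ∈
            M.map (Algebra.TensorProduct.includeLeft (R := k) (S := k) (B := A ⊗[k] A)) from this y hmem
      intro z hz
      induction hz using Submodule.span_induction with
      | mem z hz =>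
        obtain ⟨r, hr, rfl⟩ := hz
        refine Ideal.subset_span ⟨r, hr, ?_⟩
        simp
      | zero => rw [map_zero]; exact Ideal.zero_mem _
      | add p q _ _ hp hq => rw [map_add]; exact Ideal.add_mem _ hp hq
      | smul c p _ hp => rw [smul_eq_mul, map_mul]; exact Ideal.mul_mem_left _ _ hp
    have h0 : j1 k A R y * j2 k A R y = 0 := by
      have h4 := Ideal.mul_mem_mul (himg Algebra.TensorProduct.includeLeft) (himg Algebra.TensorProduct.includeRight)
      rw [← Ideal.map_mul, hM, Ideal.map_bot, Ideal.mem_bot] at h4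
      exact h4
    have hprim : jΔ k A R y = j1 k A R y + j2 k A R y := by
      have h5 : jΔ k A R u = j1 k A R u * j2 k A R u := hu
      rw [hu1, map_add, map_add, map_add, map_one, map_one, map_one, add_mul, mul_add, h0, zero_add, mul_one,
        one_mul, ← add_assoc] at h5
      exact add_right_cancel h5
    have hzero : y = 0 := by
      refine noPrim_baseChange R hnp y ?_
      rw [comul_eq, hprim, map_add]
      congr 1
      · have := distrib_j1_mul_j2 (k := k) (A := A) y (1 : R ⊗[k] A)
        rwa [map_one, mul_one] at this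
      · have := distrib_j1_mul_j2 (k := k) (A := A) (1 : R ⊗[k] A) y
        rwa [map_one, one_mul] at this
    rw [hu1, hzero, zero_add]

section Field

variable {K : Type w} [Field K] [Algebra k K]

theorem mem_range_of_eq {x : K ⊗[k] A}
    (h : Algebra.TensorProduct.map (Algebra.TensorProduct.includeLeft : K →ₐ[k] K ⊗[k] K) (AlgHom.id k A) x =
      Algebra.TensorProduct.map (Algebra.TensorProduct.includeRight : K →ₐ[k] K ⊗[k] K) (AlgHom.id k A) x) :
    ∃ a : A, x = (1 : K) ⊗ₜ[k] a := by
  classical
  let b := Module.Free.chooseBasis k A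
  let b' := b.baseChange K
  let c := b'.repr x
  let b2 := b.baseChange (K ⊗[k] K)
  have hmap : ∀ (f : K →ₐ[k] K ⊗[k] K) (x : K ⊗[k] A) i,
      b2.repr (Algebra.TensorProduct.map f (AlgHom.id k A) x) i = f (b'.repr x i) := by
    intro f x i
    induction x using TensorProduct.induction_on with
    | zero => simp
    | add p q hp hq => simp only [map_add, Finsupp.add_apply, hp, hq]
    | tmul r a => simp [b', b2]
  have hk : ∀ i, ∃ r : k, algebraMap k K r = c i := by
    intro i
    by_contra hne
    have hli : LinearIndependent k ![(1 : K), c i] := by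
      refine LinearIndependent.pair_iff.2 fun s t hst => ?_
      by_cases ht : t = 0
      · subst ht
        rw [zero_smul, add_zero] at hst
        exact ⟨by simpa using hst, rfl⟩
      · refine absurd ⟨-(s / t), ?_⟩ hne
        rw [eq_comm, ← sub_eq_zero]
        have : c i = -((s / t) • (1 : K)) := by
          rw [div_eq_inv_mul, mul_smul, ← smul_neg, ← neg_smul, eq_inv_smul_iff₀ ht, neg_smul]
          exact eq_neg_of_add_eq_zero_right hst
        rw [this, Algebra.algebraMap_eq_smul_one, neg_smul, sub_self]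
    obtain ⟨φ, hφ⟩ := LinearMap.exists_extend ((Module.Basis.span hli).coord 1)
    have h1 : ∀ j, φ (![(1 : K), c i] j) = if j = 1 then 1 else 0 := by
      intro j
      have h1 := LinearMap.congr_fun hφ (Module.Basis.span hli j)
      rw [LinearMap.comp_apply, Module.Basis.coord_apply, Module.Basis.repr_self, Finsupp.single_apply,
        Submodule.subtype_apply, Module.Basis.span_apply] at h1
      exact h1
    have h2 := congrArg (fun z => b2.repr z i) h
    simp only [hmap] at h2
    have h3 := congrArg (fun z => TensorProduct.rid k K (φ.lTensor K z)) h2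
    have e0 : φ (1 : K) = 0 := by simpa using h1 0
    have e1 : φ (c i) = 1 := by simpa using h1 1
    simp [c] at h3
    rw [e0, zero_smul, e1, one_smul] at h3
    exact zero_ne_one (α := K) h3
  choose r hr using hk
  refine ⟨∑ i ∈ c.support, r i • b i, b'.ext_elem fun i => ?_⟩
  rw [TensorProduct.tmul_sum, map_sum, Finsupp.finset_sum_apply]
  change c i = _
  simp only [Module.Basis.baseChange_repr_tmul, b', map_smul, Finsupp.smul_apply, b.repr_self, Finsupp.single_apply]
  rw [Finset.sum_eq_single i]
  · simp [← hr, Algebra.algebraMap_eq_smul_one]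
  · intro j _ hj; simp [hj]
  · intro hi
    rw [Finsupp.notMem_support_iff] at hi
    have h5 := hr i
    rw [hi, map_eq_zero] at h5
    simp [h5]

theorem exists_of_isGroupLike [IsPurelyInseparable k K] (hnp : NoPrim k A) {g : K ⊗[k] A}
    (hg : IsGroupLikeElem K g) : ∃ a : A, g = (1 : K) ⊗ₜ[k] a := by
  classical
  obtain ⟨S, hS⟩ := TensorProduct.exists_finset g
  let e1 : K ⊗[k] A →ₐ[k] (K ⊗[k] K) ⊗[k] A :=
    Algebra.TensorProduct.map Algebra.TensorProduct.includeLeft (AlgHom.id k A)
  let e2 : K ⊗[k] A →ₐ[k] (K ⊗[k] K) ⊗[k] A :=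
    Algebra.TensorProduct.map Algebra.TensorProduct.includeRight (AlgHom.id k A)
  let N : Ideal (K ⊗[k] K) := Ideal.span ↑(S.image fun p => p.1 ⊗ₜ[k] (1 : K) - (1 : K) ⊗ₜ[k] p.1)
  have hgl : IsGL g := gl_iff.2 hg.comul_eq_tmul_self
  have hgi : IsGL (HopfAlgebra.antipode K g) := gl_iff.2 hg.antipode.comul_eq_tmul_self
  have hN : IsNilpotent N := by
    rw [Ideal.FG.isNilpotent_iff_le_nilradical ⟨_, rfl⟩, Ideal.span_le]
    intro z hz
    simp only [Finset.coe_image, Set.mem_image] at hz
    obtain ⟨p, -, rfl⟩ := hz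
    obtain ⟨q, hq⟩ := ExpChar.exists k
    haveI : ExpChar (K ⊗[k] K) q := expChar_of_injective_algebraMap (algebraMap k (K ⊗[k] K)).injective q
    obtain ⟨n, y, hy⟩ := IsPurelyInseparable.pow_mem k q p.1
    refine ⟨q ^ n, ?_⟩
    rw [sub_pow_expChar_pow, Algebra.TensorProduct.tmul_pow, Algebra.TensorProduct.tmul_pow, one_pow, ← hy,
      Algebra.algebraMap_eq_smul_one, TensorProduct.smul_tmul, sub_self]
    exact Submodule.zero_mem _
  obtain ⟨n, hn⟩ := hN
  have hsame : Algebra.TensorProduct.map (Ideal.Quotient.mkₐ k N) (AlgHom.id k A) (e1 g) =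
      Algebra.TensorProduct.map (Ideal.Quotient.mkₐ k N) (AlgHom.id k A) (e2 g) := by
    rw [hS]
    simp only [map_sum, e1, e2, Algebra.TensorProduct.map_tmul, Algebra.TensorProduct.includeLeft_apply,
      Algebra.TensorProduct.includeRight_apply, AlgHom.id_apply, Ideal.Quotient.mkₐ_eq_mk]
    refine Finset.sum_congr rfl fun p hp => ?_
    congr 1
    exact Ideal.Quotient.eq.2 (Ideal.subset_span (Finset.mem_image.2 ⟨p, hp, rfl⟩))
  have hu := eq_one_of_gl hnp n N (le_bot_iff.1 ((Ideal.pow_le_pow_right n.le_succ).trans hn.le))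
    (e1 g * e2 (HopfAlgebra.antipode K g)) ((hgl.map _).mul (hgi.map _))
    (by rw [map_mul, hsame, ← map_mul, ← map_mul, hg.mul_antipode_cancel, map_one, map_one])
  refine mem_range_of_eq (x := g) ?_
  calc e1 g = e1 g * e2 (HopfAlgebra.antipode K g * g) := by rw [hg.antipode_mul_cancel, map_one, mul_one]
    _ = e2 g := by rw [map_mul, ← mul_assoc, hu, one_mul]

theorem isDiagonalizable_descend [IsPurelyInseparable k K] (hnp : NoPrim k A)
    (h : HopfRep.IsDiagonalizable K (K ⊗[k] A)) : HopfRep.IsDiagonalizable k A := by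
  let W : Submodule k A := Submodule.span k {a : A | IsGroupLikeElem k a}
  refine eq_top_iff.2 fun a _ => ?_
  by_contra ha
  obtain ⟨φ, hφa, hφW⟩ := Submodule.exists_le_ker_of_notMem ha
  have hinj : Function.Injective fun z : A ⊗[k] A => (1 : K) ⊗ₜ[k] z :=
    Algebra.TensorProduct.includeRight_injective (algebraMap k K).injective
  have hle : Submodule.span K {g : K ⊗[k] A | IsGroupLikeElem K g} ≤ LinearMap.ker (φ.baseChange K) := by
    rw [Submodule.span_le]
    intro g hg
    obtain ⟨b, rfl⟩ := exists_of_isGroupLike hnp hg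
    have hb : IsGroupLikeElem k b := by
      refine ⟨(algebraMap k K).injective ?_, hinj ?_⟩
      · have := hg.counit_eq_one
        rw [TensorProduct.counit_tmul, CommSemiring.counit_apply] at this
        rw [map_one, Algebra.algebraMap_eq_smul_one, this]
      · have := hg.comul_eq_tmul_self
        rw [H66.Tame.comul_baseChange, LinearMap.baseChange_tmul,
          ← AlgebraTensorModule.distribBaseChange_tmul, EmbeddingLike.apply_eq_iff_eq] at this
        exact this
    rw [SetLike.mem_coe, LinearMap.mem_ker, LinearMap.baseChange_tmul,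
      LinearMap.mem_ker.1 (hφW (Submodule.subset_span hb)), TensorProduct.tmul_zero]
  have h1 : φ.baseChange K ((1 : K) ⊗ₜ[k] a) = 0 := LinearMap.mem_ker.1 (hle (h.symm ▸ Submodule.mem_top))
  rw [LinearMap.baseChange_tmul] at h1
  have h2 := congrArg (TensorProduct.rid k K) h1
  rw [TensorProduct.rid_tmul, map_zero, smul_eq_zero] at h2
  exact hφa (h2.resolve_right one_ne_zero)

end Field

end

end Groth.Agent.H66.DiagDescent
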