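import Mathlib.RingTheory.SimpleModule.Basic
import Mathlib.LinearAlgebra.Trace
import Mathlib.LinearAlgebra.Eigenspace.Triangularizable
import Mathlib.FieldTheory.IsAlgClosed.AlgebraicClosure
import Mathlib.LinearAlgebra.TensorProduct.Pi
import Mathlib.RingTheory.Flat.Basic
import Mathlib.LinearAlgebra.Eigenspace.Zero

/-!
Kolchin's theorem: a monoid of unipotent operators has a common fixed vector.
-/

universe u v w

open TensorProduct

set_option linter.unusedSectionVars false

namespace Groth.Agent.H66.Kolchin

section AlgClosed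

variable {K : Type u} [Field K] [IsAlgClosed K] {W : Type w} [AddCommGroup W] [Module K W] [FiniteDimensional K W]

/-- Burnside: an algebra of operators without invariant subspaces is everything. -/
theorem burnside (B : Subalgebra K (Module.End K W)) [Nontrivial W]
    (hirr : ∀ U : Submodule K W, (∀ b ∈ B, ∀ u ∈ U, b u ∈ U) → U = ⊥ ∨ U = ⊤) : B = ⊤ := by
  haveI : IsSimpleModule B W := by
    refine { toIsSimpleOrder := ⟨fun U => ?_⟩ }
    rcases hirr (U.restrictScalars K) (fun b hb u hu => U.smul_mem ⟨b, hb⟩ hu) with h | h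
    · exact Or.inl ((Submodule.restrictScalars_eq_bot_iff _ _ _).1 h)
    · exact Or.inr ((Submodule.restrictScalars_eq_top_iff _ _ _).1 h)
  have hscal : ∀ e : Module.End B W, ∃ c : K, ∀ w, e w = c • w := by
    intro e
    obtain ⟨c, hc⟩ := Module.End.exists_eigenvalue (e.restrictScalars K)
    refine ⟨c, fun w => ?_⟩
    have hinv : ∀ b ∈ B, ∀ u ∈ Module.End.eigenspace (e.restrictScalars K) c,
        b u ∈ Module.End.eigenspace (e.restrictScalars K) c := by
      intro b hb u hu
      rw [Module.End.mem_eigenspace_iff] at hu ⊢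
      change e ((⟨b, hb⟩ : B) • u) = c • b u
      rw [map_smul, show e u = c • u from hu]
      exact map_smul b c u
    rcases hirr _ hinv with h | h
    · exact absurd h hc
    · exact Module.End.mem_eigenspace_iff.1 (h ▸ Submodule.mem_top (x := w))
  classical
  refine eq_top_iff.2 fun f _ => ?_
  let F : Module.End (Module.End B W) W :=
    { toFun := f
      map_add' := map_add f
      map_smul' := fun e w => by
        obtain ⟨c, hc⟩ := hscal e
        change f (e w) = e (f w)
        rw [hc, hc, map_smul] }
  let b := Module.finBasis K W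
  obtain ⟨r, hr⟩ := jacobson_density (R := B) F (Finset.univ.image b)
  have : f = (r : Module.End K W) := b.ext fun i => hr _ (Finset.mem_image_of_mem b (Finset.mem_univ i))
  rw [this]
  exact r.2

theorem trace_eq_zero_of_isNilpotent {f : Module.End K W} (hf : IsNilpotent f) : LinearMap.trace K W f = 0 :=
  (LinearMap.isNilpotent_trace_of_isNilpotent hf).eq_zero

theorem exists_fixed_of_algClosed {M : Type v} [Monoid M] (ρ : M →* Module.End K W) [Nontrivial W]
    (h : ∀ g, IsNilpotent (ρ g - 1)) : ∃ w : W, w ≠ 0 ∧ ∀ g, ρ g w = w := by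
  classical
  obtain ⟨n, hn⟩ : ∃ n, ∃ U : Submodule K W, U ≠ ⊥ ∧ (∀ g, ∀ u ∈ U, ρ g u ∈ U) ∧ Module.finrank K U = n :=
    ⟨_, ⊤, top_ne_bot, fun _ _ _ => trivial, rfl⟩
  have hex : ∃ n, ∃ U : Submodule K W, U ≠ ⊥ ∧ (∀ g, ∀ u ∈ U, ρ g u ∈ U) ∧ Module.finrank K U = n := ⟨n, hn⟩
  obtain ⟨U, hU0, hUinv, hUn⟩ := Nat.find_spec hex
  haveI : Nontrivial U := Submodule.nontrivial_iff_ne_bot.2 hU0
  let σ : M →* Module.End K U :=
    { toFun := fun g => (ρ g).restrict (hUinv g)
      map_one' := LinearMap.ext fun u => Subtype.ext (by simp)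
      map_mul' := fun a b => LinearMap.ext fun u => Subtype.ext (by simp) }
  have hσ : ∀ g, IsNilpotent (σ g - 1) := by
    intro g
    obtain ⟨m, hm⟩ := h g
    refine ⟨m, LinearMap.ext fun u => Subtype.ext ?_⟩
    have hp : ∀ (j : ℕ) (u : U), (((σ g - 1) ^ j) u : W) = ((ρ g - 1) ^ j) (u : W) := by
      intro j
      induction j with
      | zero => intro u; simp
      | succ j ih =>
        intro u
        rw [pow_succ, Module.End.mul_apply, ih, pow_succ, Module.End.mul_apply]
        rfl
    rw [hp, hm]
    simp
  let B : Subalgebra K (Module.End K U) := Algebra.adjoin K (Set.range σ)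
  have hB : B = ⊤ := by
    refine burnside B fun U' hU' => ?_
    by_cases h0 : U' = ⊥
    · exact Or.inl h0
    · refine Or.inr ?_
      have hmap : Module.finrank K (U'.map U.subtype) = Module.finrank K U' :=
        (Submodule.equivMapOfInjective _ U.injective_subtype U').finrank_eq.symm
      have hle := Nat.find_le (h := hex) (n := Module.finrank K (U'.map U.subtype))
        ⟨U'.map U.subtype, fun e => h0 (Submodule.map_injective_of_injective U.injective_subtype
          (e.trans (Submodule.map_bot _).symm)), fun g u hu => by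
            obtain ⟨x, hx, rfl⟩ := hu
            exact ⟨σ g x, hU' _ (Algebra.subset_adjoin ⟨g, rfl⟩) x hx, rfl⟩, rfl⟩
      rw [hmap, ← hUn] at hle
      exact Submodule.eq_top_of_finrank_eq (le_antisymm (Submodule.finrank_le U') hle)
  have hone : ∀ g, σ g = 1 := by
    intro g
    have hlin : ∀ f : Module.End K U, LinearMap.trace K U ((σ g - 1) * f) = 0 := by
      intro f
      have hf : f ∈ Submodule.span K (Submonoid.closure (Set.range σ) : Set (Module.End K U)) := by
        rw [← Algebra.adjoin_eq_span]
        change f ∈ B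
        rw [hB]; exact Algebra.mem_top
      refine (Submodule.span_le (p := LinearMap.ker ((LinearMap.trace K U) ∘ₗ LinearMap.mulLeft K (σ g - 1)))).2 ?_ hf
      intro x hx
      obtain ⟨a, rfl⟩ : ∃ a, σ a = x := by
        have : Submonoid.closure (Set.range σ) ≤ MonoidHom.mrange σ :=
          Submonoid.closure_le.2 fun y ⟨a, ha⟩ => ⟨a, ha⟩
        exact this hx
      change LinearMap.trace K U ((σ g - 1) * σ a) = 0
      rw [show (σ g - 1) * σ a = (σ (g * a) - 1) - (σ a - 1) by rw [map_mul, sub_mul, one_mul]; abel, map_sub,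
        trace_eq_zero_of_isNilpotent (hσ _), trace_eq_zero_of_isNilpotent (hσ _), sub_zero]
    refine sub_eq_zero.1 (LinearMap.ext fun u => (Module.forall_dual_apply_eq_zero_iff K _).1 fun φ => ?_)
    have := hlin (φ.smulRight u)
    rw [Module.End.mul_eq_comp, LinearMap.trace_comp_comm'] at this
    rw [show φ.smulRight u ∘ₗ (σ g - 1) = (φ ∘ₗ (σ g - 1)).smulRight u from rfl, LinearMap.trace_smulRight] at this
    exact this
  obtain ⟨u, hu⟩ := exists_ne (0 : U)
  refine ⟨u, fun e => hu (Subtype.ext e), fun g => ?_⟩
  have := congrArg Subtype.val (LinearMap.congr_fun (hone g) u)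
  exact this

end AlgClosed

/-- Kolchin's theorem over any field. -/
theorem exists_fixed {k : Type u} [Field k] {V : Type w} [AddCommGroup V] [Module k V] [FiniteDimensional k V]
    [Nontrivial V] {M : Type v} [Monoid M] (ρ : M →* Module.End k V) (h : ∀ g, IsNilpotent (ρ g - 1)) :
    ∃ v : V, v ≠ 0 ∧ ∀ g, ρ g v = v := by
  classical
  by_contra hcon
  simp only [not_exists, not_and] at hcon
  let N : Finset M → Submodule k V := fun s => ⨅ g ∈ s, LinearMap.ker (ρ g - 1)
  have hex : ∃ n, ∃ s : Finset M, Module.finrank k (N s) = n := ⟨_, ∅, rfl⟩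
  obtain ⟨s, hs⟩ := Nat.find_spec hex
  have hN : N s = ⊥ := by
    by_contra hne
    obtain ⟨v, hv, hv0⟩ := Submodule.exists_mem_ne_zero_of_ne_bot hne
    refine hcon v hv0 fun g => ?_
    have hle : N (insert g s) ≤ N s := biInf_mono fun x hx => Finset.mem_insert_of_mem hx
    have heq := Submodule.eq_of_le_of_finrank_le hle (hs ▸ Nat.find_le ⟨insert g s, rfl⟩)
    have hv' : v ∈ N (insert g s) := heq ▸ hv
    simp only [N, Submodule.mem_iInf] at hv'
    exact sub_eq_zero.1 (hv' g (Finset.mem_insert_self g s))
  let D : V →ₗ[k] (s → V) := LinearMap.pi fun g => ρ g.1 - 1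
  have hD : Function.Injective D := by
    refine LinearMap.ker_eq_bot.1 (eq_bot_iff.2 fun v hv => ?_)
    rw [← hN]
    simp only [N, Submodule.mem_iInf]
    exact fun g hg => congrFun (LinearMap.mem_ker.1 hv) ⟨g, hg⟩
  let K := AlgebraicClosure k
  have hDK : Function.Injective (D.baseChange K) :=
    Module.Flat.lTensor_preserves_injective_linearMap (M := K) D hD
  let ρK : M →* Module.End K (K ⊗[k] V) := (Module.End.baseChangeHom k K V : Module.End k V →* _).comp ρ
  have hK : ∀ g, IsNilpotent (ρK g - 1) := fun g => by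
    have := (h g).map (Module.End.baseChangeHom k K V)
    simpa [ρK] using this
  haveI : Nontrivial (K ⊗[k] V) := by
    refine nontrivial_of_ne ((1 : K) ⊗ₜ (exists_ne (0 : V)).choose) 0 fun e => ?_
    have hinj : Function.Injective (TensorProduct.mk k K V 1) := by
      have := Module.Flat.rTensor_preserves_injective_linearMap (M := V) (Algebra.linearMap k K) (algebraMap k K).injective
      intro a b hab
      refine (TensorProduct.lid k V).symm.injective (this ?_)
      simpa using hab
    exact (exists_ne (0 : V)).choose_spec (hinj (e.trans (map_zero _).symm))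
  obtain ⟨w, hw0, hw⟩ := exists_fixed_of_algClosed ρK hK
  refine hw0 (hDK ?_)
  rw [map_zero]
  refine (TensorProduct.piRight k K K fun _ : s => V).injective (funext fun g => ?_)
  have key : ∀ x : K ⊗[k] V, TensorProduct.piRight k K K (fun _ : s => V) (D.baseChange K x) g =
      ρK g.1 x - x := by
    intro x
    induction x using TensorProduct.induction_on with
    | zero => simp
    | add a b ha hb => simp only [map_add, Pi.add_apply, ha, hb]; abel
    | tmul c v =>
      rw [show ρK g.1 (c ⊗ₜ[k] v) = c ⊗ₜ[k] ρ g.1 v from rfl]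
      simp [D, TensorProduct.tmul_sub]
  rw [key, hw, sub_self, map_zero, Pi.zero_apply]

end Groth.Agent.H66.Kolchin
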