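import Groth.Prelude.Def_HopfRep
import Groth.Prelude.Def_Hoch
import Mathlib.RingTheory.Flat.Basic
import Mathlib.LinearAlgebra.TensorProduct.RightExactness

/-!
Elementary lemmas about right comodules.
-/

universe u v w w'

open TensorProduct

namespace Groth.Agent.H66.Base

section Coalg

variable {k : Type u} [CommRing k] {A : Type v} [AddCommGroup A] [Module k A] [Coalgebra k A]
variable {V : Type w} [AddCommGroup V] [Module k V] [HopfRep.Comod k A V]
variable {W : Type w'} [AddCommGroup W] [Module k W]

local notation "ρ" => HopfRep.Comod.coact (k := k) (A := A)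
local notation "Δ" => CoalgebraStruct.comul (R := k) (A := A)
local notation "ε" => CoalgebraStruct.counit (R := k) (A := A)

theorem coassoc_apply (v : V) :
    TensorProduct.assoc k V A A ((ρ).rTensor A (ρ v)) = (Δ).lTensor V (ρ v) :=
  LinearMap.congr_fun (HopfRep.Comod.coassoc (k := k) (A := A) (V := V)) v

theorem coassoc_symm_apply (v : V) :
    (ρ).rTensor A (ρ v) = (TensorProduct.assoc k V A A).symm ((Δ).lTensor V (ρ v)) := by
  rw [← coassoc_apply, LinearEquiv.symm_apply_apply]

theorem counit_apply (v : V) : (ε).lTensor V (ρ v) = v ⊗ₜ[k] (1 : k) :=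
  LinearMap.congr_fun (HopfRep.Comod.counit_comp (k := k) (A := A) (V := V)) v

theorem rid_counit_apply (v : V) :
    TensorProduct.rid k V ((ε).lTensor V (ρ v)) = v := by
  rw [counit_apply, TensorProduct.rid_tmul, one_smul]

theorem coact_injective : Function.Injective (HopfRep.Comod.coact (k := k) (A := A) : V → V ⊗[k] A) := by
  intro x y h
  rw [← rid_counit_apply (k := k) (A := A) x, ← rid_counit_apply (k := k) (A := A) y, h]

theorem isComodHom_apply {W : Type w'} [AddCommGroup W] [Module k W] [HopfRep.Comod k A W]
    {f : V →ₗ[k] W} (hf : Hoch.IsComodHom A f) (v : V) :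
    HopfRep.Comod.coact (k := k) (A := A) (f v) = f.rTensor A (ρ v) :=
  LinearMap.congr_fun hf v

end Coalg

section Ind

variable {k : Type u} [CommRing k] {A : Type v} [AddCommGroup A] [Module k A] [Coalgebra k A]
variable {P : Type w} [AddCommGroup P] [Module k P]

theorem counit_rTensor_assoc_symm (p : P) (z : A ⊗[k] A) :
    (Hoch.Ind.counit k A P ∘ₗ (Hoch.Ind.equiv k A P).toLinearMap).rTensor A
        ((TensorProduct.assoc k P A A).symm (p ⊗ₜ[k] z)) =
      p ⊗ₜ[k] TensorProduct.lid k A ((CoalgebraStruct.counit (R := k) (A := A)).rTensor A z) := by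
  induction z using TensorProduct.induction_on with
  | zero => simp
  | add x y hx hy => simp only [TensorProduct.tmul_add, map_add, hx, hy]
  | tmul x y =>
    simp [Hoch.Ind.counit, Hoch.Ind.equiv, TensorProduct.smul_tmul', TensorProduct.tmul_smul]
    rfl

/-- `(counit ⊗ id) ∘ coact = id` on the induced comodule. -/
theorem counit_rTensor_coact (x : Hoch.Ind k A P) :
    Hoch.Ind.equiv k A P ((Hoch.Ind.counit k A P).rTensor A
      (HopfRep.Comod.coact (k := k) (A := A) x)) = x := by
  have h : (Hoch.Ind.counit k A P ∘ₗ (Hoch.Ind.equiv k A P).toLinearMap).rTensor A ∘ₗ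
      Hoch.Ind.coactAux k A P = LinearMap.id := by
    refine TensorProduct.ext' fun p a => ?_
    rw [LinearMap.comp_apply, Hoch.Ind.coactAux_tmul, counit_rTensor_assoc_symm,
      Coalgebra.rTensor_counit_comul, TensorProduct.lid_tmul, one_smul, LinearMap.id_apply]
  exact LinearMap.congr_fun h x

end Ind

section Exact

variable {k : Type u} [CommRing k] {A : Type v} [AddCommGroup A] [Module k A] [Module.Flat k A]
variable {V : Type w} [AddCommGroup V] [Module k V] {W : Type w'} [AddCommGroup W] [Module k W]

theorem ker_rTensor_eq (f : V →ₗ[k] W) :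
    LinearMap.ker (f.rTensor A) = LinearMap.range ((LinearMap.ker f).subtype.rTensor A) :=
  LinearMap.exact_iff.mp (Module.Flat.rTensor_exact A (LinearMap.exact_subtype_ker_map f))

omit [Module.Flat k A] in
theorem mem_range_rTensor_subtype_iff (U : Submodule k V) (x : V ⊗[k] A) :
    x ∈ LinearMap.range (U.subtype.rTensor A) ↔ U.mkQ.rTensor A x = 0 := by
  have h := _root_.rTensor_exact A (LinearMap.exact_subtype_mkQ U) U.mkQ_surjective
  exact (h x).symm

end Exact

end Groth.Agent.H66.Base
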