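import Groth.Prelude.Def_W4c1tameactTame
import Groth.Agent.H66.Base
import Mathlib.RingTheory.Coalgebra.Convolution
import Mathlib.RingTheory.HopfAlgebra.Convolution
import Mathlib.LinearAlgebra.Projection

/-!
Total integrals: the canonical retraction of the coaction, the Reynolds projector and exactness of
invariants.
-/

universe u v w w' w''

open TensorProduct WithConv

set_option linter.unusedSectionVars false
set_option linter.style.haveILetI false

namespace Groth.Agent.H66.Integral

noncomputable section

section Shear

variable {k : Type u} [CommRing k] {A : Type v} [CommRing A] [HopfAlgebra k A]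
variable (M : Type w) [AddCommGroup M] [Module k M] [HopfRep.Comod k A M]

local notation "ρ" => HopfRep.Comod.coact (k := k) (A := A)

/-- `m ⊗ a ↦ m₀ ⊗ g(m₁) a`. -/
def shear (g : A →ₗ[k] A) : M ⊗[k] A →ₗ[k] M ⊗[k] A :=
  (LinearMap.mul' k A ∘ₗ g.rTensor A).lTensor M ∘ₗ (TensorProduct.assoc k M A A).toLinearMap ∘ₗ
    (HopfRep.Comod.coact (k := k) (A := A)).rTensor A

variable {M}

/-- Right multiplication of the second factor. -/
def rmul (a : A) : M ⊗[k] A →ₗ[k] M ⊗[k] A := (LinearMap.mulRight k a).lTensor M

omit [HopfRep.Comod k A M] in
@[simp] theorem rmul_tmul (a : A) (m : M) (b : A) : rmul a (m ⊗ₜ[k] b) = m ⊗ₜ[k] (b * a) := by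
  simp [rmul]

theorem shear_tmul (g : A →ₗ[k] A) (m : M) (a : A) :
    shear M g (m ⊗ₜ[k] a) = rmul a (g.lTensor M (ρ m)) := by
  simp only [shear, LinearMap.comp_apply, LinearEquiv.coe_coe, LinearMap.rTensor_tmul]
  induction ρ m using TensorProduct.induction_on with
  | zero => simp
  | add x y hx hy => simp only [TensorProduct.add_tmul, map_add, hx, hy]
  | tmul x c => simp

theorem shear_shear (g h : A →ₗ[k] A) (x : M ⊗[k] A) :
    shear M g (shear M h x) = shear M ((toConv g * toConv h).ofConv) x := by
  induction x using TensorProduct.induction_on with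
  | zero => simp
  | add x y hx hy => simp only [map_add, hx, hy]
  | tmul m a =>
    rw [shear_tmul, shear_tmul]
    have e : ∀ y : M ⊗[k] A, shear M g (rmul a (h.lTensor M y)) =
        rmul a ((LinearMap.mul' k A ∘ₗ TensorProduct.map g h).lTensor M
          (TensorProduct.assoc k M A A ((HopfRep.Comod.coact (k := k) (A := A)).rTensor A y))) := by
      intro y
      induction y using TensorProduct.induction_on with
      | zero => simp
      | add p q hp hq => simp only [map_add, hp, hq]
      | tmul n b =>
        rw [LinearMap.lTensor_tmul, rmul_tmul, shear_tmul, LinearMap.rTensor_tmul]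
        induction ρ n using TensorProduct.induction_on with
        | zero => simp
        | add p q hp hq => simp only [TensorProduct.add_tmul, map_add, hp, hq]
        | tmul p q => simp [mul_assoc]
    rw [e, H66.Base.coassoc_apply, ← LinearMap.lTensor_comp_apply, LinearMap.comp_assoc]
    rfl

theorem shear_convOne (x : M ⊗[k] A) :
    shear M ((1 : WithConv (A →ₗ[k] A)).ofConv) x = x := by
  induction x using TensorProduct.induction_on with
  | zero => simp
  | add x y hx hy => simp only [map_add, hx, hy]
  | tmul m a =>
    rw [shear_tmul]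
    have h : (1 : WithConv (A →ₗ[k] A)).ofConv =
        Algebra.linearMap k A ∘ₗ CoalgebraStruct.counit (R := k) (A := A) := rfl
    rw [h, LinearMap.lTensor_comp_apply, H66.Base.counit_apply]
    simp

variable (M) in
/-- `m ⊗ a ↦ m₀ ⊗ S(m₁) a`. -/
def shearInv : M ⊗[k] A →ₗ[k] M ⊗[k] A := shear M (HopfAlgebraStruct.antipode (R := k) (A := A))

theorem shearInv_shear (x : M ⊗[k] A) : shearInv M (shear M LinearMap.id x) = x := by
  rw [shearInv, shear_shear]
  rw [show (toConv (HopfAlgebraStruct.antipode (R := k) (A := A)) * toConv LinearMap.id) = 1 from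
    LinearMap.antipode_mul_id]
  exact shear_convOne x

theorem shear_shearInv (x : M ⊗[k] A) : shear M LinearMap.id (shearInv M x) = x := by
  rw [shearInv, shear_shear]
  rw [show (toConv LinearMap.id * toConv (HopfAlgebraStruct.antipode (R := k) (A := A))) = 1 from
    LinearMap.id_mul_antipode]
  exact shear_convOne x

variable (M) in
/-- The diagonal coaction on `M ⊗ A`. -/
def diag : M ⊗[k] A →ₗ[k] (M ⊗[k] A) ⊗[k] A :=
  (LinearMap.mul' k A).lTensor (M ⊗[k] A) ∘ₗ
    (TensorProduct.tensorTensorTensorComm k M A A A).toLinearMap ∘ₗ
    TensorProduct.map (HopfRep.Comod.coact (k := k) (A := A)) (CoalgebraStruct.comul (R := k) (A := A))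

/-- The shear carries the diagonal coaction to the coaction of the induced comodule. -/
theorem coactAux_shear (x : M ⊗[k] A) :
    Hoch.Ind.coactAux k A M (shear M LinearMap.id x) = (shear M LinearMap.id).rTensor A (diag M x) := by
  induction x using TensorProduct.induction_on with
  | zero => simp
  | add x y hx hy => simp only [map_add, hx, hy]
  | tmul m a =>
    rw [shear_tmul, LinearMap.lTensor_id_apply]
    simp only [diag, LinearMap.comp_apply, LinearEquiv.coe_coe, TensorProduct.map_tmul]
    let L : A ⊗[k] A →ₗ[k] M ⊗[k] (A ⊗[k] A) →ₗ[k] (M ⊗[k] A) ⊗[k] A :=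
      { toFun := fun z => (TensorProduct.assoc k M A A).symm.toLinearMap ∘ₗ
          (LinearMap.mulRight k z).lTensor M
        map_add' := fun z z' => by
          ext p q r; simp [mul_add, TensorProduct.tmul_add]
        map_smul' := fun c z => by
          ext p q r; simp }
    have hL : ∀ y : M ⊗[k] A, Hoch.Ind.coactAux k A M (rmul a y) =
        L (CoalgebraStruct.comul (R := k) a) ((CoalgebraStruct.comul (R := k) (A := A)).lTensor M y) := by
      intro y
      induction y using TensorProduct.induction_on with
      | zero => simp
      | add p q hp hq => simp only [map_add, hp, hq]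
      | tmul n b => simp [L, Bialgebra.comul_mul]
    rw [hL, ← H66.Base.coassoc_apply]
    induction ρ m using TensorProduct.induction_on with
    | zero => simp
    | add p q hp hq => simp only [map_add, TensorProduct.add_tmul, hp, hq]
    | tmul n b =>
      induction CoalgebraStruct.comul (R := k) a using TensorProduct.induction_on with
      | zero => simp
      | add p q hp hq => simp only [map_add, LinearMap.add_apply, TensorProduct.tmul_add, hp, hq]
      | tmul p q =>
        simp only [LinearMap.rTensor_tmul, TensorProduct.tensorTensorTensorComm_tmul,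
          LinearMap.lTensor_tmul, LinearMap.mul'_apply, shear_tmul, LinearMap.id_coe, id_eq]
        induction ρ n using TensorProduct.induction_on with
        | zero => simp
        | add p q hp hq => simp only [map_add, TensorProduct.add_tmul, hp, hq]
        | tmul r s => simp [L]

theorem rTensor_shearInv_coactAux (x : M ⊗[k] A) :
    (shearInv M).rTensor A (Hoch.Ind.coactAux k A M x) = diag M (shearInv M x) := by
  conv_lhs => rw [← shear_shearInv x]
  rw [coactAux_shear, ← LinearMap.rTensor_comp_apply,
    show shearInv M ∘ₗ shear M LinearMap.id = LinearMap.id from LinearMap.ext shearInv_shear,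
    LinearMap.rTensor_id_apply]

end Shear

section HopfMod

variable {k : Type u} [CommRing k] {A : Type v} [CommRing A] [HopfAlgebra k A]
variable {B : Type w} [CommRing B] [Algebra k B] [HopfRep.Comod k A B]
variable (M : Type w') [AddCommGroup M] [Module k M] [Module B M] [IsScalarTower k B M]
  [HopfRep.Comod k A M]

/-- `m ⊗ a ↦ α(a) • m`. -/
def act (α : A →ₗ[k] B) : M ⊗[k] A →ₗ[k] M :=
  TensorProduct.lift ((Algebra.lsmul k k M : B →ₐ[k] Module.End k M).toLinearMap ∘ₗ α).flip

/-- The retraction of the coaction attached to a total integral. -/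
def retr (α : A →ₗ[k] B) : M ⊗[k] A →ₗ[k] M := act M α ∘ₗ shearInv M

variable {M}
variable {α : A →ₗ[k] B}

@[simp] theorem act_tmul (α : A →ₗ[k] B) (m : M) (a : A) : act M α (m ⊗ₜ[k] a) = α a • m := by
  simp [act]

variable [TameAct.IsHopfMod k A B M]

theorem coact_act (hα : Hoch.IsComodHom A α) (x : M ⊗[k] A) :
    HopfRep.Comod.coact (k := k) (A := A) (act M α x) = (act M α).rTensor A (diag M x) := by
  induction x using TensorProduct.induction_on with
  | zero => simp
  | add x y hx hy => simp only [map_add, hx, hy]
  | tmul m a =>
    rw [act_tmul, TameAct.IsHopfMod.coact_smul (k := k) (A := A), H66.Base.isComodHom_apply hα]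
    simp only [diag, LinearMap.comp_apply, LinearEquiv.coe_coe, TensorProduct.map_tmul]
    change TameAct.hmSMul k A B M (α.rTensor A (CoalgebraStruct.comul (R := k) a)) _ = _
    induction CoalgebraStruct.comul (R := k) a using TensorProduct.induction_on with
    | zero => simp
    | add p q hp hq => simp only [map_add, LinearMap.add_apply, TensorProduct.tmul_add, hp, hq]
    | tmul p q =>
      induction HopfRep.Comod.coact (k := k) (A := A) m using TensorProduct.induction_on with
      | zero => simp
      | add r s hr hs => simp only [map_add, TensorProduct.add_tmul, hr, hs]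
      | tmul r s => simp [mul_comm q s]

theorem coact_retr (hα : Hoch.IsComodHom A α) (x : M ⊗[k] A) :
    HopfRep.Comod.coact (k := k) (A := A) (retr M α x) = (retr M α).rTensor A (Hoch.Ind.coactAux k A M x) := by
  rw [retr, LinearMap.comp_apply, coact_act hα, LinearMap.rTensor_comp_apply, rTensor_shearInv_coactAux]

theorem retr_coact (hα1 : α 1 = 1) (m : M) : retr M α (HopfRep.Comod.coact (k := k) (A := A) m) = m := by
  have h : shear M LinearMap.id (m ⊗ₜ[k] (1 : A)) = HopfRep.Comod.coact (k := k) (A := A) m := by
    rw [shear_tmul, LinearMap.lTensor_id_apply, rmul, LinearMap.mulRight_one, LinearMap.lTensor_id_apply]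
  rw [← h, retr, LinearMap.comp_apply, shearInv_shear, act_tmul, hα1, one_smul]

theorem retr_tmul_one (α : A →ₗ[k] B) (m : M) :
    retr M α (m ⊗ₜ[k] (1 : A)) = TameAct.reynolds k A B M α m := by
  rw [retr, LinearMap.comp_apply, shearInv, shear_tmul, rmul, LinearMap.mulRight_one,
    LinearMap.lTensor_id_apply]
  simp only [TameAct.reynolds, LinearMap.comp_apply]
  induction HopfRep.Comod.coact (k := k) (A := A) m using TensorProduct.induction_on with
  | zero => simp
  | add r s hr hs => simp only [map_add, hr, hs]
  | tmul r s => simp

theorem reynolds_mem (hα : Hoch.IsComodHom A α) (m : M) :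
    TameAct.reynolds k A B M α m ∈ HopfRep.fixedPts k A M := by
  change HopfRep.Comod.coact (k := k) (A := A) (TameAct.reynolds k A B M α m) =
    TameAct.reynolds k A B M α m ⊗ₜ[k] (1 : A)
  rw [← retr_tmul_one, coact_retr hα, Hoch.Ind.coactAux_tmul, Bialgebra.comul_one,
    Algebra.TensorProduct.one_def, TensorProduct.assoc_symm_tmul, LinearMap.rTensor_tmul]

theorem reynolds_eq_self (hα1 : α 1 = 1) {m : M} (hm : m ∈ HopfRep.fixedPts k A M) :
    TameAct.reynolds k A B M α m = m := by
  rw [TameAct.reynolds_apply_of_coact_eq k A B M α m m 1 hm, HopfAlgebra.antipode_one, hα1, one_smul]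

variable {N : Type w''} [AddCommGroup N] [Module k N] [Module B N] [IsScalarTower k B N]
  [HopfRep.Comod k A N]

theorem reynolds_natural (f : M →ₗ[B] N) (hf : Hoch.IsComodHom A (f.restrictScalars k)) (m : M) :
    f (TameAct.reynolds k A B M α m) = TameAct.reynolds k A B N α (f m) := by
  have h := H66.Base.isComodHom_apply hf m
  simp only [LinearMap.restrictScalars_apply] at h
  simp only [TameAct.reynolds, LinearMap.comp_apply, h]
  induction HopfRep.Comod.coact (k := k) (A := A) m using TensorProduct.induction_on with
  | zero => simp
  | add r s hr hs => simp only [map_add, hr, hs]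
  | tmul r s => simp

end HopfMod

section AlgAct

variable {k : Type u} [CommRing k] {A : Type v} [CommRing A] [HopfAlgebra k A]
variable {B : Type w} [CommRing B] [Algebra k B] [HopfRep.Comod k A B] [GLin.IsCoactAlg k A B]

theorem hmSMul_self (x y : B ⊗[k] A) : TameAct.hmSMul k A B B x y = x * y := by
  induction x using TensorProduct.induction_on with
  | zero => simp
  | add p q hp hq => simp only [map_add, LinearMap.add_apply, hp, hq, add_mul]
  | tmul b a =>
    induction y using TensorProduct.induction_on with
    | zero => simp
    | add p q hp hq => simp only [map_add, hp, hq, mul_add]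
    | tmul c d => simp

/-- An algebra with a multiplicative coaction is a Hopf module over itself. -/
theorem isHopfMod_self : TameAct.IsHopfMod k A B B :=
  ⟨fun b m => by
    rw [hmSMul_self, ← GLin.coactAlgHom_apply, ← GLin.coactAlgHom_apply, ← GLin.coactAlgHom_apply,
      smul_eq_mul, map_mul]⟩

end AlgAct

section Trivial

variable {k : Type u} [CommRing k] {A : Type v} [CommRing A] [HopfAlgebra k A]

variable (k A) in
/-- Every comodule is a Hopf module over the base with the trivial coaction. -/
theorem isHopfMod_trivial (M : Type w) [AddCommGroup M] [Module k M] [HopfRep.Comod k A M] :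
    letI := HopfRep.Comod.trivial k A k
    TameAct.IsHopfMod k A k M := by
  letI := HopfRep.Comod.trivial k A k
  refine ⟨fun b m => ?_⟩
  change HopfRep.Comod.coact (k := k) (A := A) (b • m) =
    TameAct.hmSMul k A k M (b ⊗ₜ[k] (1 : A)) (HopfRep.Comod.coact (k := k) (A := A) m)
  rw [map_smul]
  induction HopfRep.Comod.coact (k := k) (A := A) m using TensorProduct.induction_on with
  | zero => simp
  | add r s hr hs => simp only [map_add, smul_add, hr, hs]
  | tmul r s => simp [TensorProduct.smul_tmul']

/-- A total integral for the trivial action splits every inclusion of a comodule which splits linearly. -/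
theorem exists_comodHom_leftInverse (α : A →ₗ[k] k)
    (hα : @Hoch.IsComodHom k _ A _ _ _ A _ _ _ k _ _ (HopfRep.Comod.trivial k A k) α) (h1 : α 1 = 1)
    {U : Type w} [AddCommGroup U] [Module k U] [HopfRep.Comod k A U]
    {V : Type w'} [AddCommGroup V] [Module k V] [HopfRep.Comod k A V]
    (i : U →ₗ[k] V) (hi : Hoch.IsComodHom A i) (p : V →ₗ[k] U) (hp : p ∘ₗ i = LinearMap.id) :
    ∃ q : V →ₗ[k] U, Hoch.IsComodHom A q ∧ q ∘ₗ i = LinearMap.id := by
  letI := HopfRep.Comod.trivial k A k
  haveI := isHopfMod_trivial k A U
  refine ⟨retr U α ∘ₗ p.rTensor A ∘ₗ HopfRep.Comod.coact (k := k) (A := A), LinearMap.ext fun v => ?_,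
    LinearMap.ext fun u => ?_⟩
  · simp only [LinearMap.comp_apply]
    rw [coact_retr hα]
    have e : ∀ y : V ⊗[k] A, Hoch.Ind.coactAux k A U (p.rTensor A y) =
        (p.rTensor A).rTensor A (Hoch.Ind.coactAux k A V y) := by
      intro y
      induction y using TensorProduct.induction_on with
      | zero => simp
      | add r s hr hs => simp only [map_add, hr, hs]
      | tmul r s =>
        simp only [LinearMap.rTensor_tmul, Hoch.Ind.coactAux_tmul]
        induction Coalgebra.comul (R := k) s using TensorProduct.induction_on with
        | zero => simp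
        | add x y hx hy => simp only [TensorProduct.tmul_add, map_add, hx, hy]
        | tmul x y => simp
    have c : Hoch.Ind.coactAux k A V (HopfRep.Comod.coact (k := k) (A := A) v) =
        (HopfRep.Comod.coact (k := k) (A := A) (V := V)).rTensor A (HopfRep.Comod.coact (k := k) (A := A) v) := by
      rw [H66.Base.coassoc_symm_apply]; rfl
    rw [e, c, ← LinearMap.rTensor_comp_apply, ← LinearMap.rTensor_comp_apply]
    rfl
  · simp only [LinearMap.comp_apply, LinearMap.id_apply]
    rw [H66.Base.isComodHom_apply hi, ← LinearMap.rTensor_comp_apply, hp, LinearMap.rTensor_id_apply,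
      retr_coact h1]

end Trivial

end

end Groth.Agent.H66.Integral
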