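import Groth.Prelude.Def_CoactBr2
import Groth.Prelude.Def_W4c1tameactTame
import Groth.Agent.H66.Integral
import Groth.Agent.Lib.Comod.Reynolds
import Mathlib.LinearAlgebra.Projection

/-!
Base change and descent of total integrals.
-/

universe u v w w' v'

open TensorProduct Groth.Agent.Lib.Comod.Basic Groth.Agent.Lib.Comod.Reynolds

set_option linter.unusedSectionVars false
set_option linter.style.haveILetI false

namespace Groth.Agent.H66.Tame

noncomputable section

section BaseChange

variable {R : Type u} [CommRing R] {S : Type v} [CommRing S] [Algebra R S]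
variable {A : Type w} [CommRing A] [Bialgebra R A]
variable {B : Type w'} [AddCommGroup B] [Module R B] [HopfRep.Comod R A B]

theorem baseChange_coact (x : S ⊗[R] B) :
    (CoactBr.Comod.baseChange R S A B).coact x =
      AlgebraTensorModule.distribBaseChange R S B A
        ((HopfRep.Comod.coact (k := R) (A := A) (V := B)).baseChange S x) := by
  induction x using TensorProduct.induction_on with
  | zero => simp
  | add a b ha hb => simp only [map_add, ha, hb]
  | tmul s v =>
    refine (CoactBr.baseChange_coact_tmul R S A B s v).trans ?_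
    rw [LinearMap.baseChange_tmul]
    induction HopfRep.Comod.coact (k := R) (A := A) v using TensorProduct.induction_on with
    | zero => simp
    | add p q hp hq => simp only [TensorProduct.tmul_add, map_add, hp, hq]
    | tmul p q =>
      simp only [AlgebraTensorModule.tensorTensorTensorComm_tmul,
        AlgebraTensorModule.distribBaseChange_tmul]
      rw [show s ⊗ₜ[R] p = s • ((1 : S) ⊗ₜ[R] p) by rw [TensorProduct.smul_tmul', smul_eq_mul, mul_one],
        show s ⊗ₜ[R] q = s • ((1 : S) ⊗ₜ[R] q) by rw [TensorProduct.smul_tmul', smul_eq_mul, mul_one],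
        TensorProduct.smul_tmul]

theorem comul_baseChange (x : S ⊗[R] A) :
    CoalgebraStruct.comul (R := S) x =
      AlgebraTensorModule.distribBaseChange R S A A
        ((CoalgebraStruct.comul (R := R) (A := A)).baseChange S x) :=
  baseChange_coact (R := R) (S := S) (A := A) (B := A) x

theorem isComodHom_baseChange {α : A →ₗ[R] B} (hα : Hoch.IsComodHom A α) :
    @Hoch.IsComodHom S _ (S ⊗[R] A) _ _ _ (S ⊗[R] A) _ _ (HopfRep.Comod.regular S (S ⊗[R] A))
      (S ⊗[R] B) _ _ (CoactBr.Comod.baseChange R S A B) (α.baseChange S) := by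
  refine LinearMap.ext fun x => ?_
  simp only [LinearMap.comp_apply]
  change (CoactBr.Comod.baseChange R S A B).coact _ =
    (α.baseChange S).rTensor (S ⊗[R] A) (CoalgebraStruct.comul (R := S) x)
  rw [baseChange_coact, comul_baseChange]
  induction x using TensorProduct.induction_on with
  | zero => simp
  | add a b ha hb => simp only [map_add, ha, hb]
  | tmul s a =>
    simp only [LinearMap.baseChange_tmul]
    rw [H66.Base.isComodHom_apply hα]
    induction CoalgebraStruct.comul (R := R) a using TensorProduct.induction_on with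
    | zero => simp
    | add p q hp hq => simp only [map_add, TensorProduct.tmul_add, hp, hq]
    | tmul p q => simp

/-- A comodule map out of the base-changed regular comodule descends along an equivariant retraction. -/
theorem isComodHom_descend {B' : Type v'} [AddCommGroup B'] [Module R B'] [HopfRep.Comod R A B']
    (m : S ⊗[R] B' →ₗ[R] B)
    (hm : ∀ x : S ⊗[R] B', HopfRep.Comod.coact (k := R) (A := A) (m x) = m.rTensor A
      ((TensorProduct.assoc R S B' A).symm ((HopfRep.Comod.coact (k := R) (A := A) (V := B')).baseChange S x)))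
    (β : S ⊗[R] A →ₗ[S] S ⊗[R] B')
    (hβ : @Hoch.IsComodHom S _ (S ⊗[R] A) _ _ _ (S ⊗[R] A) _ _ (HopfRep.Comod.regular S (S ⊗[R] A))
      (S ⊗[R] B') _ _ (CoactBr.Comod.baseChange R S A B') β) :
    Hoch.IsComodHom A (m ∘ₗ β.restrictScalars R ∘ₗ TensorProduct.mk R S A 1) := by
  refine LinearMap.ext fun a => ?_
  let G : (S ⊗[R] B') ⊗[S] (S ⊗[R] A) →ₗ[R] B ⊗[R] A :=
    m.rTensor A ∘ₗ (TensorProduct.assoc R S B' A).symm.toLinearMap ∘ₗ
      (AlgebraTensorModule.distribBaseChange R S B' A).symm.toLinearMap.restrictScalars R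
  have h := congrArg G (LinearMap.congr_fun hβ ((1 : S) ⊗ₜ[R] a))
  simp only [LinearMap.comp_apply] at h
  change G ((CoactBr.Comod.baseChange R S A B').coact _) =
    G (β.rTensor (S ⊗[R] A) (CoalgebraStruct.comul (R := S) _)) at h
  rw [baseChange_coact, comul_baseChange, LinearMap.baseChange_tmul] at h
  have hG : ∀ z, G (AlgebraTensorModule.distribBaseChange R S B' A z) =
      m.rTensor A ((TensorProduct.assoc R S B' A).symm z) := fun z => by
    simp [G]
  rw [hG, ← hm] at h
  simp only [LinearMap.comp_apply, LinearMap.restrictScalars_apply, TensorProduct.mk_apply]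
  refine h.trans ?_
  change _ = LinearMap.rTensor A _ (CoalgebraStruct.comul (R := R) a)
  induction CoalgebraStruct.comul (R := R) a using TensorProduct.induction_on with
  | zero => simp
  | add p q hp hq => simp only [map_add, TensorProduct.tmul_add, hp, hq]
  | tmul p q =>
    rw [AlgebraTensorModule.distribBaseChange_tmul, LinearMap.rTensor_tmul, LinearMap.rTensor_tmul]
    simp only [LinearMap.comp_apply, LinearMap.restrictScalars_apply, TensorProduct.mk_apply]
    induction β ((1 : S) ⊗ₜ[R] p) using TensorProduct.induction_on with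
    | zero => simp
    | add c d hc hd => simp only [map_add, TensorProduct.add_tmul, hc, hd]
    | tmul t b =>
      rw [← LinearMap.rTensor_tmul, show (t ⊗ₜ[R] b) ⊗ₜ[S] ((1 : S) ⊗ₜ[R] q) =
        AlgebraTensorModule.distribBaseChange R S B' A (t ⊗ₜ[R] (b ⊗ₜ[R] q)) from ?_, hG,
        TensorProduct.assoc_symm_tmul]
      rw [AlgebraTensorModule.distribBaseChange_tmul]

end BaseChange

section Field

variable (k : Type u) [Field k] (A : Type v) [CommRing A] [HopfAlgebra k A]

/-- A total integral for the trivial action. -/
def HasIntegral : Prop :=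
  ∃ α : A →ₗ[k] k, α 1 = 1 ∧ ∀ a, α a ⊗ₜ[k] (1 : A) = α.rTensor A (CoalgebraStruct.comul a)

variable {k A}

theorem isSemisimpleComod_of_hasIntegral (h : HasIntegral k A) (V : Type w) [AddCommGroup V] [Module k V]
    [HopfRep.Comod k A V] : HopfRep.IsSemisimpleComod k A V := by
  obtain ⟨α, h1, hα⟩ := h
  intro W hW
  letI cW : HopfRep.Comod k A W := subComod W hW
  obtain ⟨p, hp⟩ := W.subtype.exists_leftInverse_of_injective (LinearMap.ker_eq_bot.2 W.injective_subtype)
  obtain ⟨q, hq, hqi⟩ := Integral.exists_comodHom_leftInverse α (LinearMap.ext hα) h1 W.subtype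
    (isComodHom_subtype hW) p hp
  exact ⟨LinearMap.ker q, isSubcomod_ker hq, LinearMap.isCompl_of_proj fun w => LinearMap.congr_fun hqi w⟩

theorem hasIntegral_iff : HasIntegral k A ↔ HopfRep.IsLinearlyReductive k A := by
  refine ⟨fun h V _ _ _ _ => isSemisimpleComod_of_hasIntegral h V, fun hG => ?_⟩
  obtain ⟨E, hE⟩ := exists_isReynolds (k := k) (A := A) A hG
  refine ⟨CoalgebraStruct.counit ∘ₗ E, ?_, fun a => ?_⟩
  · rw [LinearMap.comp_apply, hE.apply_of_mem]
    · exact Bialgebra.counit_one
    · exact Bialgebra.comul_one.trans Algebra.TensorProduct.one_def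
  · have h1 : CoalgebraStruct.comul (R := k) (E a) = E.rTensor A (CoalgebraStruct.comul a) :=
      LinearMap.congr_fun hE.1 a
    rw [show CoalgebraStruct.comul (R := k) (E a) = E a ⊗ₜ[k] (1 : A) from hE.mem a] at h1
    rw [LinearMap.rTensor_comp_apply, ← h1, LinearMap.rTensor_tmul, LinearMap.comp_apply]

end Field

section FieldExt

variable {k : Type u} [Field k] {K : Type v} [Field K] [Algebra k K]
variable {A : Type w} [CommRing A] [HopfAlgebra k A]

theorem hasIntegral_baseChange (h : HasIntegral k A) : HasIntegral K (K ⊗[k] A) := by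
  obtain ⟨α, h1, hα⟩ := h
  refine ⟨(AlgebraTensorModule.rid k K K).toLinearMap ∘ₗ α.baseChange K, ?_, fun x => ?_⟩
  · simp [Algebra.TensorProduct.one_def, h1]
  rw [comul_baseChange]
  induction x using TensorProduct.induction_on with
  | zero => simp
  | add a b ha hb => simp only [map_add, TensorProduct.add_tmul, ha, hb]
  | tmul s a =>
    have hh : ∀ z : A ⊗[k] A,
        ((AlgebraTensorModule.rid k K K).toLinearMap ∘ₗ α.baseChange K).rTensor (K ⊗[k] A)
          (AlgebraTensorModule.distribBaseChange k K A A (s ⊗ₜ[k] z)) =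
        (1 : K) ⊗ₜ[K] (s ⊗ₜ[k] TensorProduct.lid k A (α.rTensor A z)) := by
      intro z
      induction z using TensorProduct.induction_on with
      | zero => simp
      | add p q hp hq => simp only [TensorProduct.tmul_add, map_add, hp, hq]
      | tmul p q =>
        simp only [AlgebraTensorModule.distribBaseChange_tmul, LinearMap.rTensor_tmul, LinearMap.comp_apply,
          LinearMap.baseChange_tmul, LinearEquiv.coe_coe, AlgebraTensorModule.rid_tmul, TensorProduct.lid_tmul]
        rw [show (α p • s : K) = (α p • s) • (1 : K) by rw [smul_eq_mul (a := α p • s), mul_one],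
          TensorProduct.smul_tmul, TensorProduct.smul_tmul', smul_eq_mul, mul_one, TensorProduct.smul_tmul]
    simp only [LinearMap.baseChange_tmul]
    rw [hh, ← hα, TensorProduct.lid_tmul]
    simp only [LinearMap.comp_apply, LinearEquiv.coe_coe, LinearMap.baseChange_tmul,
      AlgebraTensorModule.rid_tmul, Algebra.TensorProduct.one_def]
    rw [show (α a • s) = (algebraMap k K (α a) * s) • (1 : K) by
        rw [smul_eq_mul, mul_one, Algebra.smul_def],
      TensorProduct.smul_tmul]
    congr 1
    rw [TensorProduct.smul_tmul', TensorProduct.tmul_smul, TensorProduct.smul_tmul', smul_eq_mul, mul_one,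
      Algebra.smul_def]

theorem hasIntegral_descend (h : HasIntegral K (K ⊗[k] A)) : HasIntegral k A := by
  obtain ⟨β, h1, hβ⟩ := h
  obtain ⟨r, hr⟩ := (Algebra.linearMap k K).exists_leftInverse_of_injective
    (LinearMap.ker_eq_bot.2 (algebraMap k K).injective)
  have hr1 : r 1 = 1 := by simpa using LinearMap.congr_fun hr (1 : k)
  refine ⟨r ∘ₗ β.restrictScalars k ∘ₗ TensorProduct.mk k K A 1, ?_, fun a => ?_⟩
  · simp only [LinearMap.comp_apply, LinearMap.restrictScalars_apply, TensorProduct.mk_apply]
    rw [← Algebra.TensorProduct.one_def, h1, hr1]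
  let G : K ⊗[K] (K ⊗[k] A) →ₗ[k] k ⊗[k] A :=
    r.rTensor A ∘ₗ (TensorProduct.lid K (K ⊗[k] A)).toLinearMap.restrictScalars k
  have h := congrArg G (hβ ((1 : K) ⊗ₜ[k] a))
  rw [comul_baseChange, LinearMap.baseChange_tmul] at h
  simp only [G, LinearMap.comp_apply, LinearMap.restrictScalars_apply, LinearEquiv.coe_coe,
    TensorProduct.lid_tmul, Algebra.TensorProduct.one_def, TensorProduct.smul_tmul', smul_eq_mul, mul_one,
    LinearMap.rTensor_tmul] at h
  simp only [LinearMap.comp_apply, LinearMap.restrictScalars_apply, TensorProduct.mk_apply]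
  refine h.trans ?_
  induction CoalgebraStruct.comul (R := k) a using TensorProduct.induction_on with
  | zero => simp
  | add p q hp hq => simp only [map_add, TensorProduct.tmul_add, hp, hq]
  | tmul p q =>
    simp [TensorProduct.smul_tmul']

end FieldExt

end

end Groth.Agent.H66.Tame
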