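import Groth.Agent.H66.Stab
import Mathlib.RingTheory.FiniteType
import Mathlib.RingTheory.Noetherian.Basic
import Mathlib.LinearAlgebra.Basis.Prod
import Mathlib.LinearAlgebra.Projection

/-!
Every closed subgroup of an affine group is the stabilizer of a coordinate subspace.
-/

universe u v w

open TensorProduct Matrix Groth.Agent.Lib.Comod.Basic

set_option linter.unusedSectionVars false
set_option linter.style.haveILetI false

namespace Groth.Agent.H66.Chevalley

noncomputable section

variable {k : Type u} [Field k]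

theorem exists_adapted {V : Type v} [AddCommGroup V] [Module k V] [Module.Finite k V] (W : Submodule k V) :
    ∃ (d e : ℕ) (b : Module.Basis (Fin d ⊕ Fin e) k V),
      (∀ a, b (Sum.inl a) ∈ W) ∧ ∀ w ∈ W, ∀ c, b.coord (Sum.inr c) w = 0 := by
  obtain ⟨C, hC⟩ := W.exists_isCompl
  let bW := Module.finBasis k W
  let bC := Module.finBasis k C
  refine ⟨_, _, (bW.prod bC).map (Submodule.prodEquivOfIsCompl W C hC), fun a => ?_, fun w hw c => ?_⟩
  · simp
  · rw [Module.Basis.coord_apply, Module.Basis.map_repr, LinearEquiv.trans_apply,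
      show (Submodule.prodEquivOfIsCompl W C hC).symm w = ((⟨w, hw⟩ : W), (0 : C)) from
        Submodule.prodEquivOfIsCompl_symm_apply_left _ _ hC (⟨w, hw⟩ : W)]
    simp

variable {A : Type u} [CommRing A] [HopfAlgebra k A] [Algebra.FiniteType k A]

/-- A closed subgroup is cut out by the entries leading out of a coordinate subspace. -/
theorem exists_data (I : Ideal A) [hI : (I.restrictScalars k).IsCoideal] :
    ∃ (ι : Type) (_ : Fintype ι) (_ : DecidableEq ι) (P : Matrix ι ι A) (d : ℕ) (s : Fin d ↪ ι),
      MatComod.IsMat k P ∧ Stab.blockIdeal P s = I := by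
  haveI : IsNoetherianRing A := Algebra.FiniteType.isNoetherianRing k A
  obtain ⟨t, ht⟩ := (IsNoetherian.noetherian I : I.FG)
  let V : Submodule k A := ⨆ a ∈ t, cyclic (k := k) (A := A) A a
  have hV : HopfRep.IsSubcomod (k := k) (A := A) V :=
    isSubcomod_iSup fun a => isSubcomod_iSup fun _ => isSubcomod_cyclic a
  have htV : ∀ a ∈ t, a ∈ V := fun a ha =>
    (le_iSup₂_of_le (f := fun a (_ : a ∈ t) => cyclic (k := k) (A := A) A a) a ha le_rfl)
      (self_mem_cyclic A a)
  haveI : Module.Finite k V := Module.Finite.iff_fg.2 (Submodule.fg_biSup t _ fun a _ => cyclic_fg A a)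
  letI cV := subComod V hV
  obtain ⟨d, e, b, hb1, hb2⟩ := exists_adapted ((I.restrictScalars k).comap V.subtype)
  refine ⟨Fin d ⊕ Fin e, inferInstance, inferInstance, MatComod.ofBasis b, d, ⟨Sum.inl, Sum.inl_injective⟩,
    MatComod.isMat_ofBasis b, le_antisymm (Ideal.span_le.2 ?_) ?_⟩
  · rintro _ ⟨i, a, hi, rfl⟩
    obtain ⟨i, rfl⟩ : ∃ c, i = Sum.inr c := by
      rcases i with i | i
      · exact absurd ⟨i, rfl⟩ hi
      · exact ⟨i, rfl⟩
    let q : A →ₗ[k] A ⧸ I.restrictScalars k := Submodule.mkQ _
    let U : Submodule k V := Submodule.span k (Set.range (b ∘ Sum.inr))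
    let f : U →ₗ[k] A ⧸ I.restrictScalars k := (q ∘ₗ V.subtype) ∘ₗ U.subtype
    have hU : LinearMap.ker f = ⊥ := by
      refine LinearMap.ker_eq_bot'.2 fun u hu => Subtype.ext ?_
      have hu' : (u : V) ∈ (I.restrictScalars k).comap V.subtype := (Submodule.Quotient.mk_eq_zero (I.restrictScalars k)).1 hu
      refine b.forall_coord_eq_zero_iff.1 fun j => ?_
      rcases j with j | j
      · refine (Submodule.span_le (p := LinearMap.ker (b.coord (Sum.inl j)))).2 ?_ u.2
        rintro _ ⟨c, rfl⟩
        simp
      · exact hb2 _ hu' j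
    obtain ⟨L, hL⟩ : ∃ L : (A ⧸ I.restrictScalars k) →ₗ[k] U, L ∘ₗ f = LinearMap.id :=
      LinearMap.exists_leftInverse_of_injective (K := k) (V := U) (V' := A ⧸ I.restrictScalars k) f hU
    let φ : (A ⧸ I.restrictScalars k) →ₗ[k] k := b.coord (Sum.inr i) ∘ₗ U.subtype ∘ₗ L
    have hφr : ∀ c, φ (q (b (Sum.inr c) : V)) = if c = i then 1 else 0 := by
      intro c
      have := LinearMap.congr_fun hL ⟨b (Sum.inr c), Submodule.subset_span ⟨c, rfl⟩⟩
      simp only [f, LinearMap.comp_apply, Submodule.subtype_apply, LinearMap.id_apply] at this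
      simp only [φ, LinearMap.comp_apply, this, Submodule.subtype_apply]
      simp [Finsupp.single_apply]
    have hφl : ∀ a, φ (q (b (Sum.inl a) : V)) = 0 := by
      intro a
      rw [show q (b (Sum.inl a) : V) = 0 from (Submodule.Quotient.mk_eq_zero _).2 (hb1 a), map_zero]
    have h0 := hI.map_mkQ_comul_eq_zero (hb1 a)
    rw [show CoalgebraStruct.comul (R := k) (V.subtype (b (Sum.inl a))) =
      V.subtype.rTensor A (cV.coact (b (Sum.inl a))) from LinearMap.congr_fun (isComodHom_subtype hV) _,
      MatComod.coact_basis b] at h0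
    have h1 := congrArg (TensorProduct.lid k (A ⧸ I.restrictScalars k) ∘ φ.rTensor (A ⧸ I.restrictScalars k)) h0
    simp only [Function.comp_apply, Fintype.sum_sum_type, map_add, map_sum, LinearMap.rTensor_tmul, TensorProduct.map_tmul, TensorProduct.lid_tmul,
      Submodule.subtype_apply, map_zero] at h1
    simp only [q] at hφr hφl
    simp only [hφl, hφr, zero_smul, Finset.sum_const_zero, zero_add, ite_smul, one_smul, Finset.sum_ite_eq',
      Finset.mem_univ, if_true] at h1
    exact (Submodule.Quotient.mk_eq_zero (I.restrictScalars k)).1 h1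
  · rw [← ht]
    refine Ideal.span_le.2 fun a ha => ?_
    have haI : a ∈ I := ht ▸ Ideal.subset_span ha
    let w : V := ⟨a, htV a ha⟩
    have hw : ∀ c, b.coord (Sum.inr c) w = 0 := hb2 w haI
    have hsum : a = ∑ j, b.repr w j • (b j : A) := by
      conv_lhs => rw [show a = V.subtype w from rfl, ← b.sum_repr w, map_sum]
      simp
    rw [hsum, Fintype.sum_sum_type]
    simp only [Module.Basis.coord_apply] at hw
    simp only [hw, zero_smul, Finset.sum_const_zero, add_zero]
    refine Submodule.sum_mem _ fun j _ => Submodule.smul_of_tower_mem _ _ ?_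
    have h2 := congrArg (TensorProduct.lid k A ∘ (CoalgebraStruct.counit (R := k) (A := A)).rTensor A)
      ((LinearMap.congr_fun (isComodHom_subtype hV) (b (Sum.inl j))).trans
        (congrArg (V.subtype.rTensor A) (MatComod.coact_basis b (Sum.inl j))))
    simp only [Function.comp_apply, LinearMap.comp_apply] at h2
    change TensorProduct.lid k A ((CoalgebraStruct.counit (R := k) (A := A)).rTensor A
      (CoalgebraStruct.comul (R := k) (b (Sum.inl j) : A))) = _ at h2
    rw [Coalgebra.rTensor_counit_comul, TensorProduct.lid_tmul, one_smul] at h2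
    rw [h2]
    simp only [Fintype.sum_sum_type, map_add, map_sum, LinearMap.rTensor_tmul, Submodule.subtype_apply,
      TensorProduct.lid_tmul]
    refine Submodule.add_mem _ (Submodule.sum_mem _ fun c _ => ?_) (Submodule.sum_mem _ fun c _ => ?_)
    · rw [show CoalgebraStruct.counit (R := k) (b (Sum.inl c) : A) = 0 from hI.counit_eq_zero (hb1 c), zero_smul]
      exact Submodule.zero_mem _
    · exact Submodule.smul_of_tower_mem _ _ (Stab.mem_blockIdeal _ _ (fun ⟨x, hx⟩ => Sum.inl_ne_inr hx) j)

end

end Groth.Agent.H66.Chevalley
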