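import Groth.Agent.H66.MatComod
import Mathlib.RingTheory.Coalgebra.GroupLike

/-!
Coordinates of points acting on comodules.
-/

universe u v w

open TensorProduct Matrix

set_option linter.unusedSectionVars false
set_option linter.style.haveILetI false

namespace Groth.Agent.H66.MatPoints

noncomputable section

variable {k : Type u} [Field k] {A : Type u} [CommRing A] [HopfAlgebra k A]
variable {V : Type v} [AddCommGroup V] [Module k V] [HopfRep.Comod k A V]
variable {R : Type u} [CommRing R] [Algebra k R]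

theorem apply_lTensor_coact (g : A →ₐ[k] R) (φ : V →ₗ[k] k) (v : V) :
    TensorProduct.lid k R (φ.rTensor R (LinearMap.lTensor V g.toLinearMap
      (HopfRep.Comod.coact (k := k) (A := A) v))) = g (H66.Coeff.coeff (C := A) φ v) := by
  rw [H66.Coeff.coeff_apply]
  induction HopfRep.Comod.coact (k := k) (A := A) v using TensorProduct.induction_on with
  | zero => simp
  | add a b ha hb => simp only [map_add, ha, hb]
  | tmul a b => simp

theorem mem_range_iff (U : Submodule k V) (z : V ⊗[k] R) :
    z ∈ LinearMap.range (U.subtype.rTensor R) ↔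
      ∀ φ : V →ₗ[k] k, (∀ u ∈ U, φ u = 0) → TensorProduct.lid k R (φ.rTensor R z) = 0 := by
  constructor
  · rintro ⟨y, rfl⟩ φ hφ
    rw [← LinearMap.rTensor_comp_apply, show φ ∘ₗ U.subtype = 0 from LinearMap.ext fun x => hφ _ x.2]
    simp
  · intro h
    rw [H66.Base.mem_range_rTensor_subtype_iff]
    classical
    let bq := Module.Free.chooseBasis k (V ⧸ U)
    refine (TensorProduct.equivFinsuppOfBasisLeft bq (N := R)).injective (Finsupp.ext fun i => ?_)
    have h1 := h (bq.coord i ∘ₗ U.mkQ) fun u hu => by simp [(Submodule.Quotient.mk_eq_zero U).2 hu]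
    rw [map_zero, Finsupp.zero_apply, ← h1]
    clear h h1
    induction z using TensorProduct.induction_on with
    | zero => simp
    | add p q hp hq => simp only [map_add, Finsupp.add_apply, hp, hq]
    | tmul v r => simp

variable {ι : Type w} [Fintype ι] [DecidableEq ι] (b : Module.Basis ι k V)

theorem apply_coord (g : A →ₐ[k] R) (v : V) (i : ι) :
    g (H66.Coeff.coeff (C := A) (b.coord i) v) =
      (((MatComod.ofBasis b).map g) *ᵥ MatComod.up R (fun j => b.repr v j)) i := by
  conv_lhs => rw [← b.sum_repr v]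
  simp only [map_sum, map_smul, Matrix.mulVec, dotProduct, Matrix.map_apply, MatComod.up, Algebra.smul_def]
  refine Finset.sum_congr rfl fun j _ => ?_
  rw [map_mul, AlgHom.commutes, mul_comm]
  rfl

theorem mulVec_eq_of_coact (g : A →ₐ[k] R) {v : V} {c : R}
    (h : LinearMap.lTensor V g.toLinearMap (HopfRep.Comod.coact (k := k) (A := A) v) = v ⊗ₜ[k] c) :
    ((MatComod.ofBasis b).map g) *ᵥ MatComod.up R (fun j => b.repr v j) =
      c • MatComod.up R (fun j => b.repr v j) := by
  funext i
  rw [← apply_coord, ← apply_lTensor_coact, h, LinearMap.rTensor_tmul, TensorProduct.lid_tmul, Pi.smul_apply,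
    MatComod.up, Algebra.smul_def, smul_eq_mul, mul_comm, Module.Basis.coord_apply]

end

section Pw

variable {k : Type u} [Field k] {A : Type u} [CommRing A] [HopfAlgebra k A] {R : Type u} [CommRing R] [Algebra k R]
variable {ι κ : Type w} [Fintype ι] [DecidableEq ι] [Fintype κ] [DecidableEq κ]

theorem pw_mulVec (P : Matrix ι ι A) (g : A →ₐ[k] R) (x : ι → k) (d : ℕ) (I : Fin d → ι) :
    (((MatComod.pw P d).map g) *ᵥ MatComod.up R (fun J : Fin d → ι => ∏ a, x (J a))) I =
      ∏ a, ((P.map g) *ᵥ MatComod.up R x) (I a) := by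
  simp only [Matrix.mulVec, dotProduct, Matrix.map_apply, MatComod.pw, Fintype.prod_sum, MatComod.up, map_prod]
  exact Finset.sum_congr rfl fun _ _ => Finset.prod_mul_distrib.symm

theorem kron_mulVec (P : Matrix ι ι A) (Q : Matrix κ κ A) (g : A →ₐ[k] R) (x : ι → k) (y : κ → k) (a : ι × κ) :
    (((MatComod.kron P Q).map g) *ᵥ MatComod.up R (fun p : ι × κ => x p.1 * y p.2)) a =
      ((P.map g) *ᵥ MatComod.up R x) a.1 * ((Q.map g) *ᵥ MatComod.up R y) a.2 := by
  simp only [Matrix.mulVec, dotProduct, Matrix.map_apply, MatComod.kron, MatComod.up, map_mul,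
    Fintype.sum_prod_type, Finset.sum_mul_sum]
  exact Finset.sum_congr rfl fun p _ => Finset.sum_congr rfl fun q _ => by ring

theorem isGroupLike_of_coact {V : Type v} [AddCommGroup V] [Module k V] [HopfRep.Comod k A V] {v : V} (hv : v ≠ 0)
    {χ : A} (h : HopfRep.Comod.coact (k := k) (A := A) v = v ⊗ₜ[k] χ) : IsGroupLikeElem k χ := by
  obtain ⟨ψ, hψ⟩ := Module.Projective.exists_dual_ne_zero k hv
  have hf : H66.Coeff.coeff (C := A) ((ψ v)⁻¹ • ψ) v = χ := by
    rw [H66.Coeff.coeff_apply, h, LinearMap.rTensor_tmul, TensorProduct.lid_tmul, LinearMap.smul_apply,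
      smul_eq_mul, inv_mul_cancel₀ hψ, one_smul]
  refine ⟨?_, ?_⟩
  · rw [← hf, H66.Coeff.counit_coeff, LinearMap.smul_apply, smul_eq_mul, inv_mul_cancel₀ hψ]
  · rw [← hf, H66.Coeff.comul_coeff, h, LinearMap.rTensor_tmul, hf]

end Pw

end Groth.Agent.H66.MatPoints
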