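import Groth.Agent.H66.Coeff
import Groth.Agent.Lib.Comod.Reynolds

/-!
The ascending filtration of a comodule by iterated fixed vectors, and unipotence.
-/

universe u v w w'

open TensorProduct Groth.Agent.Lib.Comod.Basic

set_option linter.unusedSectionVars false
set_option linter.style.haveILetI false

namespace Groth.Agent.H66.Unip

noncomputable section

variable {k : Type u} [Field k] {A : Type v} [CommRing A] [Bialgebra k A]
variable {V : Type w} [AddCommGroup V] [Module k V] [HopfRep.Comod k A V]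
variable {V' : Type w'} [AddCommGroup V'] [Module k V'] [HopfRep.Comod k A V']

variable (V) in
/-- `dact φ - φ 1`. -/
def delta (φ : A →ₗ[k] k) : V →ₗ[k] V := dact V φ - φ 1 • LinearMap.id

theorem delta_apply (φ : A →ₗ[k] k) (v : V) : delta V φ v = dact V φ v - φ 1 • v := rfl

variable (k A V) in
/-- The ascending filtration: `fil (n+1)` consists of the vectors fixed modulo `fil n`. -/
def fil : ℕ → Submodule k V
  | 0 => ⊥
  | n + 1 => ⨅ φ : A →ₗ[k] k, (fil n).comap (delta V φ)

theorem mem_fil_succ {n : ℕ} {v : V} :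
    v ∈ fil k A V (n + 1) ↔ ∀ φ : A →ₗ[k] k, dact V φ v - φ 1 • v ∈ fil k A V n := by
  simp [fil, delta]

theorem fil_zero : fil k A V 0 = ⊥ := rfl

theorem fil_le_succ (n : ℕ) : fil k A V n ≤ fil k A V (n + 1) := by
  induction n with
  | zero => exact bot_le
  | succ n ih => exact fun v hv => mem_fil_succ.2 fun φ => ih (mem_fil_succ.1 hv φ)

theorem fil_mono : Monotone (fil k A V) := monotone_nat_of_le_succ fil_le_succ

theorem isSubcomod_fil (n : ℕ) : HopfRep.IsSubcomod (k := k) (A := A) (fil k A V n) := by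
  refine (isSubcomod_iff _).2 fun φ v hv => ?_
  cases n with
  | zero =>
    rw [(Submodule.mem_bot k).1 hv, map_zero]
    exact Submodule.zero_mem _
  | succ n =>
    have h := Submodule.add_mem _ (fil_le_succ n (mem_fil_succ.1 hv φ)) (Submodule.smul_mem _ (φ 1) hv)
    rwa [sub_add_cancel] at h

theorem mem_fil_succ_iff_coact {n : ℕ} {v : V} :
    v ∈ fil k A V (n + 1) ↔ HopfRep.Comod.coact (k := k) (A := A) v - v ⊗ₜ[k] (1 : A) ∈
      LinearMap.range ((fil k A V n).subtype.rTensor A) := by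
  rw [mem_fil_succ, mem_range_rTensor_iff]
  refine forall_congr' fun φ => ?_
  rw [map_sub, contract_tmul, dact_apply]

theorem fil_one : fil k A V 1 = HopfRep.fixedPts k A V := by
  ext v
  rw [mem_fil_succ, Lib.Comod.Reynolds.mem_fixedPts_iff]
  simp [fil_zero, sub_eq_zero]

theorem map_fil_le {g : V →ₗ[k] V'} (hg : Hoch.IsComodHom A g) (n : ℕ) :
    (fil k A V n).map g ≤ fil k A V' n := by
  induction n with
  | zero => simp [fil_zero]
  | succ n ih =>
    rintro _ ⟨v, hv, rfl⟩
    refine mem_fil_succ.2 fun φ => ?_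
    rw [← map_dact hg, ← map_smul, ← map_sub]
    exact ih ⟨_, mem_fil_succ.1 hv φ, rfl⟩

theorem comap_fil_le {g : V →ₗ[k] V'} (hg : Hoch.IsComodHom A g) (hinj : Function.Injective g) (n : ℕ) :
    (fil k A V' n).comap g ≤ fil k A V n := by
  induction n with
  | zero => exact fun v hv => (Submodule.mem_bot k).2 (hinj (((Submodule.mem_bot k).1 hv).trans (map_zero g).symm))
  | succ n ih =>
    intro v hv
    refine mem_fil_succ.2 fun φ => ih ?_
    rw [Submodule.mem_comap, map_sub, map_smul, map_dact hg]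
    exact mem_fil_succ.1 hv φ

theorem mem_fil_of_coeff {n : ℕ} {v : V}
    (h : ∀ ψ : V →ₗ[k] k, H66.Coeff.coeff (C := A) ψ v ∈ fil k A A n) : v ∈ fil k A V n := by
  induction n generalizing v with
  | zero =>
    refine (Submodule.mem_bot k).2 ((Module.forall_dual_apply_eq_zero_iff k v).1 fun ψ => ?_)
    rw [← H66.Coeff.counit_coeff (C := A) ψ v, (Submodule.mem_bot k).1 (h ψ), map_zero]
  | succ n ih =>
    refine mem_fil_succ.2 fun φ => ih fun ψ => ?_
    rw [map_sub, map_smul, map_dact (H66.Coeff.isComodHom_coeff (C := A) ψ)]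
    exact mem_fil_succ.1 (h ψ) φ

theorem exists_fil_eq_top_of_le [Module.Finite k V] (h : (⨆ n, fil k A A n) = ⊤) :
    ∃ n, fil k A V n = ⊤ := by
  haveI := H66.Coeff.finite_coeffSpace (k := k) (C := A) (V := V)
  obtain ⟨s, hs⟩ := Module.Finite.iff_fg.1 this
  have hdir : Directed (· ≤ ·) (fil k A A) := fil_mono.directed_le
  have hmem : ∀ a : A, ∃ n, a ∈ fil k A A n := fun a => by
    have : a ∈ ⨆ n, fil k A A n := h ▸ Submodule.mem_top
    exact (Submodule.mem_iSup_of_directed _ hdir).1 this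
  choose N hN using hmem
  refine ⟨s.sup N, eq_top_iff.2 fun v _ => mem_fil_of_coeff fun ψ => ?_⟩
  have hle : H66.Coeff.coeffSpace k A V ≤ fil k A A (s.sup N) := by
    rw [← hs, Submodule.span_le]
    exact fun a ha => fil_mono (Finset.le_sup ha) (hN a)
  exact hle (H66.Coeff.coeff_mem ψ v)

theorem fixedPts_ne_bot_of_fil_eq_top [Nontrivial V] {n : ℕ} (h : fil k A V n = ⊤) :
    HopfRep.fixedPts k A V ≠ ⊥ := by
  intro h0
  have : ∀ m, fil k A V m = ⊥ := by
    intro m
    induction m with
    | zero => rfl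
    | succ m ih =>
      refine eq_bot_iff.2 fun v hv => ?_
      rw [← h0, ← fil_one]
      refine mem_fil_succ.2 fun φ => ?_
      rw [fil_zero, ← ih]
      exact mem_fil_succ.1 hv φ
  exact top_ne_bot (h.symm.trans (this n))

theorem isUnipotent_of_iSup (h : (⨆ n, fil k A A n) = ⊤) : HopfRep.IsUnipotent k A := by
  intro W _ _ _ hW hWn
  obtain ⟨n, hn⟩ := exists_fil_eq_top_of_le (V := W) h
  exact fixedPts_ne_bot_of_fil_eq_top hn

theorem exists_fixed (hU : HopfRep.IsUnipotent k A) (W : Type w) [AddCommGroup W] [Module k W]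
    [HopfRep.Comod k A W] [Module.Finite k W] [Nontrivial W] :
    HopfRep.fixedPts k A W ≠ ⊥ := by
  haveI : Small.{v} W := Lib.Comod.Reynolds.small_of_finite (k := k) A W
  let e : W ≃ₗ[k] Shrink.{v} W := (Shrink.linearEquiv k W).symm
  letI : HopfRep.Comod k A (Shrink.{v} W) := equivComod e
  haveI : Module.Finite k (Shrink.{v} W) := Module.Finite.equiv e
  haveI : Nontrivial (Shrink.{v} W) := e.injective.nontrivial
  obtain ⟨y, hy, hy0⟩ := Submodule.exists_mem_ne_zero_of_ne_bot (hU (Shrink.{v} W) inferInstance inferInstance)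
  obtain ⟨x, rfl⟩ := e.surjective y
  intro h0
  refine hy0 ?_
  have hx : x ∈ fil k A W 1 := comap_fil_le (isComodHom_equiv (A := A) e) e.injective 1
    (Submodule.mem_comap.2 (by rw [fil_one]; exact hy))
  rw [fil_one, h0, Submodule.mem_bot] at hx
  rw [hx, map_zero]

theorem exists_fil_eq_top (hU : HopfRep.IsUnipotent k A) (W : Type w) [AddCommGroup W] [Module k W]
    [HopfRep.Comod k A W] [Module.Finite k W] : ∃ n, fil k A W n = ⊤ := by
  obtain ⟨n, hn⟩ := monotone_stabilizes_iff_noetherian.2 (inferInstance : IsNoetherian k W) ⟨fil k A W, fil_mono⟩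
  refine ⟨n, ?_⟩
  by_contra hne
  let U := fil k A W n
  have hU' : HopfRep.IsSubcomod (k := k) (A := A) U := isSubcomod_fil n
  letI := quotComod U hU'
  haveI : Nontrivial (W ⧸ U) := Submodule.Quotient.nontrivial_iff.2 hne
  obtain ⟨q, hq, hq0⟩ := Submodule.exists_mem_ne_zero_of_ne_bot (exists_fixed hU (W ⧸ U))
  obtain ⟨x, rfl⟩ := U.mkQ_surjective q
  refine hq0 ((Submodule.Quotient.mk_eq_zero U).2 ?_)
  have h1 : fil k A W n = fil k A W (n + 1) := hn (n + 1) n.le_succ
  rw [show U = fil k A W (n + 1) from h1]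
  refine mem_fil_succ.2 fun φ => ?_
  have hm : Hoch.IsComodHom A U.mkQ :=
    LinearMap.ext fun v => by simp [Submodule.liftQ_apply]; rfl
  rw [← Submodule.Quotient.mk_eq_zero, ← Submodule.mkQ_apply, map_sub, map_smul, map_dact hm,
    Lib.Comod.Reynolds.mem_fixedPts_iff.1 hq φ, sub_self]

theorem iSup_fil_eq_top (hU : HopfRep.IsUnipotent k A) : (⨆ n, fil k A A n) = ⊤ := by
  refine eq_top_iff.2 fun a _ => ?_
  let C := cyclic (k := k) (A := A) A a
  have hC : HopfRep.IsSubcomod (k := k) (A := A) C := isSubcomod_cyclic a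
  haveI : Module.Finite k C := Module.Finite.iff_fg.2 (cyclic_fg A a)
  letI := subComod C hC
  obtain ⟨n, hn⟩ := exists_fil_eq_top hU C
  refine Submodule.mem_iSup_of_mem n (map_fil_le (isComodHom_subtype hC) n ⟨⟨a, self_mem_cyclic A a⟩, ?_, rfl⟩)
  rw [hn]; exact Submodule.mem_top

theorem isUnipotent_iff : HopfRep.IsUnipotent k A ↔ (⨆ n, fil k A A n) = ⊤ :=
  ⟨iSup_fil_eq_top, isUnipotent_of_iSup⟩

theorem fil_one_regular : fil k A A 1 = Submodule.span k {(1 : A)} := by
  rw [fil_one]
  refine le_antisymm (fun a ha => Submodule.mem_span_singleton.2 ⟨CoalgebraStruct.counit (R := k) a, ?_⟩) ?_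
  · have h : CoalgebraStruct.comul (R := k) a = a ⊗ₜ[k] (1 : A) := ha
    have h2 := congrArg (fun z => TensorProduct.lid k A ((CoalgebraStruct.counit (R := k) (A := A)).rTensor A z)) h
    simpa [Coalgebra.rTensor_counit_comul] using h2.symm
  · rw [Submodule.span_le, Set.singleton_subset_iff]
    exact Bialgebra.comul_one.trans Algebra.TensorProduct.one_def

theorem mem_fil_exists (hU : HopfRep.IsUnipotent k A) (a : A) : ∃ n, a ∈ fil k A A n :=
  (Submodule.mem_iSup_of_directed _ fil_mono.directed_le).1 (iSup_fil_eq_top hU ▸ Submodule.mem_top)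

end

end Groth.Agent.H66.Unip
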