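import Groth.Prelude.Def_SGA3t2b
import Groth.Agent.H66.Unip
import Groth.Agent.H66.Tame
import Groth.Agent.Lib.Comod.Diag

/-!
Unipotence under base change; homomorphisms between unipotent and diagonalizable groups.
-/

universe u v w w'

open TensorProduct Groth.Agent.Lib.Comod.Basic

set_option linter.unusedSectionVars false
set_option linter.style.haveILetI false

namespace Groth.Agent.H66.UnipBC

noncomputable section

open H66.Unip

section General

variable {k : Type u} [Field k] {A : Type v} [CommRing A] [Bialgebra k A]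
variable {R : Type w} [CommRing R] [Algebra k R]

theorem comul_sub_mem (n : ℕ) {x : R ⊗[k] A} (hx : x ∈ (fil k A A (n + 1)).baseChange R) :
    CoalgebraStruct.comul (R := R) x - x ⊗ₜ[R] (1 : R ⊗[k] A) ∈
      LinearMap.range (((fil k A A n).baseChange R).subtype.rTensor (R ⊗[k] A)) := by
  let D : R ⊗[k] A →ₗ[R] (R ⊗[k] A) ⊗[R] (R ⊗[k] A) :=
    CoalgebraStruct.comul (R := R) - (TensorProduct.mk R (R ⊗[k] A) (R ⊗[k] A)).flip 1
  change x ∈ (LinearMap.range (((fil k A A n).baseChange R).subtype.rTensor (R ⊗[k] A))).comap D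
  revert x
  change (fil k A A (n + 1)).baseChange R ≤ _
  rw [Submodule.baseChange_eq_span R (fil k A A (n + 1)), Submodule.span_le]
  rintro _ ⟨a, ha, rfl⟩
  simp only [SetLike.mem_coe, Submodule.mem_comap, D, LinearMap.sub_apply, LinearMap.flip_apply,
    TensorProduct.mk_apply]
  obtain ⟨z, hz⟩ := mem_fil_succ_iff_coact.1 ha
  have h1 : CoalgebraStruct.comul (R := R) ((1 : R) ⊗ₜ[k] a) - ((1 : R) ⊗ₜ[k] a) ⊗ₜ[R] (1 : R ⊗[k] A) =
      AlgebraTensorModule.distribBaseChange k R A A ((1 : R) ⊗ₜ[k] ((fil k A A n).subtype.rTensor A z)) := by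
    rw [hz, H66.Tame.comul_baseChange, LinearMap.baseChange_tmul, TensorProduct.tmul_sub, map_sub,
      AlgebraTensorModule.distribBaseChange_tmul, ← Algebra.TensorProduct.one_def]
    rfl
  rw [h1]
  clear hz h1
  induction z using TensorProduct.induction_on with
  | zero => simp
  | add p q hp hq => simp only [map_add, TensorProduct.tmul_add]; exact Submodule.add_mem _ hp hq
  | tmul p q =>
    rw [LinearMap.rTensor_tmul, AlgebraTensorModule.distribBaseChange_tmul]
    exact ⟨⟨(1 : R) ⊗ₜ[k] (p : A), Submodule.tmul_mem_baseChange_of_mem 1 p.2⟩ ⊗ₜ[R] ((1 : R) ⊗ₜ[k] q), rfl⟩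

variable (R) in
theorem iSup_baseChange_fil (hU : (⨆ n, fil k A A n) = ⊤) :
    (⨆ n, (fil k A A n).baseChange R) = ⊤ := by
  refine eq_top_iff.2 fun x hx => ?_
  clear hx
  induction x using TensorProduct.induction_on with
  | zero => exact Submodule.zero_mem _
  | add p q hp hq => exact Submodule.add_mem _ hp hq
  | tmul s a =>
    obtain ⟨n, hn⟩ := (Submodule.mem_iSup_of_directed _ fil_mono.directed_le).1 (hU ▸ Submodule.mem_top (x := a))
    exact Submodule.mem_iSup_of_mem n (Submodule.tmul_mem_baseChange_of_mem s hn)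

/-- No nonzero primitive elements. -/
def NoPrim (R : Type w) [CommRing R] (B : Type w') [CommRing B] [Bialgebra R B] : Prop :=
  ∀ y : B, CoalgebraStruct.comul (R := R) y = y ⊗ₜ[R] (1 : B) + (1 : B) ⊗ₜ[R] y → y = 0

/-- A bialgebra map from a unipotent bialgebra to one without primitives is trivial. -/
theorem eq_counit_of_noPrim (hU : (⨆ n, fil k A A n) = ⊤) {B : Type w'} [CommRing B] [Bialgebra R B]
    (hB : NoPrim R B) (φ : R ⊗[k] A →ₐc[R] B) (x : R ⊗[k] A) :
    φ x = algebraMap R B (CoalgebraStruct.counit (R := R) x) := by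
  let f : R ⊗[k] A →ₗ[R] B := (φ : R ⊗[k] A →ₐ[R] B).toLinearMap
  have hf : ∀ z, f z = φ z := fun z => rfl
  have hcom : ∀ z, CoalgebraStruct.comul (R := R) (f z) = TensorProduct.map f f (CoalgebraStruct.comul (R := R) z) :=
    fun z => (CoalgHomClass.map_comp_comul_apply φ z).symm
  have hf1 : f 1 = 1 := map_one φ
  suffices h : ∀ n, ∀ z ∈ (fil k A A n).baseChange R, φ z = algebraMap R B (CoalgebraStruct.counit (R := R) z) by
    have hmem : x ∈ ⨆ n, (fil k A A n).baseChange R := iSup_baseChange_fil R hU ▸ Submodule.mem_top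
    induction hmem using Submodule.iSup_induction' with
    | mem i z hz => exact h i z hz
    | zero => simp
    | add p q _ _ hp hq => rw [map_add, map_add, map_add, hp, hq]
  intro n
  induction n with
  | zero =>
    intro z hz
    rw [fil_zero, Submodule.baseChange_bot, Submodule.mem_bot] at hz
    simp [hz]
  | succ n ih =>
    intro z hz
    obtain ⟨w, hw⟩ := comul_sub_mem n hz
    let ε := CoalgebraStruct.counit (R := R) (A := R ⊗[k] A)
    have key : ∀ w : ↥((fil k A A n).baseChange R) ⊗[R] (R ⊗[k] A),
        TensorProduct.map f f (((fil k A A n).baseChange R).subtype.rTensor (R ⊗[k] A) w) =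
          (1 : B) ⊗ₜ[R] f (TensorProduct.lid R (R ⊗[k] A)
            (ε.rTensor (R ⊗[k] A) (((fil k A A n).baseChange R).subtype.rTensor (R ⊗[k] A) w))) := by
      intro w
      induction w using TensorProduct.induction_on with
      | zero => simp
      | add p q hp hq => simp only [map_add, TensorProduct.tmul_add, hp, hq]
      | tmul p q =>
        simp only [LinearMap.rTensor_tmul, TensorProduct.map_tmul, TensorProduct.lid_tmul, map_smul,
          Submodule.subtype_apply]
        rw [hf p.1, ih _ p.2, Algebra.algebraMap_eq_smul_one, TensorProduct.smul_tmul]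
    have h2 := key w
    rw [hw, map_sub, map_sub, map_sub, ← hcom, TensorProduct.map_tmul, hf1, Coalgebra.rTensor_counit_comul,
      LinearMap.rTensor_tmul, TensorProduct.lid_tmul, TensorProduct.lid_tmul, one_smul] at h2
    rw [map_sub, map_smul, hf1] at h2
    rw [← sub_eq_zero, Algebra.algebraMap_eq_smul_one]
    refine hB _ ?_
    rw [← hf, map_sub, map_smul, Bialgebra.comul_one, Algebra.TensorProduct.one_def, TensorProduct.sub_tmul,
      ← TensorProduct.smul_tmul']
    rw [sub_eq_iff_eq_add] at h2
    rw [h2]
    abel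

end General

section Field

variable {k : Type u} [Field k] {A : Type v} [CommRing A] [Bialgebra k A]
variable {K : Type w} [Field K] [Algebra k K]

theorem baseChange_fil_le (n : ℕ) :
    (fil k A A n).baseChange K ≤ fil K (K ⊗[k] A) (K ⊗[k] A) n := by
  induction n with
  | zero => rw [fil_zero, Submodule.baseChange_bot]; exact bot_le
  | succ n ih =>
    intro x hx
    refine mem_fil_succ_iff_coact.2 ((mem_range_rTensor_iff _ _).2 fun φ => ih ?_)
    have h := (mem_range_rTensor_iff ((fil k A A n).baseChange K)
      (CoalgebraStruct.comul (R := K) x - x ⊗ₜ[K] (1 : K ⊗[k] A))).1 (comul_sub_mem (R := K) n hx) φ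
    exact h

theorem isUnipotent_baseChange (hU : HopfRep.IsUnipotent k A) : HopfRep.IsUnipotent K (K ⊗[k] A) := by
  refine isUnipotent_of_iSup (eq_top_iff.2 ?_)
  rw [← iSup_baseChange_fil K (iSup_fil_eq_top hU)]
  exact iSup_mono baseChange_fil_le

/-- The only group-like element of a unipotent bialgebra is `1`. -/
theorem eq_one_of_isGroupLike (hU : HopfRep.IsUnipotent k A) {g : A} (hg : IsGroupLikeElem k g) : g = 1 := by
  obtain ⟨n, hn⟩ := mem_fil_exists hU g
  induction n with
  | zero =>
    rw [fil_zero, Submodule.mem_bot] at hn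
    exact absurd hg.counit_eq_one (by rw [hn, map_zero]; exact zero_ne_one)
  | succ n ih =>
    by_cases h : ∀ φ : A →ₗ[k] k, φ g = φ 1
    · exact sub_eq_zero.1 ((Module.forall_dual_apply_eq_zero_iff k (g - 1)).1 fun φ => by rw [map_sub, h φ, sub_self])
    · push_neg at h
      obtain ⟨φ, hφ⟩ := h
      have h1 := mem_fil_succ.1 hn φ
      rw [dact_apply, show HopfRep.Comod.coact (k := k) (A := A) g = g ⊗ₜ[k] g from hg.comul_eq_tmul_self,
        contract_tmul, ← sub_smul] at h1
      exact ih ((Submodule.smul_mem_iff _ (sub_ne_zero.2 hφ)).1 h1)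

theorem noPrim_of_isDiagonalizable (h : HopfRep.IsDiagonalizable k A) : NoPrim k A := by
  classical
  obtain ⟨b, hb⟩ := Lib.Comod.Diag.exists_groupLike_basis h
  intro y hy
  let o : {a : A // IsGroupLikeElem k a} := ⟨1, IsGroupLikeElem.one⟩
  have hcoord : ∀ j, contract A (b.coord j) (CoalgebraStruct.comul (R := k) y) = b.repr y j • b j := by
    intro j
    have hlin : ∀ z, contract A (b.coord j) (CoalgebraStruct.comul (R := k) z) = b.repr z j • b j := by
      intro z
      induction b.mem_span z using Submodule.span_induction with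
      | mem x hx =>
        obtain ⟨i, rfl⟩ := hx
        rw [hb i, i.2.comul_eq_tmul_self, contract_tmul, ← hb i, b.coord_apply]
        by_cases hij : i = j
        · subst hij; rw [b.repr_self]
        · rw [b.repr_self, Finsupp.single_eq_of_ne (Ne.symm hij), zero_smul, zero_smul]
      | zero => simp
      | add p q _ _ hp hq => simp only [map_add, Finsupp.coe_add, Pi.add_apply, add_smul, hp, hq]
      | smul c p _ hp => simp only [map_smul, Finsupp.coe_smul, Pi.smul_apply, smul_smul, hp, smul_eq_mul]
    exact hlin y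
  have h1 : b o = 1 := hb o
  have := hcoord o
  rw [hy, map_add, contract_tmul, contract_tmul, b.coord_apply, b.coord_apply, h1] at this
  rw [show b.repr (1 : A) o = 1 by rw [← h1, b.repr_self, Finsupp.single_eq_same], one_smul] at this
  exact add_eq_right.1 this

theorem noPrim_descend (h : NoPrim K (K ⊗[k] A)) : NoPrim k A := by
  intro y hy
  have h1 : (1 : K) ⊗ₜ[k] y = 0 := by
    refine h _ ?_
    rw [H66.Tame.comul_baseChange, LinearMap.baseChange_tmul, hy, TensorProduct.tmul_add, map_add,
      AlgebraTensorModule.distribBaseChange_tmul, AlgebraTensorModule.distribBaseChange_tmul]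
    rfl
  exact Algebra.TensorProduct.includeRight_injective (algebraMap k K).injective
    (by rw [Algebra.TensorProduct.includeRight_apply, Algebra.TensorProduct.includeRight_apply, h1,
      TensorProduct.tmul_zero] : (Algebra.TensorProduct.includeRight : A →ₐ[k] K ⊗[k] A) y = _)

theorem noPrim_baseChange (R : Type w') [CommRing R] [Algebra k R] (h : NoPrim k A) : NoPrim R (R ⊗[k] A) := by
  let D : A →ₗ[k] A ⊗[k] A :=
    CoalgebraStruct.comul (R := k) - (TensorProduct.mk k A A).flip 1 - TensorProduct.mk k A A 1
  have hD : Function.Injective D := by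
    refine (injective_iff_map_eq_zero D).2 fun y hy => h y ?_
    simp only [D, LinearMap.sub_apply, LinearMap.flip_apply, TensorProduct.mk_apply, sub_eq_zero,
      sub_eq_iff_eq_add] at hy
    rw [hy]
    abel
  intro y hy
  have hDR : ∀ x : R ⊗[k] A, AlgebraTensorModule.distribBaseChange k R A A (D.baseChange R x) =
      CoalgebraStruct.comul (R := R) x - x ⊗ₜ[R] (1 : R ⊗[k] A) - (1 : R ⊗[k] A) ⊗ₜ[R] x := by
    intro x
    induction x using TensorProduct.induction_on with
    | zero => simp
    | add p q hp hq => simp only [map_add, hp, hq, TensorProduct.add_tmul, TensorProduct.tmul_add]; abel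
    | tmul s a =>
      rw [H66.Tame.comul_baseChange, LinearMap.baseChange_tmul, LinearMap.baseChange_tmul]
      simp only [D, LinearMap.sub_apply, LinearMap.flip_apply, TensorProduct.mk_apply, TensorProduct.tmul_sub,
        map_sub, AlgebraTensorModule.distribBaseChange_tmul]
      rw [show s ⊗ₜ[k] (1 : A) = s • ((1 : R) ⊗ₜ[k] (1 : A)) by rw [TensorProduct.smul_tmul', smul_eq_mul, mul_one],
        TensorProduct.smul_tmul, TensorProduct.smul_tmul', smul_eq_mul, mul_one]
      rfl
  have h0 : D.baseChange R y = 0 := by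
    rw [← (AlgebraTensorModule.distribBaseChange k R A A).map_eq_zero_iff, hDR, hy]
    abel
  exact (Module.Flat.lTensor_preserves_injective_linearMap (M := R) D hD) (h0.trans (map_zero _).symm)

end Field

end

end Groth.Agent.H66.UnipBC
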