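import Groth.Agent.H66.Coeff
import Groth.Agent.H66.Tame
import Groth.Agent.Lib.Comod.Diag
import Mathlib.LinearAlgebra.Eigenspace.Triangularizable

/-!
Trigonalizable and diagonalizable bialgebras.
-/

universe u v w w'

open TensorProduct Groth.Agent.Lib.Comod.Basic Groth.Agent.Lib.Comod.Reynolds

set_option linter.unusedSectionVars false
set_option linter.style.haveILetI false

namespace Groth.Agent.H66.Trigon

noncomputable section

variable {k : Type u} [Field k] {A : Type v} [CommRing A] [Bialgebra k A]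
variable {B : Type w'} [CommRing B] [Bialgebra k B]

/-- Push a comodule forward along a coalgebra map. -/
@[reducible] def pushComod (f : A →ₗc[k] B) (V : Type w) [AddCommGroup V] [Module k V] [HopfRep.Comod k A V] :
    HopfRep.Comod k B V where
  coact := f.toLinearMap.lTensor V ∘ₗ HopfRep.Comod.coact (k := k) (A := A)
  coassoc := by
    refine LinearMap.ext fun v => ?_
    have h := LinearMap.congr_fun (HopfRep.Comod.coassoc (k := k) (A := A) (V := V)) v
    simp only [LinearMap.comp_apply, LinearEquiv.coe_coe] at h ⊢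
    have e1 : ∀ y : V ⊗[k] A,
        (CoalgebraStruct.comul (R := k)).lTensor V (f.toLinearMap.lTensor V y) =
          (TensorProduct.map f.toLinearMap f.toLinearMap).lTensor V ((CoalgebraStruct.comul (R := k)).lTensor V y) := by
      intro y
      rw [← LinearMap.comp_apply, ← LinearMap.lTensor_comp, ← LinearMap.comp_apply, ← LinearMap.lTensor_comp,
        f.map_comp_comul]
    rw [e1, ← h]
    generalize HopfRep.Comod.coact (k := k) (A := A) v = y
    induction y using TensorProduct.induction_on with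
    | zero => simp
    | add p q hp hq => simp only [map_add, hp, hq]
    | tmul p c =>
      simp only [LinearMap.lTensor_tmul, LinearMap.rTensor_tmul, LinearMap.comp_apply]
      generalize HopfRep.Comod.coact (k := k) (A := A) p = z
      induction z using TensorProduct.induction_on with
      | zero => simp
      | add r s hr hs => simp only [map_add, TensorProduct.add_tmul, hr, hs]
      | tmul r d => simp
  counit_comp := by
    rw [← LinearMap.comp_assoc, ← LinearMap.lTensor_comp, f.counit_comp,
      HopfRep.Comod.counit_comp (k := k) (A := A) (V := V)]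

theorem dact_pushComod (f : A →ₗc[k] B) (V : Type w) [AddCommGroup V] [Module k V] [HopfRep.Comod k A V]
    (φ : B →ₗ[k] k) (v : V) :
    letI := pushComod f V; dact V φ v = dact V (φ ∘ₗ f.toLinearMap) v := by
  letI := pushComod f V
  rw [dact_apply, dact_apply]
  exact contract_lTensor φ f.toLinearMap _

theorem isGroupLike_of_coact {V : Type w} [AddCommGroup V] [Module k V] [HopfRep.Comod k A V] {v : V} (hv : v ≠ 0)
    {χ : A} (h : HopfRep.Comod.coact (k := k) (A := A) v = v ⊗ₜ[k] χ) : IsGroupLikeElem k χ := by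
  obtain ⟨ψ, hψ⟩ := Module.Projective.exists_dual_ne_zero k hv
  have hf : H66.Coeff.coeff (C := A) ((ψ v)⁻¹ • ψ) v = χ := by
    rw [H66.Coeff.coeff_apply, h, LinearMap.rTensor_tmul, TensorProduct.lid_tmul, LinearMap.smul_apply,
      smul_eq_mul, inv_mul_cancel₀ hψ, one_smul]
  refine ⟨?_, ?_⟩
  · rw [← hf, H66.Coeff.counit_coeff, LinearMap.smul_apply, smul_eq_mul, inv_mul_cancel₀ hψ]
  · rw [← hf, H66.Coeff.comul_coeff, h, LinearMap.rTensor_tmul, hf]

/-- A bialgebra with an injective coalgebra map into a trigonalizable one is trigonalizable. -/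
theorem isTrigonalizable_of_injective {A' : Type v} [CommRing A'] [Bialgebra k A'] (f : A' →ₗc[k] A)
    (hf : Function.Injective f) (hA : HopfRep.IsTrigonalizable k A) : HopfRep.IsTrigonalizable k A' := by
  intro V _ _ _ hV hs
  obtain ⟨r, hr⟩ := f.toLinearMap.exists_leftInverse_of_injective (LinearMap.ker_eq_bot.2 hf)
  have key : ∀ W : Submodule k V,
      (letI := pushComod f V; HopfRep.IsSubcomod (k := k) (A := A) W) → HopfRep.IsSubcomod (k := k) (A := A') W := by
    intro W hW
    refine (isSubcomod_iff W).2 fun ψ w hw => ?_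
    have e : ψ = (ψ ∘ₗ r) ∘ₗ f.toLinearMap := by rw [LinearMap.comp_assoc, hr, LinearMap.comp_id]
    rw [e, ← dact_pushComod f V (ψ ∘ₗ r) w]
    letI := pushComod f V
    exact dact_mem hW (ψ ∘ₗ r) hw
  letI := pushComod f V
  exact @hA V _ _ (pushComod f V) hV ⟨hs.1, fun W hW => hs.2 W (key W hW)⟩

section

variable {V : Type v} [AddCommGroup V] [Module k V] [HopfRep.Comod k A V]

theorem exists_line (hT : HopfRep.IsTrigonalizable k A) [Module.Finite k V]
    {U : Submodule k V} (hU : HopfRep.IsSubcomod (k := k) (A := A) U) (h0 : U ≠ ⊥) :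
    ∃ v ∈ U, v ≠ 0 ∧ (∃ a : A, HopfRep.Comod.coact (k := k) (A := A) v = v ⊗ₜ[k] a) ∧
      HopfRep.IsSubcomod (k := k) (A := A) (Submodule.span k {v}) := by
  obtain ⟨E, hle, hE0, hE, -, hmin⟩ := H66.Coeff.exists_simple_le hU h0
  letI := subComod E hE
  have h1 := hT E inferInstance (H66.Coeff.isSimpleComod_subComod hE hE0 hmin)
  obtain ⟨v, hv, hv0⟩ := Submodule.exists_mem_ne_zero_of_ne_bot hE0
  have hspan : Submodule.span k {v} = E := by
    refine Submodule.eq_of_le_of_finrank_le ((Submodule.span_singleton_le_iff_mem v E).2 hv) ?_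
    rw [h1, finrank_span_singleton hv0]
  refine ⟨v, hle hv, hv0, ?_, hspan.symm ▸ hE⟩
  obtain ⟨z, hz⟩ := hE v hv
  rw [← hz]
  have : ∀ z : E ⊗[k] A, ∃ a : A, E.subtype.rTensor A z = v ⊗ₜ[k] a := by
    intro z
    induction z using TensorProduct.induction_on with
    | zero => exact ⟨0, by simp⟩
    | add p q hp hq =>
      obtain ⟨a, ha⟩ := hp; obtain ⟨b, hb⟩ := hq
      exact ⟨a + b, by rw [map_add, ha, hb, TensorProduct.tmul_add]⟩
    | tmul p q =>
      obtain ⟨c, hc⟩ := Submodule.mem_span_singleton.1 (hspan.symm ▸ p.2 : (p : V) ∈ Submodule.span k {v})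
      refine ⟨c • q, ?_⟩
      rw [LinearMap.rTensor_tmul, Submodule.subtype_apply, ← hc, TensorProduct.smul_tmul]
  exact this z

theorem exists_step (hT : HopfRep.IsTrigonalizable k A) [Module.Finite k V]
    {U : Submodule k V} (hU : HopfRep.IsSubcomod (k := k) (A := A) U) (h : U ≠ ⊤) :
    ∃ x, x ∉ U ∧ HopfRep.IsSubcomod (k := k) (A := A) (U ⊔ Submodule.span k {x}) := by
  letI := quotComod U hU
  haveI : Nontrivial (V ⧸ U) := Submodule.Quotient.nontrivial_iff.2 h
  obtain ⟨q, -, hq0, -, hq⟩ := exists_line (V := V ⧸ U) hT isSubcomod_top top_ne_bot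
  obtain ⟨x, rfl⟩ := U.mkQ_surjective q
  refine ⟨x, fun hx => hq0 ((Submodule.Quotient.mk_eq_zero U).2 hx), ?_⟩
  have := isSubcomod_comap (isComodHom_mkQ hU) hq
  rwa [show Submodule.span k {U.mkQ x} = (Submodule.span k {x}).map U.mkQ by
      rw [Submodule.map_span, Set.image_singleton],
    Submodule.comap_map_eq, Submodule.ker_mkQ, sup_comm] at this

theorem exists_flag (hT : HopfRep.IsTrigonalizable k A) [Module.Finite k V] :
    ∃ F : ℕ → Submodule k V, Monotone F ∧ F 0 = ⊥ ∧ (∀ i, HopfRep.IsSubcomod (k := k) (A := A) (F i)) ∧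
      (∀ i, i ≤ Module.finrank k V → Module.finrank k ↥(F i) = i) ∧
      (∀ i, Module.finrank k V ≤ i → F i = ⊤) ∧ ∀ i, ∃ x, F (i + 1) ≤ F i ⊔ Submodule.span k {x} := by
  classical
  have step : ∀ U : {U : Submodule k V // HopfRep.IsSubcomod (k := k) (A := A) U},
      ∃ U' : {U : Submodule k V // HopfRep.IsSubcomod (k := k) (A := A) U}, U.1 ≤ U'.1 ∧
        (∃ x, U'.1 ≤ U.1 ⊔ Submodule.span k {x}) ∧
        (U.1 ≠ ⊤ → Module.finrank k ↥U'.1 = Module.finrank k ↥U.1 + 1) := by
    rintro ⟨U, hU⟩
    by_cases h : U = ⊤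
    · exact ⟨⟨U, hU⟩, le_rfl, ⟨0, le_sup_left⟩, fun h' => absurd h h'⟩
    · obtain ⟨x, hx, hs⟩ := exists_step hT hU h
      refine ⟨⟨_, hs⟩, le_sup_left, ⟨x, le_rfl⟩, fun _ => ?_⟩
      have hdis : Disjoint U (Submodule.span k {x}) :=
        Submodule.disjoint_span_singleton.2 fun h => absurd h hx
      have h1 := Submodule.finrank_sup_add_finrank_inf_eq U (Submodule.span k {x})
      rw [hdis.eq_bot, finrank_bot, add_zero, finrank_span_singleton (fun h : x = 0 => hx (h ▸ U.zero_mem))] at h1
      exact h1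
  choose nxt hle hx hdim using step
  let G : ℕ → {U : Submodule k V // HopfRep.IsSubcomod (k := k) (A := A) U} := fun n => nxt^[n] ⟨⊥, isSubcomod_bot⟩
  have hs : ∀ n, G (n + 1) = nxt (G n) := fun n => Function.iterate_succ_apply' nxt n _
  have hfin : ∀ n, n ≤ Module.finrank k V → Module.finrank k ↥(G n).1 = n := by
    intro n
    induction n with
    | zero => exact fun _ => finrank_bot k V
    | succ n ih =>
      intro hn
      have h2 := ih (Nat.le_of_succ_le hn)
      have hne : (G n).1 ≠ ⊤ := fun h => by rw [h, finrank_top] at h2; omega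
      rw [hs, hdim _ hne, h2]
  have hmono : Monotone fun n => (G n).1 := monotone_nat_of_le_succ fun n => by
    simp only [hs]; exact hle _
  refine ⟨fun n => (G n).1, hmono, rfl, fun i => (G i).2, hfin, fun i hi => ?_, fun i => ?_⟩
  · exact eq_top_iff.2 ((Submodule.eq_top_of_finrank_eq (hfin _ le_rfl)).ge.trans (hmono hi))
  · simp only [hs]; exact hx _

end

/-- A quotient coalgebra of a trigonalizable bialgebra is trigonalizable. -/
theorem isTrigonalizable_of_surjective {B : Type v} [CommRing B] [Bialgebra k B] (q : A →ₗc[k] B)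
    (hq : Function.Surjective q) (hT : HopfRep.IsTrigonalizable k A) : HopfRep.IsTrigonalizable k B := by
  classical
  intro V _ _ _ hV hs
  haveI := hs.1
  obtain ⟨φ, hφ⟩ := exists_ne (0 : V →ₗ[k] k)
  let c : V →ₗ[k] B := H66.Coeff.coeff (C := B) φ
  have hc : Function.Injective c := H66.Coeff.injective_coeff_of_ne_zero hs φ hφ
  have hcE := H66.Coeff.isComodHom_coeff (C := B) φ
  have hsimple : ∀ W : Submodule k B, HopfRep.IsSubcomod (k := k) (A := B) W →
      LinearMap.range c ≤ W ∨ Disjoint (LinearMap.range c) W := by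
    intro W hW
    rcases hs.2 (W.comap c) (isSubcomod_comap hcE hW) with h | h
    · refine Or.inr (Submodule.disjoint_def.2 ?_)
      rintro _ ⟨v, rfl⟩ hv
      have hv' : v ∈ W.comap c := hv
      rw [h, Submodule.mem_bot] at hv'
      rw [hv', map_zero]
    · exact Or.inl (by rintro _ ⟨v, rfl⟩; exact (h ▸ Submodule.mem_top : v ∈ W.comap c))
  obtain ⟨s, hs'⟩ := hV.fg_top
  choose sec hsec using hq
  obtain ⟨M, hMs, hMsub, hMfg⟩ : ∃ M : Submodule k A, (∀ v ∈ s, sec (c v) ∈ M) ∧
      HopfRep.IsSubcomod (k := k) (A := A) M ∧ M.FG := by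
    refine ⟨⨆ v : s, cyclic (k := k) (A := A) A (sec (c v)), fun v hv =>
      Submodule.mem_iSup_of_mem ⟨v, hv⟩ (self_mem_cyclic A _), isSubcomod_iSup fun v => isSubcomod_cyclic _,
      Submodule.fg_iSup _ fun v => cyclic_fg A _⟩
  haveI : Module.Finite k M := Module.Finite.iff_fg.2 hMfg
  letI := subComod M hMsub
  obtain ⟨F, -, hF0, hFsub, -, hFtop, hFstep⟩ := exists_flag (V := M) hT
  let g : M →ₗ[k] B := q.toLinearMap ∘ₗ M.subtype
  have hsub : ∀ i, HopfRep.IsSubcomod (k := k) (A := B) ((F i).map g) := by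
    intro i
    refine (isSubcomod_iff _).2 ?_
    rintro ψ _ ⟨m, hm, rfl⟩
    refine ⟨dact M (ψ ∘ₗ q.toLinearMap) m, dact_mem (hFsub i) _ hm, ?_⟩
    rw [LinearMap.comp_apply, Submodule.subtype_apply,
      show (dact M (ψ ∘ₗ q.toLinearMap) m : A) = dact A (ψ ∘ₗ q.toLinearMap) (m : A) from
        map_dact (isComodHom_subtype hMsub) _ m]
    rw [dact_apply, dact_apply]
    change _ = contract B ψ (CoalgebraStruct.comul (R := k) (q (m : A)))
    rw [← CoalgHomClass.map_comp_comul_apply q (m : A)]
    change q.toLinearMap (contract A (ψ ∘ₗ q.toLinearMap) (CoalgebraStruct.comul (R := k) (m : A))) = _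
    induction CoalgebraStruct.comul (R := k) (m : A) using TensorProduct.induction_on with
    | zero => simp
    | add a b ha hb => simp only [map_add, ha, hb]
    | tmul a b => simp
  have hex : ∃ i, LinearMap.range c ≤ (F i).map g := by
    refine ⟨Module.finrank k M, ?_⟩
    rw [hFtop _ le_rfl, LinearMap.range_eq_map, ← hs', Submodule.map_span, Submodule.span_le]
    rintro _ ⟨v, hv, rfl⟩
    exact ⟨⟨_, hMs v hv⟩, trivial, hsec (c v)⟩
  have hfr : Module.finrank k V = Module.finrank k (LinearMap.range c) :=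
    (LinearMap.finrank_range_of_inj hc).symm
  have hpos : 0 < Module.finrank k (LinearMap.range c) := hfr ▸ Module.finrank_pos
  obtain ⟨j, hj⟩ : ∃ j, Nat.find hex = j + 1 := by
    rcases h : Nat.find hex with _ | j
    · have h2 := Nat.find_spec hex
      rw [h, hF0, Submodule.map_bot, le_bot_iff] at h2
      rw [h2, finrank_bot] at hpos
      exact absurd hpos (lt_irrefl 0)
    · exact ⟨j, rfl⟩
  have h2 := Nat.find_spec hex
  rw [hj] at h2
  have hdis := (hsimple _ (hsub j)).resolve_left (Nat.find_min hex (by rw [hj]; exact Nat.lt_succ_self j))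
  obtain ⟨x, hx⟩ := hFstep j
  have h3 : LinearMap.range c ⊔ (F j).map g ≤ (F j).map g ⊔ Submodule.span k {g x} := by
    refine sup_le (h2.trans ?_) le_sup_left
    refine (Submodule.map_mono hx).trans ?_
    rw [Submodule.map_sup, Submodule.map_span, Set.image_singleton]
  have h4 := Submodule.finrank_mono h3
  have h5 := Submodule.finrank_sup_add_finrank_inf_eq (LinearMap.range c) ((F j).map g)
  rw [hdis.eq_bot, finrank_bot, add_zero] at h5
  have h6 := Submodule.finrank_add_le_finrank_add_finrank ((F j).map g) (Submodule.span k {g x})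
  have h7 : Module.finrank k ↥(Submodule.span k {g x}) ≤ 1 :=
    (finrank_span_le_card _).trans (by simp)
  omega

theorem conv_comm [Coalgebra.IsCocomm k A] (φ ψ : A →ₗ[k] k) : conv φ ψ = conv ψ φ := by
  refine LinearMap.ext fun a => ?_
  simp only [conv, LinearMap.comp_apply]
  conv_lhs => rw [← Coalgebra.comm_comul k a]
  induction CoalgebraStruct.comul (R := k) a using TensorProduct.induction_on with
  | zero => simp
  | add p q hp hq => simp only [map_add, hp, hq]
  | tmul p q => simp [mul_comm]

/-- Simple comodules of a cocommutative bialgebra over an algebraically closed field are lines. -/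
theorem isTrigonalizable_of_isCocomm [IsAlgClosed k] [Coalgebra.IsCocomm k A] : HopfRep.IsTrigonalizable k A := by
  intro V _ _ _ hV hs
  haveI := hs.1
  have hscalar : ∀ φ : A →ₗ[k] k, ∃ c : k, ∀ v : V, dact V φ v = c • v := by
    intro φ
    obtain ⟨c, hc⟩ := Module.End.exists_eigenvalue (dact V φ : Module.End k V)
    refine ⟨c, fun v => ?_⟩
    have hsub : HopfRep.IsSubcomod (k := k) (A := A) (Module.End.eigenspace (dact V φ : Module.End k V) c) := by
      refine (isSubcomod_iff _).2 fun ψ w hw => Module.End.mem_eigenspace_iff.2 ?_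
      rw [dact_dact, conv_comm, ← dact_dact, Module.End.mem_eigenspace_iff.1 hw, map_smul]
    exact Module.End.mem_eigenspace_iff.1 ((hs.2 _ hsub).resolve_left hc ▸ Submodule.mem_top : v ∈ _)
  obtain ⟨v, hv⟩ := exists_ne (0 : V)
  have hline : HopfRep.IsSubcomod (k := k) (A := A) (Submodule.span k {v}) := by
    refine (isSubcomod_iff _).2 fun φ w hw => ?_
    obtain ⟨c, hc⟩ := hscalar φ
    rw [hc]
    exact Submodule.smul_mem _ c hw
  rcases hs.2 _ hline with h | h
  · exact absurd (Submodule.span_singleton_eq_bot.1 h) hv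
  · rw [← finrank_top k V, ← h, finrank_span_singleton hv]

theorem isDiagonalizable_iff_span : HopfRep.IsDiagonalizable k A ↔
      ∀ (V : Type v) [AddCommGroup V] [Module k V] [HopfRep.Comod k A V], Module.Finite k V →
        Submodule.span k {v : V | ∃ a : A, HopfRep.Comod.coact (k := k) (A := A) v = v ⊗ₜ[k] a} = ⊤ := by
  constructor
  · intro h V _ _ _ _
    obtain ⟨b, hb⟩ := Lib.Comod.Diag.exists_groupLike_basis h
    refine eq_top_iff.2 fun v _ => ?_
    obtain ⟨s, -, hs⟩ := Lib.Comod.Diag.exists_finset_sum_proj b (fun i => hb i ▸ i.2) (V := V) v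
    rw [hs]
    exact Submodule.sum_mem _ fun i _ => Submodule.subset_span
      ⟨b i, Lib.Comod.Diag.proj_mem_eigenspace b (fun i => hb i ▸ i.2) i v⟩
  · intro h
    refine eq_top_iff.2 fun a _ => ?_
    have hC := isSubcomod_cyclic (k := k) (A := A) (V := A) a
    haveI : Module.Finite k (cyclic (k := k) (A := A) A a) := Module.Finite.iff_fg.2 (cyclic_fg A a)
    letI := subComod _ hC
    have hm : (⟨a, self_mem_cyclic A a⟩ : cyclic (k := k) (A := A) A a) ∈
        Submodule.span k {v | ∃ g : A, HopfRep.Comod.coact (k := k) (A := A) v = v ⊗ₜ[k] g} :=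
      (h ↥(cyclic (k := k) (A := A) A a) inferInstance).symm ▸ Submodule.mem_top
    refine (Submodule.map_le_iff_le_comap.2 ?_) (Submodule.mem_map_of_mem (f := (cyclic (k := k) (A := A) A a).subtype) hm)
    rw [Submodule.span_le]
    rintro v ⟨g, hg⟩
    by_cases hv : v = 0
    · simp [hv]
    have hgl := isGroupLike_of_coact hv hg
    have h2 : CoalgebraStruct.comul (R := k) (v : A) = (v : A) ⊗ₜ[k] g := by
      rw [← Submodule.subtype_apply, ← LinearMap.rTensor_tmul, ← hg]
      exact H66.Base.isComodHom_apply (isComodHom_subtype hC) v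
    have h3 := congrArg (fun z => TensorProduct.lid k A ((CoalgebraStruct.counit (R := k) (A := A)).rTensor A z)) h2
    simp only [Coalgebra.rTensor_counit_comul, LinearMap.rTensor_tmul, TensorProduct.lid_tmul, one_smul] at h3
    rw [SetLike.mem_coe, Submodule.mem_comap, Submodule.subtype_apply, h3]
    exact Submodule.smul_mem _ _ (Submodule.subset_span hgl)

end

section Reductive

variable {k : Type u} [Field k] {A : Type v} [CommRing A] [HopfAlgebra k A]

theorem hasIntegral_of_isDiagonalizable (h : HopfRep.IsDiagonalizable k A) : H66.Tame.HasIntegral k A := by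
  classical
  obtain ⟨b, hb⟩ := Lib.Comod.Diag.exists_groupLike_basis h
  let o : {a : A // IsGroupLikeElem k a} := ⟨1, IsGroupLikeElem.one⟩
  have h1 : b o = 1 := hb o
  refine ⟨b.coord o, by rw [← h1, Module.Basis.coord_apply, b.repr_self, Finsupp.single_eq_same], fun a => ?_⟩
  induction b.mem_span a using Submodule.span_induction with
  | mem x hx =>
    obtain ⟨i, rfl⟩ := hx
    rw [show CoalgebraStruct.comul (R := k) (b i) = b i ⊗ₜ[k] b i from hb i ▸ i.2.comul_eq_tmul_self,
      LinearMap.rTensor_tmul]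
    by_cases hio : i = o
    · subst hio; rw [h1]
    · rw [Module.Basis.coord_apply, b.repr_self, Finsupp.single_eq_of_ne (Ne.symm hio), TensorProduct.zero_tmul,
        TensorProduct.zero_tmul]
  | zero => simp
  | add p q _ _ hp hq => simp only [map_add, TensorProduct.add_tmul, hp, hq]
  | smul c p _ hp => rw [map_smul, map_smul, map_smul, ← TensorProduct.smul_tmul', hp]

theorem isDiagonalizable_of_reductive [IsAlgClosed k] [Coalgebra.IsCocomm k A]
    (h : HopfRep.IsLinearlyReductive k A) : HopfRep.IsDiagonalizable k A := by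
  refine isDiagonalizable_iff_span.2 fun V _ _ _ hV => ?_
  set U := Submodule.span k {v : V | ∃ a : A, HopfRep.Comod.coact (k := k) (A := A) v = v ⊗ₜ[k] a}
  have hU : HopfRep.IsSubcomod (k := k) (A := A) U := by
    refine (isSubcomod_iff _).2 fun φ v hv => ?_
    refine (Submodule.span_le.2 ?_ : U ≤ U.comap (dact V φ)) hv
    rintro w ⟨a, ha⟩
    rw [SetLike.mem_coe, Submodule.mem_comap, dact_apply, ha, contract_tmul]
    exact Submodule.smul_mem _ _ (Submodule.subset_span ⟨a, ha⟩)
  obtain ⟨W, hW, hc⟩ := h V hV U hU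
  by_contra hne
  have hW0 : W ≠ ⊥ := fun h0 => hne (by rw [h0] at hc; simpa using hc.codisjoint.eq_top)
  obtain ⟨v, hv, hv0, ha, -⟩ := exists_line isTrigonalizable_of_isCocomm hW hW0
  exact hv0 (Submodule.disjoint_def.1 hc.disjoint v (Submodule.subset_span ha) hv)

end Reductive

end Groth.Agent.H66.Trigon
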