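import Groth.Agent.H66.Unip
import Groth.Agent.H66.Trigon
import Groth.Agent.Lib.HopfTransfer.FF
import Mathlib.RingTheory.HopfAlgebra.TensorProduct

/-!
Coinvariants of a quotient, and unipotence in exact sequences.
-/

universe u v w

open TensorProduct Groth.Agent.Lib.Comod.Basic

set_option linter.unusedSectionVars false
set_option linter.style.haveILetI false

namespace Groth.Agent.H66.ExactSeq

noncomputable section

variable {k : Type u} [Field k] {A : Type v} [CommRing A] [HopfAlgebra k A]

/-- If the ideal cutting out the kernel is generated by the augmentation ideal of a Hopf subalgebra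
over which `A` is faithfully flat, the coinvariants of the kernel lie in the subalgebra. -/
theorem mem_of_coinvariant (S : Subalgebra k A) [Module.FaithfullyFlat S A]
    (hS : ∀ b ∈ S, CoalgebraStruct.comul (R := k) b ∈
      LinearMap.range (TensorProduct.map S.val.toLinearMap S.val.toLinearMap))
    (hanti : ∀ b ∈ S, HopfAlgebraStruct.antipode (R := k) b ∈ S)
    {B : Type w} [CommRing B] [Algebra k B] (q : A →ₐ[k] B)
    (hker : RingHom.ker q ≤ Ideal.span {a | a ∈ S ∧ CoalgebraStruct.counit (R := k) a = 0})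
    {a : A} (ha : q.toLinearMap.lTensor A (CoalgebraStruct.comul (R := k) a) = a ⊗ₜ[k] (1 : B)) : a ∈ S := by
  let π : A ⊗[k] A →ₐ[k] A ⊗[S] A :=
    Algebra.TensorProduct.lift ((Algebra.TensorProduct.includeLeft (R := S) (S := S)).restrictScalars k)
      ((Algebra.TensorProduct.includeRight (R := S)).restrictScalars k) fun x y => Commute.all _ _
  have hπ : ∀ x y : A, π (x ⊗ₜ[k] y) = x ⊗ₜ[S] y := fun x y => by simp [π]
  let Sa : A →ₐ[k] A := HopfAlgebra.antipodeAlgHom k A
  let lam : A →ₐ[k] A ⊗[S] A :=
    π.comp ((Algebra.TensorProduct.map Sa (AlgHom.id k A)).comp (Bialgebra.comulAlgHom k A))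
  have hlam : ∀ x, lam x = π (Sa.toLinearMap.rTensor A (CoalgebraStruct.comul (R := k) x)) := by
    intro x
    simp only [lam, AlgHom.comp_apply, Bialgebra.comulAlgHom_apply]
    congr 1
  have hSa : ∀ x, Sa x = HopfAlgebraStruct.antipode (R := k) x := fun x => rfl
  -- elements of the subalgebra go to scalars
  have hlamS : ∀ s ∈ S, lam s = algebraMap k _ (CoalgebraStruct.counit (R := k) s) := by
    intro s hs
    obtain ⟨z, hz⟩ := hS s hs
    have key : ∀ z : S ⊗[k] S,
        π (Sa.toLinearMap.rTensor A (TensorProduct.map S.val.toLinearMap S.val.toLinearMap z)) =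
          π ((LinearMap.mul' k A (Sa.toLinearMap.rTensor A (TensorProduct.map S.val.toLinearMap S.val.toLinearMap z))) ⊗ₜ[k] (1 : A)) := by
      intro z
      induction z using TensorProduct.induction_on with
      | zero => simp
      | add p q hp hq => simp only [map_add, TensorProduct.add_tmul, hp, hq]
      | tmul p q =>
        simp only [TensorProduct.map_tmul, LinearMap.rTensor_tmul, LinearMap.mul'_apply, AlgHom.toLinearMap_apply, hπ,
          Subalgebra.coe_val]
        rw [show (q : A) = q • (1 : A) by rw [Subalgebra.smul_def, smul_eq_mul, mul_one], ← TensorProduct.smul_tmul,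
          Subalgebra.smul_def, smul_eq_mul, mul_comm]
        simp [Subalgebra.smul_def, mul_comm]
    rw [hlam, ← hz, key, hz]
    have h1 : LinearMap.mul' k A (Sa.toLinearMap.rTensor A (CoalgebraStruct.comul (R := k) s)) =
        algebraMap k A (CoalgebraStruct.counit (R := k) s) := HopfAlgebra.mul_antipode_rTensor_comul_apply s
    rw [h1, show algebraMap k A (CoalgebraStruct.counit (R := k) s) ⊗ₜ[k] (1 : A) =
      algebraMap k (A ⊗[k] A) (CoalgebraStruct.counit (R := k) s) from rfl, AlgHom.commutes]
  let Ψ : A ⊗[k] A →ₐ[k] A ⊗[S] A :=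
    Algebra.TensorProduct.lift ((Algebra.TensorProduct.includeLeft (R := S) (S := S)).restrictScalars k) lam
      fun x y => Commute.all _ _
  have hΨ : ∀ x y : A, Ψ (x ⊗ₜ[k] y) = (x ⊗ₜ[S] (1 : A)) * lam y := fun x y => by simp [Ψ]
  -- Ψ of the comultiplication
  have hΔ : ∀ x, Ψ (CoalgebraStruct.comul (R := k) x) = (1 : A) ⊗ₜ[S] x := by
    intro x
    have h1 : ∀ z : A ⊗[k] A, Ψ z = π (((LinearMap.mul' k A).rTensor A)
        ((TensorProduct.assoc k A A A).symm
          ((((Sa.toLinearMap.rTensor A) ∘ₗ CoalgebraStruct.comul (R := k))).lTensor A z))) := by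
      intro z
      induction z using TensorProduct.induction_on with
      | zero => simp
      | add p q hp hq => simp only [map_add, hp, hq]
      | tmul p q =>
        rw [hΨ, hlam, LinearMap.lTensor_tmul, LinearMap.comp_apply]
        induction Sa.toLinearMap.rTensor A (CoalgebraStruct.comul (R := k) q) using TensorProduct.induction_on with
        | zero => simp
        | add r s hr hs => simp only [map_add, mul_add, TensorProduct.tmul_add, hr, hs]
        | tmul r s => simp [hπ]
    rw [h1, ← hπ]
    congr 1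
    have h2 : ((LinearMap.mul' k A).rTensor A) ((TensorProduct.assoc k A A A).symm
        ((((Sa.toLinearMap.rTensor A) ∘ₗ CoalgebraStruct.comul (R := k))).lTensor A (CoalgebraStruct.comul (R := k) x))) =
        (LinearMap.mul' k A ∘ₗ Sa.toLinearMap.lTensor A).rTensor A
          ((TensorProduct.assoc k A A A).symm
            ((CoalgebraStruct.comul (R := k)).lTensor A (CoalgebraStruct.comul (R := k) x))) := by
      rw [LinearMap.lTensor_comp, LinearMap.comp_apply]
      generalize (CoalgebraStruct.comul (R := k)).lTensor A (CoalgebraStruct.comul (R := k) x) = y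
      induction y using TensorProduct.induction_on with
      | zero => simp
      | add r s hr hs => simp only [map_add, hr, hs]
      | tmul r s =>
        induction s using TensorProduct.induction_on with
        | zero => simp
        | add s t hs ht => simp only [map_add, TensorProduct.tmul_add, hs, ht]
        | tmul s t => simp
    rw [h2, Coalgebra.coassoc_symm_apply, LinearMap.rTensor_comp, LinearMap.comp_apply, ← LinearMap.comp_apply,
      ← LinearMap.rTensor_comp, ← LinearMap.comp_apply, ← LinearMap.rTensor_comp, LinearMap.comp_assoc,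
      show (Sa.toLinearMap.lTensor A ∘ₗ CoalgebraStruct.comul (R := k) : A →ₗ[k] A ⊗[k] A) =
        (HopfAlgebraStruct.antipode (R := k)).lTensor A ∘ₗ CoalgebraStruct.comul from rfl,
      HopfAlgebra.mul_antipode_lTensor_comul, LinearMap.rTensor_comp, LinearMap.comp_apply,
      Coalgebra.rTensor_counit_comul]
    simp
  -- the kernel is killed
  have hJ : ∀ j ∈ RingHom.ker q, lam j = 0 := by
    intro j hj
    have h1 : Ideal.span {a | a ∈ S ∧ CoalgebraStruct.counit (R := k) a = 0} ≤ RingHom.ker lam := by
      rw [Ideal.span_le]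
      rintro s ⟨hs, hs0⟩
      rw [SetLike.mem_coe, RingHom.mem_ker, hlamS s hs, hs0, map_zero]
    exact h1 (hker hj)
  have hA : Ψ (CoalgebraStruct.comul (R := k) a) = Ψ (a ⊗ₜ[k] (1 : A)) := by
    rw [← sub_eq_zero, ← map_sub]
    have hmem : CoalgebraStruct.comul (R := k) a - a ⊗ₜ[k] (1 : A) ∈
        LinearMap.ker (q.toLinearMap.lTensor A) := by
      rw [LinearMap.mem_ker, map_sub, ha, LinearMap.lTensor_tmul, AlgHom.toLinearMap_apply, map_one, sub_self]
    have hex : LinearMap.ker (q.toLinearMap.lTensor A) =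
        LinearMap.range ((LinearMap.ker q.toLinearMap).subtype.lTensor A) :=
      LinearMap.exact_iff.1 (Module.Flat.lTensor_exact A (LinearMap.exact_subtype_ker_map q.toLinearMap))
    rw [hex] at hmem
    obtain ⟨z, hz⟩ := hmem
    rw [← hz]
    clear hz
    induction z using TensorProduct.induction_on with
    | zero => simp
    | add r s hr hs => rw [map_add, map_add, hr, hs, add_zero]
    | tmul r s =>
      rw [LinearMap.lTensor_tmul, Submodule.subtype_apply, hΨ, hJ _ (RingHom.mem_ker.2 (LinearMap.mem_ker.1 s.2 :)), mul_zero]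
  rw [hΔ, hΨ, map_one, mul_one] at hA
  obtain ⟨s, hs⟩ := Groth.Agent.Lib.Hopf.FaithfullyFlat.mem_range_of_tmul_one_eq (B := S) hA.symm
  rw [← hs]
  exact s.2

/-- Faithful flatness over a Hopf subalgebra, any universe. -/
theorem faithfullyFlat_subalgebra [Algebra.FiniteType k A] (S : Subalgebra k A)
    (h1 : ∀ b ∈ S, CoalgebraStruct.comul (R := k) b ∈
      LinearMap.range (TensorProduct.map S.val.toLinearMap S.val.toLinearMap))
    (h2 : ∀ b ∈ S, HopfAlgebraStruct.antipode (R := k) b ∈ S) : Module.FaithfullyFlat S A := by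
  obtain ⟨n, q, hq⟩ := Algebra.FiniteType.iff_quotient_mvPolynomial''.1 (inferInstance : Algebra.FiniteType k A)
  haveI : Small.{u} A := small_of_surjective hq
  let e : Shrink.{u} A ≃ₐ[k] A := Shrink.algEquiv k A
  letI : HopfAlgebra k (Shrink.{u} A) := Lib.HopfTransfer.hopfAlgebra e
  let g : A →ₐc[k] Shrink.{u} A := (Lib.HopfTransfer.bialgEquiv e).symm
  let S' : Subalgebra k (Shrink.{u} A) := S.map (g : A →ₐ[k] Shrink.{u} A)
  have hS' : SGA3.IsHopfSubalgebra k (Shrink.{u} A) S' := by
    constructor
    · rintro _ ⟨b, hb, rfl⟩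
      obtain ⟨z, hz⟩ := h1 b hb
      let r : S →ₐ[k] S' := ((g : A →ₐ[k] Shrink.{u} A).comp S.val).codRestrict S' fun x => ⟨x, x.2, rfl⟩
      refine ⟨TensorProduct.map r.toLinearMap r.toLinearMap z, ?_⟩
      change _ = CoalgebraStruct.comul (R := k) (g b)
      rw [← CoalgHomClass.map_comp_comul_apply g b]
      change _ = TensorProduct.map (g : A →ₐ[k] Shrink.{u} A).toLinearMap (g : A →ₐ[k] Shrink.{u} A).toLinearMap
        (CoalgebraStruct.comul (R := k) b)
      rw [← hz]
      rw [← LinearMap.comp_apply, ← TensorProduct.map_comp, ← LinearMap.comp_apply, ← TensorProduct.map_comp]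
      rfl
    · rintro _ ⟨b, hb, rfl⟩
      exact ⟨HopfAlgebraStruct.antipode (R := k) b, h2 b hb, (Lib.Hopf.FaithfullyFlat.map_antipode g b).symm⟩
  have hff : (algebraMap S' (Shrink.{u} A)).FaithfullyFlat :=
    RingHom.faithfullyFlat_algebraMap_iff.2 (Lib.Hopf.FaithfullyFlat.faithfullyFlat hS')
  let r : S →ₐ[k] S' := ((g : A →ₐ[k] Shrink.{u} A).comp S.val).codRestrict S' fun x => ⟨x, x.2, rfl⟩
  have hr : Function.Bijective r := by
    refine ⟨fun x y hxy => Subtype.ext (e.symm.injective (congrArg Subtype.val hxy)), ?_⟩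
    rintro ⟨_, b, hb, rfl⟩
    exact ⟨⟨b, hb⟩, rfl⟩
  have h4 := Lib.HopfTransfer.ff_comp (Lib.HopfTransfer.ff_comp (f := r.toRingHom)
    (RingHom.FaithfullyFlat.of_bijective hr) hff)
    (RingHom.FaithfullyFlat.of_bijective (f := (e : Shrink.{u} A →+* A)) e.bijective)
  refine RingHom.faithfullyFlat_algebraMap_iff.1 ?_
  convert h4 using 1
  exact RingHom.ext fun b => (e.apply_symm_apply (b : A)).symm

section Maps

variable {B : Type w} [CommRing B] [Bialgebra k B]

theorem map_dact_coalgHom (f : A →ₐc[k] B) (φ : B →ₗ[k] k) (a : A) :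
    dact B φ (f a) = f (dact A (φ ∘ₗ (f : A →ₗc[k] B).toLinearMap) a) := by
  rw [dact_apply, dact_apply]
  change contract B φ (CoalgebraStruct.comul (R := k) (f a)) = f (contract A _ (CoalgebraStruct.comul (R := k) a))
  rw [← CoalgHomClass.map_comp_comul_apply f a]
  induction CoalgebraStruct.comul (R := k) a using TensorProduct.induction_on with
  | zero => simp
  | add p q hp hq => simp only [map_add, hp, hq]
  | tmul p q => simp

theorem map_fil_le (f : A →ₐc[k] B) (n : ℕ) {a : A} (ha : a ∈ H66.Unip.fil k A A n) :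
    f a ∈ H66.Unip.fil k B B n := by
  induction n generalizing a with
  | zero => rw [H66.Unip.fil_zero, Submodule.mem_bot] at ha ⊢; rw [ha, map_zero]
  | succ n ih =>
    refine H66.Unip.mem_fil_succ.2 fun φ => ?_
    have h := ih (H66.Unip.mem_fil_succ.1 ha (φ ∘ₗ (f : A →ₗc[k] B).toLinearMap))
    rw [map_dact_coalgHom]
    rw [map_sub, map_smul] at h
    simpa using h

theorem mem_fil_of_injective {C : Type w} [CommRing C] [Bialgebra k C] (f : C →ₐc[k] A) (hf : Function.Injective f)
    (n : ℕ) {c : C} (hc : f c ∈ H66.Unip.fil k A A n) : c ∈ H66.Unip.fil k C C n := by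
  obtain ⟨r, hr⟩ := (f : C →ₗc[k] A).toLinearMap.exists_leftInverse_of_injective (LinearMap.ker_eq_bot.2 hf)
  induction n generalizing c with
  | zero =>
    rw [H66.Unip.fil_zero, Submodule.mem_bot] at hc ⊢
    exact hf (hc.trans (map_zero f).symm)
  | succ n ih =>
    refine H66.Unip.mem_fil_succ.2 fun φ => ih ?_
    have h := H66.Unip.mem_fil_succ.1 hc (φ ∘ₗ r)
    have e2 : dact A (φ ∘ₗ r) (f c) = f (dact C ((φ ∘ₗ r) ∘ₗ (f : C →ₗc[k] A).toLinearMap) c) := by
      rw [dact_apply, dact_apply]
      change contract A _ (CoalgebraStruct.comul (R := k) (f c)) = f (contract C _ (CoalgebraStruct.comul (R := k) c))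
      rw [← CoalgHomClass.map_comp_comul_apply f c]
      induction CoalgebraStruct.comul (R := k) c using TensorProduct.induction_on with
      | zero => simp
      | add p q hp hq => simp only [map_add, hp, hq]
      | tmul p q => simp
    rw [e2, LinearMap.comp_assoc, hr, LinearMap.comp_id] at h
    rw [map_sub, map_smul]
    have e1 : r (1 : A) = (1 : C) := by
      have := LinearMap.congr_fun hr (1 : C)
      simpa using this
    rw [LinearMap.comp_apply, e1] at h
    exact h

theorem isUnipotent_of_surjective (f : A →ₐc[k] B) (hf : Function.Surjective f) (hU : HopfRep.IsUnipotent k A) :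
    HopfRep.IsUnipotent k B := by
  refine H66.Unip.isUnipotent_of_iSup (eq_top_iff.2 fun b _ => ?_)
  obtain ⟨a, rfl⟩ := hf b
  obtain ⟨n, hn⟩ := H66.Unip.mem_fil_exists hU a
  exact Submodule.mem_iSup_of_mem n (map_fil_le f n hn)

theorem isUnipotent_of_injective {C : Type w} [CommRing C] [Bialgebra k C] (f : C →ₐc[k] A)
    (hf : Function.Injective f) (hU : HopfRep.IsUnipotent k A) : HopfRep.IsUnipotent k C := by
  refine H66.Unip.isUnipotent_of_iSup (eq_top_iff.2 fun c _ => ?_)
  obtain ⟨n, hn⟩ := H66.Unip.mem_fil_exists hU (f c)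
  exact Submodule.mem_iSup_of_mem n (mem_fil_of_injective f hf n hn)

end Maps

/-- Extension: if the kernel is unipotent and the subalgebra lies in the unipotent filtration, so is `A`. -/
theorem isUnipotent_of_extension (S : Subalgebra k A) [Module.FaithfullyFlat S A]
    (hS : ∀ b ∈ S, CoalgebraStruct.comul (R := k) b ∈
      LinearMap.range (TensorProduct.map S.val.toLinearMap S.val.toLinearMap))
    (hanti : ∀ b ∈ S, HopfAlgebraStruct.antipode (R := k) b ∈ S)
    (hfil : ∀ s ∈ S, ∃ n, s ∈ H66.Unip.fil k A A n)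
    {B : Type w} [CommRing B] [Bialgebra k B] (q : A →ₐc[k] B)
    (hker : RingHom.ker (q : A →ₐ[k] B) ≤ Ideal.span {a | a ∈ S ∧ CoalgebraStruct.counit (R := k) a = 0})
    (hB : HopfRep.IsUnipotent k B) : HopfRep.IsUnipotent k A := by
  classical
  intro V _ _ _ hV hVn
  letI cB := H66.Trigon.pushComod (q : A →ₗc[k] B) V
  obtain ⟨w, hw, hw0⟩ := Submodule.exists_mem_ne_zero_of_ne_bot (H66.Unip.exists_fixed hB V)
  have hcoef : ∀ ψ : V →ₗ[k] k, H66.Coeff.coeff (C := A) ψ w ∈ S := by
    intro ψ
    refine mem_of_coinvariant S hS hanti (q : A →ₐ[k] B) hker ?_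
    rw [H66.Coeff.comul_coeff]
    have h1 : ((q : A →ₐ[k] B).toLinearMap).lTensor V (HopfRep.Comod.coact (k := k) (A := A) w) = w ⊗ₜ[k] (1 : B) := hw
    rw [← LinearMap.comp_apply, LinearMap.lTensor_comp_rTensor, ← LinearMap.rTensor_comp_lTensor,
      LinearMap.comp_apply, h1, LinearMap.rTensor_tmul]
  obtain ⟨n, hn⟩ : ∃ n, ∀ ψ : V →ₗ[k] k, H66.Coeff.coeff (C := A) ψ w ∈ H66.Unip.fil k A A n := by
    let b := Module.finBasis k V
    choose N hN using fun i => hfil _ (hcoef (b.coord i))
    refine ⟨Finset.univ.sup N, fun ψ => ?_⟩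
    rw [← b.sum_dual_apply_smul_coord ψ]
    have e : ∀ i, H66.Coeff.coeff (C := A) (ψ (b i) • b.coord i) w = ψ (b i) • H66.Coeff.coeff (C := A) (b.coord i) w := by
      intro i
      rw [H66.Coeff.coeff_apply, H66.Coeff.coeff_apply]
      induction HopfRep.Comod.coact (k := k) (A := A) w using TensorProduct.induction_on with
      | zero => simp
      | add p q hp hq => simp only [map_add, hp, hq, smul_add]
      | tmul p q => simp [smul_smul]
    have e2 : H66.Coeff.coeff (C := A) (∑ i, ψ (b i) • b.coord i) w =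
        ∑ i, H66.Coeff.coeff (C := A) (ψ (b i) • b.coord i) w := by
      simp only [H66.Coeff.coeff_apply]
      induction HopfRep.Comod.coact (k := k) (A := A) w using TensorProduct.induction_on with
      | zero => simp
      | add p q hp hq => simp only [map_add, Finset.sum_add_distrib, hp, hq]
      | tmul p q => simp [Finset.sum_smul, smul_smul, -Module.Basis.sum_dual_apply_smul_coord]
    rw [e2]
    refine Submodule.sum_mem _ fun i _ => ?_
    rw [e]
    exact Submodule.smul_mem _ _ (H66.Unip.fil_mono (Finset.le_sup (Finset.mem_univ i)) (hN i))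
  have hwn : w ∈ H66.Unip.fil k A V n := H66.Unip.mem_fil_of_coeff hn
  intro h0
  have : ∀ m, H66.Unip.fil k A V m = ⊥ := by
    intro m
    induction m with
    | zero => rfl
    | succ m ih =>
      refine eq_bot_iff.2 fun v hv => ?_
      rw [← h0, ← H66.Unip.fil_one]
      refine H66.Unip.mem_fil_succ.2 fun φ => ?_
      rw [H66.Unip.fil_zero, ← ih]
      exact H66.Unip.mem_fil_succ.1 hv φ
  rw [this n, Submodule.mem_bot] at hwn
  exact hw0 hwn

end

end Groth.Agent.H66.ExactSeq
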