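import Groth.Agent.H66.UnipPoints
import Mathlib.RingTheory.Polynomial.Pochhammer
import Mathlib.Algebra.Polynomial.Roots
import Mathlib.Algebra.Polynomial.Eval.SMul
import Mathlib.Algebra.CharP.Algebra
import Mathlib.Algebra.CharP.Lemmas
import Mathlib.RingTheory.HopfAlgebra.Convolution

/-!
Powers of points of unipotent groups: torsion in characteristic `p`, one-parameter families in
characteristic zero.
-/

universe u v

open TensorProduct WithConv Groth.Agent.Lib.Comod.Basic

set_option linter.unusedSectionVars false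
set_option linter.style.haveILetI false

namespace Groth.Agent.H66.UnipPow

noncomputable section

open H66.Unip (fil)

variable {k : Type u} [Field k] {A : Type v} [CommRing A] [HopfAlgebra k A]

/-- Right translation by a point. -/
def T (g : WithConv (A →ₐ[k] k)) : Module.End k A := dact A g.ofConv.toLinearMap

theorem counit_T (g : WithConv (A →ₐ[k] k)) (a : A) :
    CoalgebraStruct.counit (R := k) (T g a) = g.ofConv a := by
  change CoalgebraStruct.counit (R := k)
    (contract A g.ofConv.toLinearMap (CoalgebraStruct.comul (R := k) a)) = g.ofConv a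
  have h := LinearMap.congr_fun (Coalgebra.rTensor_counit_comp_comul (R := k) (A := A)) a
  simp only [LinearMap.comp_apply] at h
  have key : ∀ z : A ⊗[k] A, CoalgebraStruct.counit (R := k) (contract A g.ofConv.toLinearMap z) =
      TensorProduct.lid k k (g.ofConv.toLinearMap.lTensor k
        ((CoalgebraStruct.counit (R := k) (A := A)).rTensor A z)) := by
    intro z
    induction z using TensorProduct.induction_on with
    | zero => simp
    | add x y hx hy => simp only [map_add, hx, hy]
    | tmul x y => simp [mul_comm]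
  rw [key, h]
  simp

theorem T_one : T (1 : WithConv (A →ₐ[k] k)) = 1 := by
  refine LinearMap.ext fun a => ?_
  change dact A _ a = a
  rw [show ((1 : WithConv (A →ₐ[k] k)).ofConv.toLinearMap) = CoalgebraStruct.counit (R := k) (A := A) from
    LinearMap.ext fun x => by simp, dact_counit_apply]

theorem T_mul (g h : WithConv (A →ₐ[k] k)) : T (g * h) = T g * T h := by
  refine LinearMap.ext fun a => ?_
  change dact A (g * h).ofConv.toLinearMap a = dact A g.ofConv.toLinearMap (dact A h.ofConv.toLinearMap a)
  rw [dact_dact]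
  exact congrArg (fun φ => dact A φ a) (congrArg WithConv.ofConv (H66.UnipPoints.toDual.map_mul g h))

theorem T_pow (g : WithConv (A →ₐ[k] k)) (m : ℕ) : T (g ^ m) = T g ^ m := by
  induction m with
  | zero => rw [pow_zero, pow_zero, T_one]
  | succ m ih => rw [pow_succ, pow_succ, T_mul, ih]

theorem sub_one_pow_eq_zero (g : WithConv (A →ₐ[k] k)) (n : ℕ) {a : A} (ha : a ∈ fil k A A n) :
    ((T g - 1) ^ n) a = 0 := by
  induction n generalizing a with
  | zero => rw [H66.Unip.fil_zero, Submodule.mem_bot] at ha; simp [ha]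
  | succ m ih =>
    rw [pow_succ, Module.End.mul_apply]
    refine ih ?_
    have h := H66.Unip.mem_fil_succ.1 ha g.ofConv.toLinearMap
    rwa [show g.ofConv.toLinearMap (1 : A) = 1 from map_one g.ofConv, one_smul] at h

theorem pow_apply_eq_sum (g : WithConv (A →ₐ[k] k)) {n : ℕ} {a : A} (ha : a ∈ fil k A A n) (m : ℕ) :
    (g ^ m).ofConv a = ∑ i ∈ Finset.range n, (m.choose i : k) * CoalgebraStruct.counit (R := k) (((T g - 1) ^ i) a) := by
  rw [← counit_T, T_pow]
  have h1 : T g ^ m = ∑ i ∈ Finset.range (m + 1), (T g - 1) ^ i * (1 : Module.End k A) ^ (m - i) *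
      (m.choose i : Module.End k A) := by
    rw [← (Commute.one_right (T g - 1)).add_pow, sub_add_cancel]
  have h2 : (T g ^ m) a = ∑ i ∈ Finset.range (max (m + 1) n), (m.choose i : k) • ((T g - 1) ^ i) a := by
    rw [h1, LinearMap.sum_apply]
    refine (Finset.sum_congr rfl fun i _ => ?_).trans
      (Finset.sum_subset (Finset.range_mono (le_max_left _ n)) fun i _ hi => ?_)
    · rw [one_pow, mul_one, Module.End.mul_apply, Module.End.natCast_apply, map_nsmul, Nat.cast_smul_eq_nsmul]
    · rw [Finset.mem_range, not_lt] at hi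
      rw [Nat.choose_eq_zero_of_lt (by omega), Nat.cast_zero, zero_smul]
  rw [h2, ← Finset.sum_subset (Finset.range_mono (le_max_right (m + 1) n)) fun i _ hi => ?_, map_sum]
  · simp
  · rw [Finset.mem_range, not_lt] at hi
    obtain ⟨j, rfl⟩ := Nat.exists_eq_add_of_le hi
    rw [add_comm, pow_add, Module.End.mul_apply, sub_one_pow_eq_zero g n ha, map_zero, smul_zero]

/-- A family of points depending polynomially on a parameter. -/
def IsPolyFam (f : k → WithConv (A →ₐ[k] k)) : Prop :=
  ∀ a : A, ∃ P : Polynomial k, ∀ t, (f t).ofConv a = P.eval t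

theorem IsPolyFam.ext [CharZero k] {f f' : k → WithConv (A →ₐ[k] k)} (hf : IsPolyFam f) (hf' : IsPolyFam f')
    (h : ∀ m : ℕ, f (m : k) = f' (m : k)) : f = f' := by
  refine funext fun t => WithConv.ofConv_injective (AlgHom.ext fun a => ?_)
  obtain ⟨P, hP⟩ := hf a
  obtain ⟨Q, hQ⟩ := hf' a
  have e : P = Q := by
    refine Polynomial.eq_of_infinite_eval_eq P Q ?_
    refine (Set.infinite_range_of_injective (Nat.cast_injective (R := k))).mono ?_
    rintro _ ⟨m, rfl⟩
    show P.eval _ = Q.eval _
    rw [← hP, ← hQ, h]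
  rw [hP, hQ, e]

theorem isPolyFam_const (g : WithConv (A →ₐ[k] k)) : IsPolyFam fun _ : k => g :=
  fun a => ⟨Polynomial.C (g.ofConv a), fun t => by simp⟩

theorem IsPolyFam.scale {f : k → WithConv (A →ₐ[k] k)} (hf : IsPolyFam f) (c : k) :
    IsPolyFam fun t => f (c * t) := by
  intro a
  obtain ⟨P, hP⟩ := hf a
  exact ⟨P.comp (Polynomial.C c * Polynomial.X), fun t => by rw [hP, Polynomial.eval_comp]; simp⟩

theorem IsPolyFam.mul {f f' : k → WithConv (A →ₐ[k] k)} (hf : IsPolyFam f) (hf' : IsPolyFam f') :
    IsPolyFam fun t => f t * f' t := by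
  intro a
  choose P hP using hf
  choose Q hQ using hf'
  have key : ∀ z : A ⊗[k] A, ∃ R : Polynomial k, ∀ t,
      Algebra.TensorProduct.lift (f t).ofConv (f' t).ofConv (fun _ _ => Commute.all _ _) z = R.eval t := by
    intro z
    induction z using TensorProduct.induction_on with
    | zero => exact ⟨0, fun t => by simp⟩
    | tmul x y => exact ⟨P x * Q y, fun t => by simp [hP, hQ]⟩
    | add x y hx hy =>
      obtain ⟨R, hR⟩ := hx
      obtain ⟨S, hS⟩ := hy
      exact ⟨R + S, fun t => by simp [hR, hS]⟩
  obtain ⟨R, hR⟩ := key (CoalgebraStruct.comul (R := k) a)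
  exact ⟨R, fun t => (AlgHom.convMul_apply _ _ a).trans (hR t)⟩

theorem IsPolyFam.pow {f : k → WithConv (A →ₐ[k] k)} (hf : IsPolyFam f) (e : ℕ) :
    IsPolyFam fun t => f t ^ e := by
  induction e with
  | zero => simpa using isPolyFam_const (1 : WithConv (A →ₐ[k] k))
  | succ e ih => simpa [pow_succ] using ih.mul hf

theorem exists_polyFam [CharZero k] (hU : HopfRep.IsUnipotent k A) (g : WithConv (A →ₐ[k] k)) :
    ∃ f : k → WithConv (A →ₐ[k] k), IsPolyFam f ∧ ∀ m : ℕ, f (m : k) = g ^ m := by
  have hmem := fun a : A => H66.Unip.mem_fil_exists hU a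
  choose N hN using hmem
  let c : ℕ → Polynomial k := fun i => Polynomial.C ((Nat.factorial i : k)⁻¹) * descPochhammer k i
  have hc : ∀ (i m : ℕ), (c i).eval (m : k) = (m.choose i : k) := by
    intro i m
    simp only [c, Polynomial.eval_mul, Polynomial.eval_C]
    rw [descPochhammer_eval_eq_descFactorial, Nat.descFactorial_eq_factorial_mul_choose, Nat.cast_mul,
      inv_mul_cancel_left₀ (Nat.cast_ne_zero.2 (Nat.factorial_ne_zero i))]
  let P : A → Polynomial k := fun a => ∑ i ∈ Finset.range (N a),
    Polynomial.C (CoalgebraStruct.counit (R := k) (((T g - 1) ^ i) a)) * c i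
  have hP : ∀ (a : A) (m : ℕ), (P a).eval (m : k) = (g ^ m).ofConv a := by
    intro a m
    rw [pow_apply_eq_sum g (hN a) m]
    simp only [P, Polynomial.eval_finset_sum, Polynomial.eval_mul, Polynomial.eval_C, hc]
    exact Finset.sum_congr rfl fun i _ => mul_comm _ _
  have hid : ∀ {R S : Polynomial k}, (∀ m : ℕ, R.eval (m : k) = S.eval (m : k)) → R = S := by
    intro R S h
    refine Polynomial.eq_of_infinite_eval_eq R S ?_
    refine (Set.infinite_range_of_injective (Nat.cast_injective (R := k))).mono ?_
    rintro _ ⟨m, rfl⟩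
    exact h m
  have h1 : P 1 = 1 := hid fun m => by rw [hP]; simp
  have h2 : ∀ a b, P (a * b) = P a * P b := fun a b => hid fun m => by
    rw [hP, map_mul, Polynomial.eval_mul, hP, hP]
  have h3 : ∀ a b, P (a + b) = P a + P b := fun a b => hid fun m => by
    rw [hP, map_add, Polynomial.eval_add, hP, hP]
  have h4 : ∀ (r : k) a, P (r • a) = r • P a := fun r a => hid fun m => by
    rw [hP, map_smul, Polynomial.eval_smul, hP]
  let f : k → WithConv (A →ₐ[k] k) := fun t => toConv (AlgHom.ofLinearMap
    { toFun := fun a => (P a).eval t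
      map_add' := fun a b => by rw [h3, Polynomial.eval_add]
      map_smul' := fun r a => by rw [h4, Polynomial.eval_smul]; rfl }
    (by simp [h1]) (fun a b => by simp [h2]))
  exact ⟨f, fun a => ⟨P a, fun t => rfl⟩, fun m => WithConv.ofConv_injective (AlgHom.ext fun a => hP a m)⟩

/-- In characteristic zero, powers of points are injective and surjective. -/
theorem pow_bijective [CharZero k] (hU : HopfRep.IsUnipotent k A) {e : ℕ} (he : e ≠ 0) :
    Function.Bijective fun g : WithConv (A →ₐ[k] k) => g ^ e := by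
  have he' : (e : k) ≠ 0 := Nat.cast_ne_zero.2 he
  refine ⟨fun g h hgh => ?_, fun g => ?_⟩
  · obtain ⟨f, hf, hfm⟩ := exists_polyFam hU g
    obtain ⟨f', hf', hf'm⟩ := exists_polyFam hU h
    have hh : (fun t => f ((e : k) * t)) = fun t => f' ((e : k) * t) :=
      (hf.scale _).ext (hf'.scale _) fun m => by
        simp only [← Nat.cast_mul, hfm, hf'm, pow_mul]
        exact congrArg (· ^ m) hgh
    have h1 := congrFun hh (e : k)⁻¹
    simp only [mul_inv_cancel₀ he'] at h1
    rw [← Nat.cast_one, hfm, hf'm, pow_one, pow_one] at h1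
    exact h1
  · obtain ⟨f, hf, hfm⟩ := exists_polyFam hU g
    refine ⟨f (e : k)⁻¹, ?_⟩
    have hh : (fun t => f t ^ e) = fun t => f ((e : k) * t) :=
      (hf.pow e).ext (hf.scale _) fun m => by
        simp only [← Nat.cast_mul, hfm, ← pow_mul, mul_comm m e]
    have h1 := congrFun hh (e : k)⁻¹
    simp only [mul_inv_cancel₀ he'] at h1
    rw [← Nat.cast_one, hfm, pow_one] at h1
    exact h1

/-- Idempotents are constant on points in characteristic zero. -/
theorem point_idem_eq_counit [CharZero k] (hU : HopfRep.IsUnipotent k A) {e : A} (he : IsIdempotentElem e)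
    (g : WithConv (A →ₐ[k] k)) : g.ofConv e = CoalgebraStruct.counit (R := k) e := by
  obtain ⟨f, hf, hfm⟩ := exists_polyFam hU g
  obtain ⟨P, hP⟩ := hf e
  have hPP : P * P = P := by
    refine Polynomial.eq_of_infinite_eval_eq _ _ ?_
    refine (Set.infinite_range_of_injective (Nat.cast_injective (R := k))).mono ?_
    rintro _ ⟨m, rfl⟩
    show (P * P).eval _ = P.eval _
    rw [Polynomial.eval_mul, ← hP, ← map_mul, he.eq]
  have hconst : ∀ s t : k, P.eval s = P.eval t := by
    rcases eq_or_ne P 0 with h | h
    · simp [h]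
    · have hdeg : P.natDegree = 0 := by
        have := congrArg Polynomial.natDegree hPP
        rw [Polynomial.natDegree_mul h h] at this
        omega
      obtain ⟨c, hc⟩ := Polynomial.natDegree_eq_zero.1 hdeg
      simp [← hc]
  have h0 := hP ((0 : ℕ) : k)
  have h1 := hP ((1 : ℕ) : k)
  rw [hfm, pow_one] at h1
  rw [hfm, pow_zero, hconst _ ((1 : ℕ) : k), ← h1] at h0
  rw [← h0]
  simp

/-- In characteristic `p` every point is `p`-torsion. -/
theorem exists_pow_eq_one (p : ℕ) [Fact p.Prime] [CharP k p] [Algebra.FiniteType k A]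
    (hU : HopfRep.IsUnipotent k A) (g : WithConv (A →ₐ[k] k)) : ∃ r : ℕ, g ^ p ^ r = 1 := by
  haveI : Nontrivial A := ⟨⟨1, 0, fun h => one_ne_zero (α := k) (by
    rw [← Bialgebra.counit_one (R := k) (A := A), h, map_zero])⟩⟩
  have hinj : Function.Injective (algebraMap k (Module.End k A)) := by
    intro c c' h
    have h1 := congrArg (fun f : Module.End k A => CoalgebraStruct.counit (R := k) (f (1 : A))) h
    simpa [Module.algebraMap_end_apply] using h1
  haveI := charP_of_injective_algebraMap hinj p
  obtain ⟨t, ht⟩ := Algebra.FiniteType.out (R := k) (A := A)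
  have hmem := fun a : A => H66.Unip.mem_fil_exists hU a
  choose N hN using hmem
  refine ⟨t.sup N, WithConv.ofConv_injective (AlgHom.ext_of_adjoin_eq_top ht fun a ha => ?_)⟩
  have hle : N a ≤ p ^ t.sup N :=
    (Finset.le_sup ha).trans (Nat.lt_pow_self (Fact.out : p.Prime).one_lt).le
  have hz : ((T g - 1) ^ p ^ t.sup N) a = 0 :=
    sub_one_pow_eq_zero g _ (H66.Unip.fil_mono hle (hN a))
  rw [sub_pow_char_pow_of_commute p _ (Commute.one_right (T g)), one_pow, LinearMap.sub_apply, sub_eq_zero,
    Module.End.one_apply, ← T_pow] at hz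
  rw [← counit_T, hz]
  simp

end

end Groth.Agent.H66.UnipPow
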