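import Groth.Agent.H66.Trigon
import Groth.Agent.H66.ExactSeq
import Groth.Agent.H66.UnipBC
import Groth.Agent.Lib.Hopf.Irred
import Mathlib.RingTheory.Bialgebra.MonoidAlgebra
import Mathlib.RingTheory.HopfAlgebra.MonoidAlgebra

/-!
Trigonalizable groups: base change and the unipotent-by-diagonalizable structure.
-/

universe u v w w'

open TensorProduct Groth.Agent.Lib.Comod.Basic

set_option linter.unusedSectionVars false
set_option linter.style.haveILetI false

namespace Groth.Agent.H66.Trigon2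

noncomputable section

section Flag

variable {k : Type u} [Field k] {A : Type v} [CommRing A] [Bialgebra k A]
variable {V : Type w} [AddCommGroup V] [Module k V] [HopfRep.Comod k A V] [Module.Finite k V]
variable {W : Type w'} [AddCommGroup W] [Module k W] [HopfRep.Comod k A W]

theorem finrank_eq_one_of_flag (hs : HopfRep.IsSimpleComod k A V) (c : V →ₗ[k] W) (hcE : Hoch.IsComodHom A c)
    (hc : Function.Injective c) (F : ℕ → Submodule k W) (hF : ∀ i, HopfRep.IsSubcomod (k := k) (A := A) (F i))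
    (hF0 : F 0 = ⊥) (hex : ∃ i, LinearMap.range c ≤ F i)
    (hstep : ∀ i, ∃ x, F (i + 1) ≤ F i ⊔ Submodule.span k {x}) : Module.finrank k V = 1 := by
  classical
  haveI := hs.1
  have hfr : Module.finrank k (LinearMap.range c) = Module.finrank k V := LinearMap.finrank_range_of_inj hc
  have hpos : 0 < Module.finrank k V := Module.finrank_pos
  haveI : ∀ i, Module.Finite k (F i) := by
    intro i
    induction i with
    | zero => rw [hF0]; infer_instance
    | succ i ih =>
      obtain ⟨x, hx⟩ := hstep i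
      exact Submodule.finiteDimensional_of_le hx
  obtain ⟨j, hj⟩ : ∃ j, Nat.find hex = j + 1 := by
    rcases h : Nat.find hex with _ | j
    · have h2 := Nat.find_spec hex
      rw [h, hF0, le_bot_iff] at h2
      rw [← hfr, h2, finrank_bot] at hpos
      exact absurd hpos (lt_irrefl 0)
    · exact ⟨j, rfl⟩
  have h2 := Nat.find_spec hex
  rw [hj] at h2
  have hnot : ¬ LinearMap.range c ≤ F j := Nat.find_min hex (by rw [hj]; exact Nat.lt_succ_self j)
  have hdis : LinearMap.range c ⊓ F j = ⊥ := by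
    rcases hs.2 ((F j).comap c) (isSubcomod_comap hcE (hF j)) with h | h
    · rw [eq_bot_iff]
      rintro _ ⟨⟨v, rfl⟩, hv⟩
      have hv' : v ∈ (F j).comap c := hv
      rw [h, Submodule.mem_bot] at hv'
      rw [hv', map_zero]
      exact Submodule.zero_mem _
    · exact absurd (by rintro _ ⟨v, rfl⟩; exact (h ▸ Submodule.mem_top : v ∈ (F j).comap c)) hnot
  obtain ⟨x, hx⟩ := hstep j
  have h4 := Submodule.finrank_mono (sup_le (h2.trans hx) le_sup_left :
    LinearMap.range c ⊔ F j ≤ F j ⊔ Submodule.span k {x})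
  have h5 := Submodule.finrank_sup_add_finrank_inf_eq (LinearMap.range c) (F j)
  rw [hdis, finrank_bot, add_zero] at h5
  have h6 := Submodule.finrank_add_le_finrank_add_finrank (F j) (Submodule.span k {x})
  have h7 : Module.finrank k ↥(Submodule.span k {x}) ≤ 1 := (finrank_span_le_card _).trans (by simp)
  omega

end Flag

section BaseChange

variable {k : Type u} [Field k] {A : Type u} [CommRing A] [Bialgebra k A]
variable {K : Type u} [Field K] [Algebra k K]

theorem isSubcomod_baseChange {U : Submodule k A} (hU : HopfRep.IsSubcomod (k := k) (A := A) U) :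
    HopfRep.IsSubcomod (k := K) (A := K ⊗[k] A) (U.baseChange K) := by
  let D : K ⊗[k] A →ₗ[K] (K ⊗[k] A) ⊗[K] (K ⊗[k] A) := CoalgebraStruct.comul (R := K)
  change U.baseChange K ≤ (LinearMap.range ((U.baseChange K).subtype.rTensor (K ⊗[k] A))).comap D
  rw [Submodule.baseChange_eq_span K U, Submodule.span_le]
  rintro _ ⟨a, ha, rfl⟩
  simp only [SetLike.mem_coe, Submodule.mem_comap, D, TensorProduct.mk_apply]
  obtain ⟨z, hz⟩ := hU a ha
  rw [H66.Tame.comul_baseChange, LinearMap.baseChange_tmul,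
    show CoalgebraStruct.comul (R := k) a = U.subtype.rTensor A z from hz.symm, ← Submodule.baseChange_eq_span K U]
  clear hz
  induction z using TensorProduct.induction_on with
  | zero => simp
  | add p q hp hq => simp only [map_add, TensorProduct.tmul_add]; exact Submodule.add_mem _ hp hq
  | tmul p q =>
    rw [LinearMap.rTensor_tmul, AlgebraTensorModule.distribBaseChange_tmul]
    exact ⟨⟨(1 : K) ⊗ₜ[k] (p : A), Submodule.tmul_mem_baseChange_of_mem 1 p.2⟩ ⊗ₜ[K] ((1 : K) ⊗ₜ[k] q), rfl⟩

theorem isTrigonalizable_baseChange (hT : HopfRep.IsTrigonalizable k A) :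
    HopfRep.IsTrigonalizable K (K ⊗[k] A) := by
  classical
  intro V _ _ _ hV hs
  haveI := hs.1
  obtain ⟨φ, hφ⟩ := exists_ne (0 : V →ₗ[K] K)
  let c : V →ₗ[K] K ⊗[k] A := H66.Coeff.coeff (C := K ⊗[k] A) φ
  obtain ⟨s, hs'⟩ := hV.fg_top
  have hmem : ∀ v : V, ∃ M : Submodule k A, HopfRep.IsSubcomod (k := k) (A := A) M ∧ M.FG ∧ c v ∈ M.baseChange K := by
    intro v
    obtain ⟨S, hS⟩ := TensorProduct.exists_finset (c v)
    refine ⟨⨆ p : S, cyclic (k := k) (A := A) A p.1.2, isSubcomod_iSup fun p => isSubcomod_cyclic _,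
      Submodule.fg_iSup _ fun p => cyclic_fg A _, ?_⟩
    rw [hS]
    exact Submodule.sum_mem _ fun p hp => Submodule.tmul_mem_baseChange_of_mem _
      (Submodule.mem_iSup_of_mem ⟨p, hp⟩ (self_mem_cyclic A _))
  choose M hM1 hM2 hM3 using hmem
  let N : Submodule k A := ⨆ v : s, M v
  have hN : HopfRep.IsSubcomod (k := k) (A := A) N := isSubcomod_iSup fun v => hM1 v
  haveI : Module.Finite k N := Module.Finite.iff_fg.2 (Submodule.fg_iSup _ fun v => hM2 v)
  letI := subComod N hN
  obtain ⟨F, -, hF0, hFsub, -, hFtop, hFstep⟩ := H66.Trigon.exists_flag (V := N) hT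
  refine finrank_eq_one_of_flag hs c (H66.Coeff.isComodHom_coeff φ)
    (H66.Coeff.injective_coeff_of_ne_zero hs φ hφ) (fun i => ((F i).map N.subtype).baseChange K)
    (fun i => isSubcomod_baseChange (isSubcomod_map (isComodHom_subtype hN) (hFsub i))) ?_ ?_ ?_
  · simp only [hF0, Submodule.map_bot, Submodule.baseChange_bot]
  · refine ⟨Module.finrank k N, ?_⟩
    rw [hFtop _ le_rfl, Submodule.map_top, Submodule.range_subtype, LinearMap.range_eq_map, ← hs', Submodule.map_span,
      Submodule.span_le]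
    rintro _ ⟨v, hv, rfl⟩
    have hle : M v ≤ N := le_iSup (fun v : s => M v) ⟨v, hv⟩
    refine (Submodule.baseChange_eq_span K (M v)).le.trans ?_ (hM3 v)
    rw [Submodule.span_le]
    rintro _ ⟨a, ha, rfl⟩
    exact Submodule.tmul_mem_baseChange_of_mem 1 (hle ha)
  · intro i
    obtain ⟨x, hx⟩ := hFstep i
    refine ⟨(1 : K) ⊗ₜ[k] (x : A), ?_⟩
    rw [Submodule.baseChange_eq_span K ((F (i + 1)).map N.subtype), Submodule.span_le]
    rintro _ ⟨a, ⟨b, hb, rfl⟩, rfl⟩
    obtain ⟨p, hp, q, hq, rfl⟩ := Submodule.mem_sup.1 (hx hb)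
    obtain ⟨r, rfl⟩ := Submodule.mem_span_singleton.1 hq
    simp only [SetLike.mem_coe, TensorProduct.mk_apply, map_add, map_smul, Submodule.subtype_apply,
      TensorProduct.tmul_add, TensorProduct.tmul_smul]
    refine Submodule.add_mem _ (Submodule.mem_sup_left (Submodule.tmul_mem_baseChange_of_mem 1 ⟨p, hp, rfl⟩))
      (Submodule.mem_sup_right ?_)
    rw [← algebraMap_smul K r]
    exact Submodule.smul_mem _ _ (Submodule.mem_span_singleton_self _)

end BaseChange

section Structure

variable {k : Type u} [Field k] {A : Type u} [CommRing A] [HopfAlgebra k A]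

/-- Vectors whose coefficients are spanned by group-likes decompose into eigenvectors. -/
theorem exists_eigen {V : Type w} [AddCommGroup V] [Module k V] [HopfRep.Comod k A V] {v : V} (hv : v ≠ 0)
    (h : ∀ ℓ : V →ₗ[k] k, H66.Coeff.coeff (C := A) ℓ v ∈ Submodule.span k {a : A | IsGroupLikeElem k a}) :
    ∃ (φ : A →ₗ[k] k) (g : A), dact V φ v ≠ 0 ∧
      HopfRep.Comod.coact (k := k) (A := A) (dact V φ v) = dact V φ v ⊗ₜ[k] g := by
  classical
  obtain ⟨ℓ₀, hℓ₀⟩ := Module.Projective.exists_dual_ne_zero k hv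
  have hli : LinearIndependent k (fun a : {a : A // IsGroupLikeElem k a} => a.1) := linearIndepOn_isGroupLikeElem
  have hspan : Submodule.span k (Set.range fun a : {a : A // IsGroupLikeElem k a} => a.1) =
      Submodule.span k {a : A | IsGroupLikeElem k a} := by
    rw [Subtype.range_coe_subtype]
  let b := Module.Basis.span hli
  have hmem : ∀ ℓ, H66.Coeff.coeff (C := A) ℓ v ∈ Submodule.span k (Set.range fun a : {a : A // IsGroupLikeElem k a} => a.1) :=
    fun ℓ => hspan ▸ h ℓ
  obtain ⟨i, hi⟩ : ∃ i, b.repr ⟨_, hmem ℓ₀⟩ i ≠ 0 := by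
    by_contra hne
    push Not at hne
    have h0 : (⟨_, hmem ℓ₀⟩ : Submodule.span k (Set.range fun a : {a : A // IsGroupLikeElem k a} => a.1)) = 0 :=
      b.ext_elem fun i => by rw [hne i, map_zero, Finsupp.zero_apply]
    have h1 := congrArg (fun z : Submodule.span k (Set.range fun a : {a : A // IsGroupLikeElem k a} => a.1) =>
      CoalgebraStruct.counit (R := k) (z : A)) h0
    simp only [H66.Coeff.counit_coeff, ZeroMemClass.coe_zero, map_zero] at h1
    exact hℓ₀ h1
  obtain ⟨φ, hφ⟩ := (b.coord i).exists_extend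
  have hφb : ∀ j, φ j.1 = if j = i then 1 else 0 := by
    intro j
    have h1 := LinearMap.congr_fun hφ (b j)
    rw [LinearMap.comp_apply, Module.Basis.coord_apply, b.repr_self, Finsupp.single_apply,
      Submodule.subtype_apply, Module.Basis.span_apply] at h1
    exact h1
  have hact : ∀ z ∈ Submodule.span k (Set.range fun a : {a : A // IsGroupLikeElem k a} => a.1),
      dact A φ z = φ z • i.1 := by
    intro z hz
    induction hz using Submodule.span_induction with
    | mem y hy =>
      obtain ⟨j, rfl⟩ := hy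
      rw [dact_apply, show HopfRep.Comod.coact (k := k) (A := A) j.1 = j.1 ⊗ₜ[k] j.1 from j.2.comul_eq_tmul_self,
        contract_tmul, hφb]
      split_ifs with hji
      · rw [hji]
      · rw [zero_smul, zero_smul]
    | zero => simp
    | add p q _ _ hp hq => rw [map_add, map_add, add_smul, hp, hq]
    | smul c p _ hp => rw [map_smul, map_smul, smul_assoc, hp]
  have hval : ∀ ℓ : V →ₗ[k] k, ℓ (dact V φ v) = φ (H66.Coeff.coeff (C := A) ℓ v) := by
    intro ℓ
    rw [← H66.Coeff.counit_coeff (C := A) ℓ, map_dact (H66.Coeff.isComodHom_coeff (C := A) ℓ), hact _ (hmem ℓ),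
      map_smul, i.2.counit_eq_one, smul_eq_mul, mul_one]
  refine ⟨φ, i.1, fun h0 => hi ?_, ?_⟩
  · have h1 := hval ℓ₀
    rw [h0, map_zero] at h1
    rw [← b.coord_apply, ← LinearMap.congr_fun hφ ⟨_, hmem ℓ₀⟩, LinearMap.comp_apply, Submodule.subtype_apply, ← h1]
  · refine ext_contract fun ψ => ?_
    rw [contract_tmul, ← dact_apply, ← sub_eq_zero]
    refine (Module.forall_dual_apply_eq_zero_iff k _).1 fun ℓ => ?_
    rw [map_sub, map_smul, sub_eq_zero, hval,
      show ℓ (dact V ψ (dact V φ v)) = ψ (H66.Coeff.coeff (C := A) ℓ (dact V φ v)) from ?_,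
      map_dact (H66.Coeff.isComodHom_coeff (C := A) ℓ), hact _ (hmem ℓ), map_smul, smul_eq_mul, smul_eq_mul, mul_comm]
    rw [dact_apply, H66.Coeff.coeff_apply]
    induction HopfRep.Comod.coact (k := k) (A := A) (dact V φ v) using TensorProduct.induction_on with
    | zero => simp
    | add p q hp hq => simp only [map_add, hp, hq]
    | tmul p q => simp [mul_comm]

theorem isTrigonalizable_of_extension [Algebra.FiniteType k A] {B : Type u} [CommRing B] [HopfAlgebra k B]
    (ψ : B →ₐc[k] A) (hB : HopfRep.IsDiagonalizable k B)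
    (J : Ideal A) [J.IsHopfIdeal k] (hJ : J = Ideal.map (ψ : B →+* A) (RingHom.ker (Bialgebra.counitAlgHom k B)))
    (hU : HopfRep.IsUnipotent k (A ⧸ J)) : HopfRep.IsTrigonalizable k A := by
  intro V _ _ _ hV hs
  haveI := hs.1
  let S : Subalgebra k A := (ψ : B →ₐ[k] A).range
  have hS : ∀ b ∈ S, CoalgebraStruct.comul (R := k) b ∈
      LinearMap.range (TensorProduct.map S.val.toLinearMap S.val.toLinearMap) :=
    (Lib.HopfTransfer.isHopfSubalgebra_range ψ).1
  have hanti : ∀ b ∈ S, HopfAlgebraStruct.antipode (R := k) b ∈ S :=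
    (Lib.HopfTransfer.isHopfSubalgebra_range ψ).2
  haveI := H66.ExactSeq.faithfullyFlat_subalgebra S hS hanti
  let q : A →ₐc[k] A ⧸ J := Bialgebra.Quotient.mkBialgHom (R := k) J
  letI cQ := H66.Trigon.pushComod (q : A →ₗc[k] A ⧸ J) V
  obtain ⟨v, hv, hv0⟩ := Submodule.exists_mem_ne_zero_of_ne_bot (H66.Unip.exists_fixed hU V)
  have hker : RingHom.ker (q : A →ₐ[k] A ⧸ J) ≤ Ideal.span {a | a ∈ S ∧ CoalgebraStruct.counit (R := k) a = 0} := by
    intro a ha
    have ha' : a ∈ J := Ideal.Quotient.eq_zero_iff_mem.1 ha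
    rw [hJ] at ha'
    refine (Ideal.map_le_iff_le_comap.2 fun c hc => Ideal.mem_comap.2
      (Ideal.subset_span (α := A) (s := {a | a ∈ S ∧ CoalgebraStruct.counit (R := k) a = 0}) ⟨⟨c, rfl⟩, ?_⟩)) ha'
    exact (CoalgHomClass.counit_comp_apply ψ c).trans hc
  have hcoef : ∀ ℓ : V →ₗ[k] k, H66.Coeff.coeff (C := A) ℓ v ∈ Submodule.span k {a : A | IsGroupLikeElem k a} := by
    intro ℓ
    have hmem : H66.Coeff.coeff (C := A) ℓ v ∈ S := by
      refine H66.ExactSeq.mem_of_coinvariant S hS hanti (q : A →ₐ[k] A ⧸ J) hker ?_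
      rw [H66.Coeff.comul_coeff]
      have h1 : ((q : A →ₐ[k] A ⧸ J).toLinearMap).lTensor V (HopfRep.Comod.coact (k := k) (A := A) v) =
          v ⊗ₜ[k] (1 : A ⧸ J) := hv
      rw [← LinearMap.comp_apply, LinearMap.lTensor_comp_rTensor, ← LinearMap.rTensor_comp_lTensor,
        LinearMap.comp_apply, h1, LinearMap.rTensor_tmul]
    obtain ⟨b, hb⟩ := hmem
    rw [← hb]
    have hb2 : b ∈ Submodule.span k {x : B | IsGroupLikeElem k x} := hB.symm ▸ Submodule.mem_top
    change ψ b ∈ _
    clear hb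
    induction hb2 using Submodule.span_induction with
    | mem x hx => exact Submodule.subset_span (IsGroupLikeElem.map ψ hx)
    | zero => rw [map_zero]; exact Submodule.zero_mem _
    | add p q _ _ hp hq => rw [map_add]; exact Submodule.add_mem _ hp hq
    | smul c p _ hp => rw [map_smul]; exact Submodule.smul_mem _ _ hp
  obtain ⟨φ, g, hne, hg⟩ := exists_eigen hv0 hcoef
  have hline : HopfRep.IsSubcomod (k := k) (A := A) (Submodule.span k {dact V φ v}) := by
    refine (isSubcomod_iff _).2 fun χ x hx => ?_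
    obtain ⟨c, rfl⟩ := Submodule.mem_span_singleton.1 hx
    rw [map_smul, dact_apply (V := V) χ, hg, contract_tmul]
    exact Submodule.smul_mem _ _ (Submodule.smul_mem _ _ (Submodule.mem_span_singleton_self _))
  rcases hs.2 _ hline with h | h
  · exact absurd (Submodule.span_singleton_eq_bot.1 h) hne
  · rw [← finrank_top k V, ← h, finrank_span_singleton hne]

variable (k A) in
/-- The canonical map from the group algebra of the group-likes. -/
def charMap : MonoidAlgebra k (GroupLike k A) →ₐc[k] A := MonoidAlgebra.liftGroupLikeBialgHom (R := k) (A := A)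

theorem charMap_single (g : GroupLike k A) : charMap k A (MonoidAlgebra.single g 1) = g.1 :=
  (MonoidAlgebra.lift_single _ _ _).trans (one_smul k _)

theorem injective_charMap : Function.Injective (charMap k A) := by
  have h : (charMap k A : MonoidAlgebra k (GroupLike k A) →ₐ[k] A).toLinearMap =
      Finsupp.linearCombination k (GroupLike.val (R := k) (A := A)) ∘ₗ
        (MonoidAlgebra.coeffLinearEquiv k).toLinearMap := by
    refine (MonoidAlgebra.basis (GroupLike k A) k).ext fun g => ?_
    rw [MonoidAlgebra.basis_apply]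
    refine (charMap_single g).trans ?_
    simp [Finsupp.linearCombination_apply]
  change Function.Injective (charMap k A : MonoidAlgebra k (GroupLike k A) →ₐ[k] A).toLinearMap
  rw [h]
  rw [LinearMap.coe_comp]
  exact Function.Injective.comp (linearIndep_groupLikeVal (R := k) (A := A)) (MonoidAlgebra.coeffLinearEquiv k).injective

theorem isUnipotent_kernel (hT : HopfRep.IsTrigonalizable k A) (J : Ideal A) [J.IsHopfIdeal k]
    (hJ : ∀ g : A, IsGroupLikeElem k g → g - 1 ∈ J) : HopfRep.IsUnipotent k (A ⧸ J) := by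
  classical
  open H66.Unip in
  refine isUnipotent_of_iSup (eq_top_iff.2 fun y _ => ?_)
  obtain ⟨a, rfl⟩ := Ideal.Quotient.mk_surjective y
  let q : A →ₐc[k] A ⧸ J := Bialgebra.Quotient.mkBialgHom (R := k) J
  let T : Submodule k (A ⧸ J) := ⨆ n, fil k (A ⧸ J) (A ⧸ J) n
  let M : Submodule k A := cyclic (k := k) (A := A) A a
  have hM : HopfRep.IsSubcomod (k := k) (A := A) M := isSubcomod_cyclic a
  haveI : Module.Finite k M := Module.Finite.iff_fg.2 (cyclic_fg A a)
  letI := subComod M hM
  let f : M →ₗ[k] A ⧸ J := (q : A →ₐ[k] A ⧸ J).toLinearMap ∘ₗ M.subtype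
  obtain ⟨U, ⟨hU, hUT⟩, hmax⟩ := set_has_maximal_iff_noetherian.2 (inferInstance : IsNoetherian k M)
    {U : Submodule k M | HopfRep.IsSubcomod (k := k) (A := A) U ∧ U ≤ T.comap f} ⟨⊥, isSubcomod_bot, bot_le⟩
  have htop : U = ⊤ := by
    by_contra hne
    letI := quotComod U hU
    haveI : Nontrivial (M ⧸ U) := Submodule.Quotient.nontrivial_iff.2 hne
    obtain ⟨p, -, hp0, ⟨g, hg⟩, hp⟩ := H66.Trigon.exists_line (V := M ⧸ U) hT isSubcomod_top top_ne_bot
    have hgl := H66.Trigon.isGroupLike_of_coact hp0 hg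
    obtain ⟨x, rfl⟩ := U.mkQ_surjective p
    have hxU : x ∉ U := fun hx => hp0 ((Submodule.Quotient.mk_eq_zero U).2 hx)
    have hd : ∀ φ : A →ₗ[k] k, dact M φ x - φ g • x ∈ U := fun φ => by
      rw [← Submodule.Quotient.mk_eq_zero, ← Submodule.mkQ_apply, map_sub, map_smul,
        map_dact (isComodHom_mkQ hU) φ, dact_apply, hg, contract_tmul, sub_self]
    obtain ⟨n, hn⟩ : ∃ n, ∀ u ∈ U, f u ∈ fil k (A ⧸ J) (A ⧸ J) n := by
      obtain ⟨t, ht⟩ := IsNoetherian.noetherian U
      have hall : ∀ u ∈ t, ∃ n, f u ∈ fil k (A ⧸ J) (A ⧸ J) n := fun u hu =>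
        (Submodule.mem_iSup_of_directed _ fil_mono.directed_le).1 (hUT (ht ▸ Submodule.subset_span hu))
      choose! N hN using hall
      refine ⟨t.sup N, fun u hu => ?_⟩
      have hle : Submodule.span k (t : Set M) ≤ (fil k (A ⧸ J) (A ⧸ J) (t.sup N)).comap f :=
        Submodule.span_le.2 fun u hu => fil_mono (Finset.le_sup hu) (hN u hu)
      exact hle (ht.symm ▸ hu)
    have hfx : f x ∈ fil k (A ⧸ J) (A ⧸ J) (n + 1) := by
      refine mem_fil_succ.2 fun χ => ?_
      have h1 := hn _ (hd (χ ∘ₗ (q : A →ₗc[k] A ⧸ J).toLinearMap))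
      have hqg : χ (q g) = χ 1 := by
        congr 1
        exact (Ideal.Quotient.eq).2 (hJ g hgl)
      have h2 : f (dact M (χ ∘ₗ (q : A →ₗc[k] A ⧸ J).toLinearMap) x) = dact (A ⧸ J) χ (f x) := by
        change q ((M.subtype (dact M (χ ∘ₗ (q : A →ₗc[k] A ⧸ J).toLinearMap) x)) : A) = _
        rw [map_dact (isComodHom_subtype hM)]
        exact (H66.ExactSeq.map_dact_coalgHom q χ _).symm
      rw [map_sub, map_smul, h2, LinearMap.comp_apply] at h1
      exact hqg ▸ h1
    have hsub := isSubcomod_comap (isComodHom_mkQ hU) hp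
    rw [show Submodule.span k {U.mkQ x} = (Submodule.span k {x}).map U.mkQ by
        rw [Submodule.map_span, Set.image_singleton],
      Submodule.comap_map_eq, Submodule.ker_mkQ] at hsub
    refine hmax _ ⟨hsub, sup_le ((Submodule.span_singleton_le_iff_mem _ _).2 ?_) hUT⟩ ?_
    · exact Submodule.mem_iSup_of_mem (n + 1) hfx
    · exact lt_of_le_of_ne le_sup_right fun e => hxU (e.ge (Submodule.mem_sup_left (Submodule.mem_span_singleton_self x)))
  exact hUT (htop.symm ▸ Submodule.mem_top : (⟨a, self_mem_cyclic A a⟩ : M) ∈ U)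

end Structure

end

end Groth.Agent.H66.Trigon2
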