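import Groth.Agent.Lib.Comod.Basic
import Mathlib.RingTheory.Coalgebra.Convolution
import Mathlib.RingTheory.SimpleModule.Basic

/-!
A comodule over a coalgebra which is free as a module is a module over the convolution algebra of
functionals; subcomodules are the submodules, comodule maps the linear maps.
-/

universe u v w w'

open TensorProduct WithConv Groth.Agent.Lib.Comod.Basic

set_option linter.unusedSectionVars false
set_option linter.style.haveILetI false

namespace Groth.Agent.H66.DualMod

noncomputable section

section Ring

variable {k : Type u} [CommRing k] {C : Type v} [AddCommGroup C] [Module k C] [Coalgebra k C]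
variable (k C) in
/-- The convolution algebra of functionals. -/
abbrev CDual : Type _ := WithConv (C →ₗ[k] k)

/-- The ring structure, with a priority making the semiring projection canonical. -/
instance (priority := high) cdualSemiring : Semiring (CDual k C) :=
  (LinearMap.convRing (R := k) (A := k) (C := C)).toSemiring

variable (k C) in
/-- The module over the convolution algebra attached to a comodule. -/
@[reducible] def module (V : Type w) [AddCommGroup V] [Module k V] [HopfRep.Comod k C V] :
    Module (CDual k C) V where
  smul φ v := dact V φ.ofConv v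
  one_smul v := by
    change dact V (1 : CDual k C).ofConv v = v
    have : (1 : CDual k C).ofConv = CoalgebraStruct.counit (R := k) (A := C) := by
      ext c; simp
    rw [this, dact_counit_apply]
  mul_smul φ ψ v := (dact_dact V φ.ofConv ψ.ofConv v).symm
  smul_zero φ := map_zero _
  smul_add φ := map_add _
  add_smul φ ψ v := LinearMap.congr_fun (dact_add V φ.ofConv ψ.ofConv) v
  zero_smul v := map_zero (dactAt (A := C) V v)

variable {V : Type w} [AddCommGroup V] [Module k V] [HopfRep.Comod k C V]
variable {V' : Type w'} [AddCommGroup V'] [Module k V'] [HopfRep.Comod k C V']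

theorem smul_eq (φ : CDual k C) (v : V) :
    (letI := module k C V; φ • v) = dact V φ.ofConv v := rfl

theorem isScalarTower :
    letI := module k C V; IsScalarTower k (CDual k C) V :=
  letI := module k C V
  ⟨fun c φ v => by
    change dact V (c • φ.ofConv) v = c • dact V φ.ofConv v
    rw [dact_smul]; rfl⟩

theorem smulCommClass :
    letI := module k C V; SMulCommClass (CDual k C) k V :=
  letI := module k C V
  ⟨fun φ c v => map_smul (dact V φ.ofConv) c v⟩

theorem smul_scalar (c : k) (v : V) :
    dact V (c • CoalgebraStruct.counit (R := k) (A := C)) v = c • v := by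
  rw [dact_smul, LinearMap.smul_apply, dact_counit_apply]

variable [Module.Free k C]

/-- A subcomodule as a submodule over the convolution algebra. -/
def toSub (W : Submodule k V) (hW : HopfRep.IsSubcomod (k := k) (A := C) W) :
    letI := module k C V; Submodule (CDual k C) V :=
  letI := module k C V
  { toAddSubmonoid := W.toAddSubmonoid
    smul_mem' := fun φ _ hw => dact_mem hW φ.ofConv hw }

/-- A submodule over the convolution algebra as a `k`-submodule. -/
def ofSub (N : letI := module k C V; Submodule (CDual k C) V) : Submodule k V :=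
  letI := module k C V
  { toAddSubmonoid := N.toAddSubmonoid
    smul_mem' := fun c v hv => by
      have h := N.smul_mem (toConv (c • CoalgebraStruct.counit (R := k) (A := C))) hv
      change dact V (c • CoalgebraStruct.counit (R := k) (A := C)) v ∈ N at h
      rwa [smul_scalar] at h }

theorem isSubcomod_ofSub (N : letI := module k C V; Submodule (CDual k C) V) :
    HopfRep.IsSubcomod (k := k) (A := C) (ofSub N) :=
  letI := module k C V
  (isSubcomod_iff _).2 fun φ _ hw => N.smul_mem (toConv φ) hw

/-- Subcomodules are the submodules. -/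
def subEquiv :
    letI := module k C V
    {W : Submodule k V // HopfRep.IsSubcomod (k := k) (A := C) W} ≃o Submodule (CDual k C) V :=
  letI := module k C V
  { toFun := fun W => toSub W.1 W.2
    invFun := fun N => ⟨ofSub N, isSubcomod_ofSub N⟩
    left_inv := fun _ => rfl
    right_inv := fun _ => rfl
    map_rel_iff' := Iff.rfl }

theorem ofSub_le_iff (N N' : letI := module k C V; Submodule (CDual k C) V) :
    ofSub N ≤ ofSub N' ↔ N ≤ N' := Iff.rfl

theorem ofSub_bot : ofSub (k := k) (C := C) (V := V) (letI := module k C V; (⊥ : Submodule (CDual k C) V)) = ⊥ := rfl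

theorem ofSub_top : ofSub (k := k) (C := C) (V := V) (letI := module k C V; (⊤ : Submodule (CDual k C) V)) = ⊤ := rfl

theorem ofSub_inj {N N' : letI := module k C V; Submodule (CDual k C) V}
    (h : ofSub N = ofSub N') : N = N' :=
  letI := module k C V
  SetLike.ext fun x => SetLike.ext_iff.mp h x

theorem ofSub_sSup (S : Set (letI := module k C V; Submodule (CDual k C) V)) :
    ofSub (letI := module k C V; sSup S) = ⨆ N ∈ S, ofSub N := by
  letI := module k C V
  refine le_antisymm ?_ (iSup₂_le fun N hN => ofSub_le_iff _ _ |>.2 (le_sSup hN))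
  have hsub : HopfRep.IsSubcomod (k := k) (A := C) (⨆ N ∈ S, ofSub N) :=
    isSubcomod_iSup fun N => isSubcomod_iSup fun _ => isSubcomod_ofSub N
  have : sSup S ≤ toSub _ hsub := sSup_le fun N hN => le_iSup₂ (f := fun N _ => ofSub N) N hN
  exact this

theorem ofSub_iSup {ι : Sort*} (N : ι → (letI := module k C V; Submodule (CDual k C) V)) :
    ofSub (letI := module k C V; ⨆ i, N i) = ⨆ i, ofSub (N i) := by
  letI := module k C V
  refine le_antisymm ?_ (iSup_le fun i => ofSub_le_iff _ _ |>.2 (le_iSup N i))
  have hsub : HopfRep.IsSubcomod (k := k) (A := C) (⨆ i, ofSub (N i)) :=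
    isSubcomod_iSup fun i => isSubcomod_ofSub (N i)
  have : (⨆ i, N i) ≤ toSub _ hsub := iSup_le fun i => le_iSup (fun i => ofSub (N i)) i
  exact this

theorem ofSub_inf (N N' : letI := module k C V; Submodule (CDual k C) V) :
    ofSub (letI := module k C V; N ⊓ N') = ofSub N ⊓ ofSub N' := rfl

theorem disjoint_ofSub (N N' : letI := module k C V; Submodule (CDual k C) V) :
    Disjoint (ofSub N) (ofSub N') ↔ Disjoint N N' := by
  letI := module k C V
  rw [disjoint_iff, disjoint_iff, ← ofSub_inf]
  exact ⟨fun h => ofSub_inj h, fun h => by rw [h]; rfl⟩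

theorem isCompl_ofSub (N N' : letI := module k C V; Submodule (CDual k C) V) :
    IsCompl (ofSub N) (ofSub N') ↔ IsCompl N N' := by
  letI := module k C V
  refine ⟨fun h => ⟨(disjoint_ofSub _ _).1 h.disjoint, codisjoint_iff.2 ?_⟩,
    fun h => ⟨(disjoint_ofSub _ _).2 h.disjoint, codisjoint_iff.2 ?_⟩⟩
  · apply ofSub_inj
    rw [show N ⊔ N' = ⨆ b : Bool, cond b N N' from sup_eq_iSup _ _, ofSub_iSup,
      ← h.sup_eq_top.trans ofSub_top.symm, sup_eq_iSup]
    exact iSup_congr fun b => by cases b <;> rfl
  · rw [← ofSub_top (k := k) (C := C) (V := V), ← h.sup_eq_top,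
      show N ⊔ N' = ⨆ b : Bool, cond b N N' from sup_eq_iSup _ _, ofSub_iSup, sup_eq_iSup]
    exact iSup_congr fun b => by cases b <;> rfl

theorem isSemisimpleComod_iff :
    HopfRep.IsSemisimpleComod k C V ↔
      (letI := module k C V; IsSemisimpleModule (CDual k C) V) := by
  letI := module k C V
  rw [isSemisimpleModule_iff]
  constructor
  · intro h
    refine ⟨fun N => ?_⟩
    obtain ⟨W, hW, hc⟩ := h (ofSub N) (isSubcomod_ofSub N)
    exact ⟨toSub W hW, (isCompl_ofSub N (toSub W hW)).1 hc⟩
  · intro h W hW
    obtain ⟨N, hN⟩ := h.exists_isCompl (toSub W hW)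
    exact ⟨ofSub N, isSubcomod_ofSub N, (isCompl_ofSub (toSub W hW) N).2 hN⟩

theorem isSimpleComod_iff :
    HopfRep.IsSimpleComod k C V ↔
      (letI := module k C V; IsSimpleModule (CDual k C) V) := by
  letI := module k C V
  constructor
  · rintro ⟨hnt, h⟩
    haveI := hnt
    haveI : Nontrivial (Submodule (CDual k C) V) := Submodule.nontrivial_iff _ |>.2 hnt
    haveI : IsSimpleOrder (Submodule (CDual k C) V) :=
      ⟨fun N => (h (ofSub N) (isSubcomod_ofSub N)).imp (fun e => ofSub_inj e) fun e => ofSub_inj e⟩
    exact ⟨⟩
  · intro h
    refine ⟨IsSimpleModule.nontrivial (CDual k C) V, fun W hW => ?_⟩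
    rcases eq_bot_or_eq_top (toSub W hW) with e | e
    · exact Or.inl (congrArg ofSub e)
    · exact Or.inr (congrArg ofSub e)

theorem isSimpleModule_iff_of_sub (N : letI := module k C V; Submodule (CDual k C) V) :
    (letI := module k C V; IsSimpleModule (CDual k C) N) ↔
      ofSub N ≠ ⊥ ∧ ∀ W' : Submodule k V, HopfRep.IsSubcomod (k := k) (A := C) W' →
        W' ≤ ofSub N → W' = ⊥ ∨ W' = ofSub N := by
  letI := module k C V
  rw [isSimpleModule_iff_isAtom]
  constructor
  · intro h
    refine ⟨fun e => h.1 (ofSub_inj e), fun W' hW' hle => ?_⟩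
    rcases h.le_iff.1 (show toSub W' hW' ≤ N from hle) with e | e
    · exact Or.inl (congrArg ofSub e)
    · exact Or.inr (congrArg ofSub e)
  · rintro ⟨h0, h⟩
    refine ⟨fun e => h0 (by rw [e]; rfl), fun M hM => ?_⟩
    rcases h (ofSub M) (isSubcomod_ofSub M) hM.le with e | e
    · exact ofSub_inj e
    · exact absurd (ofSub_inj e) hM.ne

/-- A comodule map as a linear map over the convolution algebra. -/
def homOf (g : V →ₗ[k] V') (hg : Hoch.IsComodHom C g) :
    letI := module k C V; letI := module k C V'; V →ₗ[CDual k C] V' :=
  letI := module k C V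
  letI := module k C V'
  { toFun := g
    map_add' := map_add g
    map_smul' := fun φ v => map_dact hg φ.ofConv v }

/-- A linear map over the convolution algebra as a `k`-linear map. -/
def homBack (g : letI := module k C V; letI := module k C V'; V →ₗ[CDual k C] V') : V →ₗ[k] V' :=
  letI := module k C V
  letI := module k C V'
  { toFun := g
    map_add' := map_add g
    map_smul' := fun c v => by
      have h := g.map_smul (toConv (c • CoalgebraStruct.counit (R := k) (A := C))) v
      change g (dact V (c • CoalgebraStruct.counit (R := k) (A := C)) v) =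
        dact V' (c • CoalgebraStruct.counit (R := k) (A := C)) (g v) at h
      rwa [smul_scalar, smul_scalar] at h }

theorem isComodHom_homBack (g : letI := module k C V; letI := module k C V'; V →ₗ[CDual k C] V') :
    Hoch.IsComodHom C (homBack g) :=
  letI := module k C V
  letI := module k C V'
  (isComodHom_iff _).2 fun φ v => g.map_smul (toConv φ) v

theorem ofSub_range (g : V →ₗ[k] V') (hg : Hoch.IsComodHom C g) :
    ofSub (letI := module k C V; letI := module k C V'; LinearMap.range (homOf g hg)) =
      LinearMap.range g := rfl

theorem ofSub_ker (g : V →ₗ[k] V') (hg : Hoch.IsComodHom C g) :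
    ofSub (letI := module k C V; letI := module k C V'; LinearMap.ker (homOf g hg)) =
      LinearMap.ker g := rfl

end Ring

end

end Groth.Agent.H66.DualMod
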