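import Groth.Agent.H66.UnipConv
import Groth.Agent.H66.DualMod
import Mathlib.GroupTheory.Nilpotent
import Mathlib.RingTheory.HopfAlgebra.Convolution
import Mathlib.RingTheory.FiniteType

/-!
The group of rational points of a unipotent group is nilpotent and acts unipotently.
-/

universe u v w

open TensorProduct WithConv Groth.Agent.Lib.Comod.Basic

set_option linter.unusedSectionVars false
set_option linter.style.haveILetI false

namespace Groth.Agent.H66.UnipPoints

noncomputable section

open H66.UnipConv H66.DualMod

variable {k : Type u} [Field k] {A : Type v} [CommRing A] [Bialgebra k A]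

/-- A point as a functional. -/
def toDual : WithConv (A →ₐ[k] k) →* CDual k A where
  toFun g := toConv g.ofConv.toLinearMap
  map_one' := by
    refine WithConv.ext (LinearMap.ext fun a => ?_)
    simp
  map_mul' g h := by
    refine WithConv.ext (LinearMap.ext fun a => ?_)
    change Algebra.TensorProduct.lmul' k (Algebra.TensorProduct.map g.ofConv h.ofConv (CoalgebraStruct.comul (R := k) a)) =
      LinearMap.mul' k k (TensorProduct.map g.ofConv.toLinearMap h.ofConv.toLinearMap (CoalgebraStruct.comul (R := k) a))
    induction CoalgebraStruct.comul (R := k) a using TensorProduct.induction_on with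
    | zero => simp
    | add p q hp hq => simp only [map_add, hp, hq]
    | tmul p q => simp

theorem toDual_injective : Function.Injective (toDual (k := k) (A := A)) := by
  intro g h e
  refine WithConv.ext (AlgHom.ext fun a => ?_)
  exact LinearMap.congr_fun (congrArg WithConv.ofConv e) a

theorem ofConv_mul (x y : CDual k A) : (x * y).ofConv = conv x.ofConv y.ofConv := rfl

theorem inL_mul {i j : ℕ} {x y : CDual k A} (hx : InL i x.ofConv) (hy : InL j y.ofConv) :
    InL (i + j) (x * y).ofConv := hx.conv hy

theorem inL_one_toDual_sub (g : WithConv (A →ₐ[k] k)) : InL 1 (toDual g - 1).ofConv := by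
  rw [inL_one_iff]
  change g.ofConv.toLinearMap 1 - (1 : CDual k A).ofConv 1 = 0
  simp

theorem sub_one_of_mul_eq_one {R : Type*} [Ring R] (a b : R) (e : a * b = 1) : a - 1 = -a * (b - 1) := by
  rw [mul_sub, neg_mul, neg_mul, e, mul_one]
  abel

/-- The points congruent to the identity modulo `L j`. -/
def layer (j : ℕ) {A : Type v} [CommRing A] [HopfAlgebra k A] : Subgroup (WithConv (A →ₐ[k] k)) where
  carrier := {g | InL j (toDual g - 1).ofConv}
  one_mem' := by
    simp only [Set.mem_setOf_eq, map_one, sub_self]
    exact fun a _ => rfl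
  mul_mem' {g h} hg hh := by
    simp only [Set.mem_setOf_eq] at hg hh ⊢
    rw [map_mul, show toDual g * toDual h - 1 = (toDual g - 1) * (toDual h) + (toDual h - 1) by
      rw [sub_mul, one_mul]; abel]
    exact (by simpa using inL_mul hg (inL_zero (toDual h).ofConv) : InL j _).add hh
  inv_mem' {g} hg := by
    simp only [Set.mem_setOf_eq] at hg ⊢
    have e : toDual g⁻¹ * toDual g = 1 := by rw [← map_mul, inv_mul_cancel, map_one]
    rw [sub_one_of_mul_eq_one (toDual g⁻¹) (toDual g) e]
    simpa using inL_mul (inL_zero (-toDual g⁻¹).ofConv) hg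

theorem isNilpotent_points {A : Type v} [CommRing A] [HopfAlgebra k A] [Algebra.FiniteType k A]
    (hU : HopfRep.IsUnipotent k A) : Group.IsNilpotent (WithConv (A →ₐ[k] k)) := by
  rw [Subgroup.nilpotent_iff_finite_descending_central_series]
  obtain ⟨t, ht⟩ := Algebra.FiniteType.out (R := k) (A := A)
  have hmem := fun a : A => H66.Unip.mem_fil_exists hU a
  choose N hN using hmem
  refine ⟨t.sup N, fun n => layer (n + 1), ⟨?_, ?_⟩, ?_⟩
  · exact eq_top_iff.2 fun g _ => inL_one_toDual_sub g
  · intro x n hx g
    change InL (n + 1 + 1) (toDual (x * g * x⁻¹ * g⁻¹) - 1).ofConv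
    have e : toDual (x * g * x⁻¹ * g⁻¹) - 1 =
        ((toDual x - 1) * (toDual g - 1) - (toDual g - 1) * (toDual x - 1)) * toDual (x⁻¹ * g⁻¹) := by
      have h1 : toDual (g * x) * toDual (x⁻¹ * g⁻¹) = 1 := by
        rw [← map_mul, show g * x * (x⁻¹ * g⁻¹) = 1 by group, map_one]
      rw [show (toDual x - 1) * (toDual g - 1) - (toDual g - 1) * (toDual x - 1) = toDual (x * g) - toDual (g * x) by
        rw [map_mul, map_mul, sub_mul, mul_sub, mul_sub, sub_mul, mul_sub, mul_sub]
        simp only [one_mul, mul_one]
        abel, sub_mul, h1, ← map_mul, ← mul_assoc]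
    rw [e]
    have h2 : InL (n + 1 + 1) ((toDual x - 1) * (toDual g - 1) - (toDual g - 1) * (toDual x - 1)).ofConv := by
      refine (inL_mul hx (inL_one_toDual_sub g)).sub ?_
      have := inL_mul (inL_one_toDual_sub g) hx
      rwa [add_comm] at this
    simpa using inL_mul h2 (inL_zero (toDual (x⁻¹ * g⁻¹)).ofConv)
  · refine eq_bot_iff.2 fun g hg => Subgroup.mem_bot.2 ?_
    refine WithConv.ext (AlgHom.ext_of_adjoin_eq_top ht fun a ha => ?_)
    have h3 := hg a (H66.Unip.fil_mono (Nat.le_succ_of_le (Finset.le_sup ha)) (hN a))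
    change g.ofConv a - (1 : CDual k A).ofConv a = 0 at h3
    rw [sub_eq_zero] at h3
    rw [h3]
    simp

theorem isNilpotent_dact_sub {V : Type w} [AddCommGroup V] [Module k V] [HopfRep.Comod k A V] [Module.Finite k V]
    (hU : HopfRep.IsUnipotent k A) (φ : A →ₗ[k] k) (hφ : φ 1 = 1) : IsNilpotent (dact V φ - 1) := by
  obtain ⟨n, hn⟩ := H66.Unip.exists_fil_eq_top hU V
  refine ⟨n, LinearMap.ext fun v => ?_⟩
  have key : ∀ (m : ℕ) (v : V), v ∈ H66.Unip.fil k A V m → ((dact V φ - 1) ^ m) v = 0 := by
    intro m
    induction m with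
    | zero => intro v hv; simpa using (Submodule.mem_bot k).1 hv
    | succ m ih =>
      intro v hv
      rw [pow_succ, Module.End.mul_apply]
      refine ih _ ?_
      have := H66.Unip.mem_fil_succ.1 hv φ
      rwa [hφ, one_smul] at this
  rw [key n v (hn ▸ Submodule.mem_top), LinearMap.zero_apply]

end

end Groth.Agent.H66.UnipPoints
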