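import Mathlib.LinearAlgebra.Contraction
import Mathlib.Algebra.Module.FinitePresentation
import Mathlib.RingTheory.Flat.Basic
import Mathlib.LinearAlgebra.Dual.Lemmas

/-!
`M^* ⊗ N ≃ Hom(M, N)` for `M` finitely presented and `N` flat.
-/

universe u v w

open TensorProduct

namespace Groth.Agent.H66.DualHom

theorem bijective {k : Type u} [CommRing k] (M : Type w) [AddCommGroup M] [Module k M]
    [Module.FinitePresentation k M] (N : Type v) [AddCommGroup N] [Module k N] [Module.Flat k N] :
    Function.Bijective (dualTensorHom k M N) := by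
  obtain ⟨n, m, π, r, hπ, hr⟩ := Module.FinitePresentation.exists_fin' k M
  have hd : Function.Exact π.dualMap r.dualMap := fun f => by
    constructor
    · intro hf
      have hker : LinearMap.ker π ≤ LinearMap.ker f := by
        rw [hr.linearMap_ker_eq]
        exact LinearMap.range_le_ker_iff.2 hf
      exact ⟨(LinearMap.ker π).liftQ f hker ∘ₗ (π.quotKerEquivOfSurjective hπ).symm.toLinearMap,
        LinearMap.ext fun x => by
          simp only [LinearMap.dualMap_apply, LinearMap.comp_apply, LinearEquiv.coe_coe]
          rw [show π x = π.quotKerEquivOfSurjective hπ (Submodule.Quotient.mk x) from rfl,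
            LinearEquiv.symm_apply_apply]
          rfl⟩
    · rintro ⟨g, rfl⟩
      exact LinearMap.ext fun x => by
        simp [(hr (r x)).2 ⟨x, rfl⟩]
  have hinj : Function.Injective (π.dualMap.rTensor N) :=
    Module.Flat.rTensor_preserves_injective_linearMap _ (LinearMap.dualMap_injective_of_surjective hπ)
  have hex := Module.Flat.rTensor_exact N hd
  have hn := dualTensorHom_bijective (R := k) (M := Fin n → k) (N := N)
  have hm := dualTensorHom_bijective (R := k) (M := Fin m → k) (N := N)
  have e1 : ∀ x, dualTensorHom k (Fin n → k) N (π.dualMap.rTensor N x) = dualTensorHom k M N x ∘ₗ π := by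
    intro x
    induction x using TensorProduct.induction_on with
    | zero => simp
    | add a b ha hb => simp only [map_add, LinearMap.add_comp, ha, hb]
    | tmul f a => ext i; simp
  have e2 : ∀ x, dualTensorHom k (Fin m → k) N (r.dualMap.rTensor N x) =
      dualTensorHom k (Fin n → k) N x ∘ₗ r := by
    intro x
    induction x using TensorProduct.induction_on with
    | zero => simp
    | add a b ha hb => simp only [map_add, LinearMap.add_comp, ha, hb]
    | tmul f a => ext i; simp
  refine ⟨fun x y h => hinj (hn.1 ?_), fun f => ?_⟩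
  · rw [e1, e1, h]
  · obtain ⟨x, hx⟩ := hn.2 (f ∘ₗ π)
    have h0 : r.dualMap.rTensor N x = 0 := by
      apply hm.1
      rw [e2, hx, map_zero, LinearMap.comp_assoc]
      refine LinearMap.ext fun z => ?_
      simp [(hr (r z)).2 ⟨z, rfl⟩]
    obtain ⟨y, rfl⟩ := (hex x).1 h0
    refine ⟨y, LinearMap.ext fun z => ?_⟩
    obtain ⟨z, rfl⟩ := hπ z
    exact LinearMap.congr_fun ((e1 y).symm.trans hx) z

end Groth.Agent.H66.DualHom
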