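import Groth.Prelude.Def_ComodSub
import Groth.Prelude.Def_ComodDual
import Groth.Agent.H66.Base
import Groth.Agent.H66.DualHom
import Mathlib.RingTheory.HopfAlgebra.Convolution

/-!
The antipode reverses the comultiplication; passage between left and right comodules; duals.
-/

universe u v w

open TensorProduct WithConv

set_option linter.unusedSectionVars false

namespace Groth.Agent.H66.Passage

noncomputable section

section Antipode

variable {k : Type u} [CommRing k] {A : Type v} [CommRing A] [HopfAlgebra k A]

local notation "S" => HopfAlgebraStruct.antipode (R := k) (A := A)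

theorem comul_antipode (a : A) :
    CoalgebraStruct.comul (R := k) (S a) =
      TensorProduct.map S S (TensorProduct.comm k A A (CoalgebraStruct.comul (R := k) a)) := by
  let l : WithConv (A →ₐ[k] A ⊗[k] A) := toConv Algebra.TensorProduct.includeLeft
  let r : WithConv (A →ₐ[k] A ⊗[k] A) := toConv Algebra.TensorProduct.includeRight
  have hδ : toConv (Bialgebra.comulAlgHom k A) = l * r := by
    refine WithConv.ext (AlgHom.ext fun b => ?_)
    change CoalgebraStruct.comul (R := k) b = Algebra.TensorProduct.lmul' k
      (Algebra.TensorProduct.map l.ofConv r.ofConv (CoalgebraStruct.comul (R := k) b))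
    induction CoalgebraStruct.comul (R := k) b using TensorProduct.induction_on with
    | zero => simp
    | add x y hx hy => simp only [map_add, ← hx, ← hy]
    | tmul x y => simp [l, r]
  have h : ((toConv (Bialgebra.comulAlgHom k A))⁻¹ : WithConv (A →ₐ[k] A ⊗[k] A)).ofConv a =
      (r⁻¹ * l⁻¹).ofConv a := by
    rw [hδ]
    exact congrArg (fun f : WithConv (A →ₐ[k] A ⊗[k] A) => f.ofConv a) (mul_inv_rev l r)
  refine h.trans ?_
  change Algebra.TensorProduct.lmul' k (Algebra.TensorProduct.map r⁻¹.ofConv l⁻¹.ofConv
    (CoalgebraStruct.comul (R := k) a)) = _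
  induction CoalgebraStruct.comul (R := k) a using TensorProduct.induction_on with
  | zero => simp
  | add x y hx hy => simp only [map_add, hx, hy]
  | tmul x y =>
    simp only [l, r, Algebra.TensorProduct.map_tmul, Algebra.TensorProduct.lmul'_apply_tmul]
    change ((1 : A) ⊗ₜ[k] S x) * (S y ⊗ₜ[k] (1 : A)) = _
    simp

end Antipode

section Convert

variable {k : Type u} [CommRing k] {A : Type v} [CommRing A] [HopfAlgebra k A]
variable {M : Type w} [AddCommGroup M] [Module k M]

local notation "S" => HopfAlgebraStruct.antipode (R := k) (A := A)

theorem exists_comod_of_left (l : ComodSub.LComod k A M) :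
    ∃ c : HopfRep.Comod k A M, c.coact = ComodSub.rcoactOfLeft l := by
  refine ⟨{ coact := ComodSub.rcoactOfLeft l, coassoc := ?_, counit_comp := ?_ }, rfl⟩
  · refine LinearMap.ext fun m => ?_
    let Φ : A ⊗[k] (A ⊗[k] M) →ₗ[k] M ⊗[k] (A ⊗[k] A) :=
      (TensorProduct.map S S).lTensor M ∘ₗ (TensorProduct.comm k A A).toLinearMap.lTensor M ∘ₗ
        (TensorProduct.comm k (A ⊗[k] A) M).toLinearMap ∘ₗ (TensorProduct.assoc k A A M).symm.toLinearMap
    have h1 : ∀ z : A ⊗[k] M, TensorProduct.assoc k M A A ((ComodSub.rcoactOfLeft l).rTensor A
        (TensorProduct.comm k A M ((S).rTensor M z))) = Φ (l.coact.lTensor A z) := by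
      intro z
      induction z using TensorProduct.induction_on with
      | zero => simp
      | add x y hx hy => simp only [map_add, hx, hy]
      | tmul a n =>
        simp only [LinearMap.rTensor_tmul, TensorProduct.comm_tmul, LinearMap.lTensor_tmul,
          ComodSub.rcoactOfLeft, LinearMap.comp_apply, LinearEquiv.coe_coe]
        induction l.coact n using TensorProduct.induction_on with
        | zero => simp
        | add x y hx hy => simp only [map_add, TensorProduct.add_tmul, TensorProduct.tmul_add, hx, hy]
        | tmul b p => simp [Φ]
    have h2 : ∀ z : A ⊗[k] M, Φ (TensorProduct.assoc k A A M ((CoalgebraStruct.comul (R := k) (A := A)).rTensor M z)) =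
        (CoalgebraStruct.comul (R := k) (A := A)).lTensor M (TensorProduct.comm k A M ((S).rTensor M z)) := by
      intro z
      induction z using TensorProduct.induction_on with
      | zero => simp
      | add x y hx hy => simp only [map_add, hx, hy]
      | tmul a n => simp [Φ, comul_antipode]
    have h3 := LinearMap.congr_fun l.coassoc m
    simp only [LinearMap.comp_apply, LinearEquiv.coe_coe] at h3 ⊢
    change TensorProduct.assoc k M A A ((ComodSub.rcoactOfLeft l).rTensor A
      (TensorProduct.comm k A M ((S).rTensor M (l.coact m)))) = _
    rw [h1, h3, h2]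
    rfl
  · refine LinearMap.ext fun m => ?_
    have h3 := LinearMap.congr_fun l.counit_comp m
    simp only [LinearMap.comp_apply, TensorProduct.mk_apply] at h3
    change (CoalgebraStruct.counit (R := k) (A := A)).lTensor M
      (TensorProduct.comm k A M ((S).rTensor M (l.coact m))) = m ⊗ₜ[k] (1 : k)
    rw [show m ⊗ₜ[k] (1 : k) = TensorProduct.comm k k M ((1 : k) ⊗ₜ[k] m) from rfl, ← h3]
    induction l.coact m using TensorProduct.induction_on with
    | zero => simp
    | add x y hx hy => simp only [map_add, hx, hy]
    | tmul a n => simp

theorem exists_lcomod_of_right (c : HopfRep.Comod k A M) :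
    ∃ l : ComodSub.LComod k A M, l.coact = ComodSub.lcoactOfRight c := by
  refine ⟨{ coact := ComodSub.lcoactOfRight c, coassoc := ?_, counit_comp := ?_ }, rfl⟩
  · refine LinearMap.ext fun m => ?_
    let Φ : M ⊗[k] (A ⊗[k] A) →ₗ[k] A ⊗[k] (A ⊗[k] M) :=
      (TensorProduct.assoc k A A M).toLinearMap ∘ₗ (TensorProduct.map S S).rTensor M ∘ₗ
        (TensorProduct.comm k A A).toLinearMap.rTensor M ∘ₗ (TensorProduct.comm k M (A ⊗[k] A)).toLinearMap
    have h1 : ∀ z : M ⊗[k] A, (ComodSub.lcoactOfRight c).lTensor A
        (TensorProduct.comm k M A ((S).lTensor M z)) = Φ (TensorProduct.assoc k M A A (c.coact.rTensor A z)) := by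
      intro z
      induction z using TensorProduct.induction_on with
      | zero => simp
      | add x y hx hy => simp only [map_add, hx, hy]
      | tmul n a =>
        simp only [LinearMap.rTensor_tmul, TensorProduct.comm_tmul, LinearMap.lTensor_tmul,
          ComodSub.lcoactOfRight, LinearMap.comp_apply, LinearEquiv.coe_coe]
        induction c.coact n using TensorProduct.induction_on with
        | zero => simp
        | add x y hx hy => simp only [map_add, TensorProduct.add_tmul, TensorProduct.tmul_add, hx, hy]
        | tmul p b => simp [Φ]
    have h2 : ∀ z : M ⊗[k] A, TensorProduct.assoc k A A M ((CoalgebraStruct.comul (R := k) (A := A)).rTensor M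
        (TensorProduct.comm k M A ((S).lTensor M z))) = Φ ((CoalgebraStruct.comul (R := k) (A := A)).lTensor M z) := by
      intro z
      induction z using TensorProduct.induction_on with
      | zero => simp
      | add x y hx hy => simp only [map_add, hx, hy]
      | tmul n a => simp [Φ, comul_antipode]
    have h3 := LinearMap.congr_fun c.coassoc m
    simp only [LinearMap.comp_apply, LinearEquiv.coe_coe] at h3 ⊢
    change (ComodSub.lcoactOfRight c).lTensor A (TensorProduct.comm k M A ((S).lTensor M (c.coact m))) = _
    rw [h1, h3, ← h2]
    rfl
  · refine LinearMap.ext fun m => ?_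
    have h3 := LinearMap.congr_fun c.counit_comp m
    simp only [LinearMap.comp_apply, LinearMap.flip_apply, TensorProduct.mk_apply] at h3
    change (CoalgebraStruct.counit (R := k) (A := A)).rTensor M
      (TensorProduct.comm k M A ((S).lTensor M (c.coact m))) = (1 : k) ⊗ₜ[k] m
    rw [show (1 : k) ⊗ₜ[k] m = TensorProduct.comm k M k (m ⊗ₜ[k] (1 : k)) from rfl, ← h3]
    induction c.coact m using TensorProduct.induction_on with
    | zero => simp
    | add x y hx hy => simp only [map_add, hx, hy]
    | tmul a n => simp

end Convert

section LeftDual

variable {k : Type u} [CommRing k] {A : Type v} [AddCommGroup A] [Module k A] [Coalgebra k A]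
  [Module.Flat k A]
variable {M : Type w} [AddCommGroup M] [Module k M] [Module.FinitePresentation k M]

theorem exists_isLDual (c : HopfRep.Comod k A M) :
    ∃ l : ComodSub.LComod k A (Module.Dual k M), ComodSub.LComod.IsLDual c l := by
  let e : A ⊗[k] Module.Dual k M ≃ₗ[k] (M →ₗ[k] A) :=
    (TensorProduct.comm k A (Module.Dual k M)).trans (LinearEquiv.ofBijective _ (DualHom.bijective M A))
  let co : Module.Dual k M →ₗ[k] A ⊗[k] Module.Dual k M := e.symm.toLinearMap ∘ₗ
    { toFun := ComodSub.ldualFun c
      map_add' := fun f g => LinearMap.ext fun m => by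
        simp [ComodSub.ldualFun, LinearMap.rTensor_add]
      map_smul' := fun r f => LinearMap.ext fun m => by
        simp [ComodSub.ldualFun, LinearMap.rTensor_smul] }
  have hco : ∀ g, e (co g) = ComodSub.ldualFun c g := fun g => e.apply_symm_apply _
  refine ⟨{ coact := co, coassoc := ?_, counit_comp := ?_ }, fun g => hco g⟩
  · refine LinearMap.ext fun g => ?_
    let R : A ⊗[k] (A ⊗[k] Module.Dual k M) →ₗ[k] (M →ₗ[k] A ⊗[k] A) :=
      dualTensorHom k M (A ⊗[k] A) ∘ₗ (TensorProduct.comm k (A ⊗[k] A) (Module.Dual k M)).toLinearMap ∘ₗ
        (TensorProduct.assoc k A A (Module.Dual k M)).symm.toLinearMap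
    have hR : Function.Injective R := (DualHom.bijective M (A ⊗[k] A)).1.comp
      ((TensorProduct.comm k (A ⊗[k] A) (Module.Dual k M)).injective.comp
        (TensorProduct.assoc k A A (Module.Dual k M)).symm.injective)
    apply hR
    refine LinearMap.ext fun m => ?_
    have h1 : ∀ z : A ⊗[k] Module.Dual k M, R (co.lTensor A z) m = (e z).rTensor A (c.coact m) := by
      intro z
      induction z using TensorProduct.induction_on with
      | zero => simp
      | add x y hx hy => simp only [map_add, LinearMap.add_apply, LinearMap.rTensor_add, hx, hy]
      | tmul a φ =>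
        have h2 : ∀ z' : A ⊗[k] Module.Dual k M, R (a ⊗ₜ[k] z') m = a ⊗ₜ[k] e z' m := by
          intro z'
          induction z' using TensorProduct.induction_on with
          | zero => simp
          | add x y hx hy => simp only [map_add, LinearMap.add_apply, TensorProduct.tmul_add, hx, hy]
          | tmul b ψ => simp [R, e]
        rw [LinearMap.lTensor_tmul, h2, hco, ComodSub.ldualFun_apply]
        induction c.coact m using TensorProduct.induction_on with
        | zero => simp
        | add x y hx hy => simp only [map_add, TensorProduct.tmul_add, hx, hy]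
        | tmul n b => simp [e, TensorProduct.smul_tmul]
    have h2 : ∀ z : A ⊗[k] Module.Dual k M,
        R (TensorProduct.assoc k A A (Module.Dual k M) ((CoalgebraStruct.comul (R := k) (A := A)).rTensor _ z)) m =
          CoalgebraStruct.comul (R := k) (e z m) := by
      intro z
      induction z using TensorProduct.induction_on with
      | zero => simp
      | add x y hx hy => simp only [map_add, LinearMap.add_apply, hx, hy]
      | tmul a φ => simp [R, e]
    simp only [LinearMap.comp_apply, LinearEquiv.coe_coe]
    rw [h1, h2, hco, ComodSub.ldualFun]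
    rw [LinearMap.rTensor_comp_apply, LinearMap.rTensor_comp_apply, @H66.Base.coassoc_symm_apply k _ A _ _ _ M _ _ c]
    simp only [LinearMap.comp_apply, LinearEquiv.coe_coe]
    induction c.coact m using TensorProduct.induction_on with
    | zero => simp
    | add x y hx hy => simp only [map_add, hx, hy]
    | tmul n b =>
      simp only [LinearMap.lTensor_tmul, LinearMap.rTensor_tmul, TensorProduct.lid_tmul, map_smul]
      induction CoalgebraStruct.comul (R := k) b using TensorProduct.induction_on with
      | zero => simp
      | add x y hx hy => simp only [map_add, TensorProduct.tmul_add, smul_add, hx, hy]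
      | tmul p q => simp [TensorProduct.smul_tmul']
  · refine LinearMap.ext fun g => ?_
    apply (TensorProduct.lid k (Module.Dual k M)).injective
    refine LinearMap.ext fun m => ?_
    have h : ∀ z : A ⊗[k] Module.Dual k M,
        TensorProduct.lid k (Module.Dual k M) ((CoalgebraStruct.counit (R := k) (A := A)).rTensor _ z) m =
          CoalgebraStruct.counit (R := k) (e z m) := by
      intro z
      induction z using TensorProduct.induction_on with
      | zero => simp
      | add x y hx hy => simp only [map_add, LinearMap.add_apply, hx, hy]
      | tmul a φ => simp [e, mul_comm]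
    rw [LinearMap.comp_apply, h, hco, ComodSub.ldualFun_apply, TensorProduct.mk_apply, TensorProduct.lid_tmul,
      one_smul]
    have h2 := congrArg g (@H66.Base.rid_counit_apply k _ A _ _ _ M _ _ c m)
    rw [← h2]
    induction c.coact m using TensorProduct.induction_on with
    | zero => simp
    | add x y hx hy => simp only [map_add, hx, hy]
    | tmul n b => simp [mul_comm]

end LeftDual

theorem exists_isDual {k : Type u} [CommRing k] {A : Type v} [CommRing A] [HopfAlgebra k A]
    [Module.Flat k A] {M : Type w} [AddCommGroup M] [Module k M] [Module.FinitePresentation k M]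
    (c : HopfRep.Comod k A M) :
    ∃ d : HopfRep.Comod k A (Module.Dual k M), ComodTens.Comod.IsDual c d := by
  obtain ⟨l, hl⟩ := exists_isLDual c
  obtain ⟨d, hd⟩ := exists_comod_of_left l
  refine ⟨d, fun f => LinearMap.ext fun m => ?_⟩
  have h : ∀ z : A ⊗[k] Module.Dual k M,
      dualTensorHom k M A (TensorProduct.comm k A _ ((HopfAlgebraStruct.antipode (R := k) (A := A)).rTensor _ z)) m =
        HopfAlgebraStruct.antipode (R := k) (dualTensorHom k M A (TensorProduct.comm k A _ z) m) := by
    intro z
    induction z using TensorProduct.induction_on with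
    | zero => simp
    | add x y hx hy => simp only [map_add, LinearMap.add_apply, hx, hy]
    | tmul a φ => simp
  rw [hd, ComodSub.rcoactOfLeft_apply, h, hl f, ComodSub.ldualFun_apply, ComodTens.dualCoactFun_apply]
  induction c.coact m using TensorProduct.induction_on with
  | zero => simp
  | add x y hx hy => simp only [map_add, hx, hy]
  | tmul n b => simp

end

end Groth.Agent.H66.Passage
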