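import Groth.Agent.H66.DualMod
import Groth.Agent.H66.Base
import Mathlib.RingTheory.SimpleModule.Isotypic
import Mathlib.LinearAlgebra.Basis.VectorSpace
import Mathlib.LinearAlgebra.Dual.Lemmas
import Mathlib.LinearAlgebra.FiniteDimensional.Basic

/-!
Coefficient spaces of comodules and simple subcoalgebras.
-/

universe u v w w'

open TensorProduct Groth.Agent.Lib.Comod.Basic Groth.Agent.H66.DualMod

set_option linter.style.haveILetI false
set_option linter.unusedSectionVars false

namespace Groth.Agent.H66.Coeff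

noncomputable section

variable {k : Type u} [Field k] {C : Type v} [AddCommGroup C] [Module k C] [Coalgebra k C]
variable {V : Type w} [AddCommGroup V] [Module k V] [HopfRep.Comod k C V]
variable {W : Type w'} [AddCommGroup W] [Module k W] [HopfRep.Comod k C W]

/-- The matrix coefficient map attached to a linear form. -/
def coeff (φ : V →ₗ[k] k) : V →ₗ[k] C :=
  (TensorProduct.lid k C).toLinearMap ∘ₗ φ.rTensor C ∘ₗ HopfRep.Comod.coact (k := k) (A := C)

theorem coeff_apply (φ : V →ₗ[k] k) (v : V) :
    coeff (C := C) φ v = TensorProduct.lid k C (φ.rTensor C (HopfRep.Comod.coact (k := k) (A := C) v)) := rfl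

theorem counit_lid_rTensor (φ : V →ₗ[k] k) (x : V ⊗[k] C) :
    CoalgebraStruct.counit (R := k) (TensorProduct.lid k C (φ.rTensor C x)) =
      φ (TensorProduct.rid k V ((CoalgebraStruct.counit (R := k) (A := C)).lTensor V x)) := by
  induction x using TensorProduct.induction_on with
  | zero => simp
  | add x y hx hy => simp only [map_add, hx, hy]
  | tmul v c => simp [mul_comm]

theorem counit_coeff (φ : V →ₗ[k] k) (v : V) :
    CoalgebraStruct.counit (R := k) (coeff (C := C) φ v) = φ v := by
  rw [coeff_apply, counit_lid_rTensor, H66.Base.rid_counit_apply]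

theorem comul_lid_rTensor (φ : V →ₗ[k] k) (x : V ⊗[k] C) :
    CoalgebraStruct.comul (R := k) (TensorProduct.lid k C (φ.rTensor C x)) =
      TensorProduct.lid k (C ⊗[k] C) (φ.rTensor (C ⊗[k] C)
        ((CoalgebraStruct.comul (R := k) (A := C)).lTensor V x)) := by
  induction x using TensorProduct.induction_on with
  | zero => simp
  | add x y hx hy => simp only [map_add, hx, hy]
  | tmul v c => simp

theorem lid_rTensor_assoc (φ : V →ₗ[k] k) (y : (V ⊗[k] C) ⊗[k] C) :
    TensorProduct.lid k (C ⊗[k] C) (φ.rTensor (C ⊗[k] C) (TensorProduct.assoc k V C C y)) =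
      ((TensorProduct.lid k C).toLinearMap ∘ₗ φ.rTensor C).rTensor C y := by
  induction y using TensorProduct.induction_on with
  | zero => simp
  | add x y hx hy => simp only [map_add, hx, hy]
  | tmul x c =>
    induction x using TensorProduct.induction_on with
    | zero => simp
    | add x y hx hy => simp only [TensorProduct.add_tmul, map_add, hx, hy]
    | tmul v a => simp [TensorProduct.smul_tmul']

theorem comul_coeff (φ : V →ₗ[k] k) (v : V) :
    CoalgebraStruct.comul (R := k) (coeff (C := C) φ v) =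
      (coeff (C := C) φ).rTensor C (HopfRep.Comod.coact (k := k) (A := C) v) := by
  rw [coeff_apply, comul_lid_rTensor, ← H66.Base.coassoc_apply, lid_rTensor_assoc,
    ← LinearMap.rTensor_comp_apply]
  rfl

theorem isComodHom_coeff (φ : V →ₗ[k] k) : Hoch.IsComodHom C (coeff (C := C) φ) :=
  LinearMap.ext fun v => comul_coeff φ v

theorem coeff_comp {g : V →ₗ[k] W} (hg : Hoch.IsComodHom C g) (ψ : W →ₗ[k] k) (v : V) :
    coeff (C := C) ψ (g v) = coeff (C := C) (ψ ∘ₗ g) v := by
  rw [coeff_apply, coeff_apply, H66.Base.isComodHom_apply hg, LinearMap.rTensor_comp_apply]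

/-- A comodule map to the regular comodule is a coefficient map. -/
theorem eq_coeff {g : V →ₗ[k] C} (hg : Hoch.IsComodHom C g) :
    g = coeff (C := C) (CoalgebraStruct.counit (R := k) (A := C) ∘ₗ g) := by
  refine LinearMap.ext fun v => ?_
  rw [← coeff_comp hg, coeff_apply]
  have := Coalgebra.rTensor_counit_comul (R := k) (g v)
  change g v = TensorProduct.lid k C ((CoalgebraStruct.counit (R := k) (A := C)).rTensor C
    (CoalgebraStruct.comul (R := k) (g v)))
  rw [this, TensorProduct.lid_tmul, one_smul]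

variable (k C V) in
/-- The coefficient space of a comodule. -/
def coeffSpace : Submodule k C := ⨆ φ : V →ₗ[k] k, LinearMap.range (coeff (C := C) φ)

theorem coeff_mem (φ : V →ₗ[k] k) (v : V) : coeff (C := C) φ v ∈ coeffSpace k C V :=
  le_iSup (fun φ : V →ₗ[k] k => LinearMap.range (coeff (C := C) φ)) φ ⟨v, rfl⟩

theorem mem_range_lTensor_iff {U : Type w'} [AddCommGroup U] [Module k U]
    (D : Submodule k C) (x : U ⊗[k] C) :
    x ∈ LinearMap.range (D.subtype.lTensor U) ↔
      ∀ φ : U →ₗ[k] k, TensorProduct.lid k C (φ.rTensor C x) ∈ D := by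
  have hc : ∀ (φ : U →ₗ[k] k) (y : U ⊗[k] C),
      contract C φ (TensorProduct.comm k U C y) = TensorProduct.lid k C (φ.rTensor C y) := by
    intro φ y
    induction y using TensorProduct.induction_on with
    | zero => simp
    | add x y hx hy => simp only [map_add, hx, hy]
    | tmul u c => simp
  constructor
  · rintro ⟨y, rfl⟩ φ
    induction y using TensorProduct.induction_on with
    | zero => simp
    | add x y hx hy => simp only [map_add]; exact D.add_mem hx hy
    | tmul u c => simp [D.smul_mem _ c.2]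
  · intro h
    obtain ⟨y, hy⟩ := (mem_range_rTensor_iff D (TensorProduct.comm k U C x)).2 fun φ => by
      rw [hc]; exact h φ
    refine ⟨TensorProduct.comm k D U y, ?_⟩
    apply (TensorProduct.comm k U C).injective
    rw [← hy]
    clear hy
    induction y using TensorProduct.induction_on with
    | zero => simp
    | add x y hx hy => simp only [map_add, hx, hy]
    | tmul c u => simp

theorem coeffSpace_le_iff (D : Submodule k C) :
    coeffSpace k C V ≤ D ↔
      ∀ v : V, HopfRep.Comod.coact (k := k) (A := C) v ∈ LinearMap.range (D.subtype.lTensor V) := by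
  simp only [coeffSpace, iSup_le_iff, mem_range_lTensor_iff]
  exact ⟨fun h v φ => h φ ⟨v, rfl⟩, fun h φ x ⟨v, hv⟩ => hv ▸ h v φ⟩

theorem isLeast_coeffSpace :
    IsLeast {D' : Submodule k C |
      ∀ e : V, HopfRep.Comod.coact (k := k) (A := C) e ∈ LinearMap.range (LinearMap.lTensor V D'.subtype)}
      (coeffSpace k C V) :=
  ⟨(coeffSpace_le_iff _).1 le_rfl, fun D hD => (coeffSpace_le_iff D).2 hD⟩

/-- Subcoalgebra, as the statements spell it. -/
def IsSubcoalg (B : Submodule k C) : Prop :=
  ∀ b ∈ B, CoalgebraStruct.comul (R := k) b ∈ LinearMap.range (TensorProduct.map B.subtype B.subtype)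

theorem isSubcoalg_coeffSpace : IsSubcoalg (coeffSpace k C V) := by
  intro b hb
  refine Submodule.iSup_induction _ (motive := fun b => CoalgebraStruct.comul (R := k) b ∈
    LinearMap.range (TensorProduct.map (coeffSpace k C V).subtype (coeffSpace k C V).subtype)) hb
    (fun φ x hx => ?_) ?_ ?_
  · obtain ⟨v, rfl⟩ := hx
    obtain ⟨y, hy⟩ := (coeffSpace_le_iff (V := V) (coeffSpace k C V)).1 le_rfl v
    rw [comul_coeff, ← hy]
    clear hy
    induction y using TensorProduct.induction_on with
    | zero => simp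
    | add x y hx hy => simp only [map_add]; exact Submodule.add_mem _ hx hy
    | tmul u c => exact ⟨⟨_, coeff_mem φ u⟩ ⊗ₜ c, by simp⟩
  · simp
  · intro x y hx hy
    rw [map_add]
    exact Submodule.add_mem _ hx hy

theorem IsSubcoalg.isSubcomod {B : Submodule k C} (hB : IsSubcoalg B) :
    HopfRep.IsSubcomod (k := k) (A := C) B := by
  intro b hb
  obtain ⟨y, hy⟩ := hB b hb
  refine ⟨B.subtype.lTensor B y, ?_⟩
  rw [← LinearMap.comp_apply, LinearMap.rTensor_comp_lTensor, hy]
  rfl

theorem IsSubcoalg.mem_range_lTensor {B : Submodule k C} (hB : IsSubcoalg B) {b : C} (hb : b ∈ B) :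
    CoalgebraStruct.comul (R := k) b ∈ LinearMap.range (B.subtype.lTensor C) := by
  obtain ⟨y, hy⟩ := hB b hb
  refine ⟨B.subtype.rTensor B y, ?_⟩
  rw [← LinearMap.comp_apply, LinearMap.lTensor_comp_rTensor, hy]

/-- A comodule embedded in a subcoalgebra has its coefficients there. -/
theorem coeffSpace_le_of_injective {g : V →ₗ[k] C} (hg : Hoch.IsComodHom C g)
    (hinj : Function.Injective g) {B : Submodule k C} (hB : IsSubcoalg B) (hgB : ∀ v, g v ∈ B) :
    coeffSpace k C V ≤ B := by
  refine (coeffSpace_le_iff B).2 fun v => (mem_range_lTensor_iff B _).2 fun φ => ?_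
  obtain ⟨l, hl⟩ := g.exists_leftInverse_of_injective (LinearMap.ker_eq_bot.2 hinj)
  have h := (mem_range_lTensor_iff B _).1 (hB.mem_range_lTensor (hgB v)) (φ ∘ₗ l)
  have e : HopfRep.Comod.coact (k := k) (A := C) (g v) = CoalgebraStruct.comul (R := k) (g v) := rfl
  rw [← e, H66.Base.isComodHom_apply hg, ← LinearMap.rTensor_comp_apply, LinearMap.comp_assoc, hl,
    LinearMap.comp_id] at h
  exact h

theorem coeffSpace_mono_of_injective {g : V →ₗ[k] W} (hg : Hoch.IsComodHom C g)
    (hinj : Function.Injective g) : coeffSpace k C V ≤ coeffSpace k C W := by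
  refine iSup_le fun φ => ?_
  rintro _ ⟨v, rfl⟩
  obtain ⟨l, hl⟩ := g.exists_leftInverse_of_injective (LinearMap.ker_eq_bot.2 hinj)
  have : φ = (φ ∘ₗ l) ∘ₗ g := by rw [LinearMap.comp_assoc, hl, LinearMap.comp_id]
  rw [this, ← coeff_comp hg]
  exact coeff_mem _ _

theorem finite_coeffSpace [Module.Finite k V] : Module.Finite k (coeffSpace k C V) := by
  let L : Module.Dual k V ⊗[k] V →ₗ[k] C := TensorProduct.lift
    { toFun := fun φ => coeff (C := C) φ
      map_add' := fun φ ψ => by
        ext v; simp [coeff, LinearMap.rTensor_add]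
      map_smul' := fun c φ => by
        ext v; simp [coeff, LinearMap.rTensor_smul] }
  have : coeffSpace k C V ≤ LinearMap.range L := iSup_le fun φ => by
    rintro _ ⟨v, rfl⟩
    exact ⟨φ ⊗ₜ v, by simp [L]⟩
  exact Submodule.finiteDimensional_of_le this

theorem coeffSpace_ne_bot [Nontrivial V] : coeffSpace k C V ≠ ⊥ := by
  intro h
  obtain ⟨v, hv⟩ := exists_ne (0 : V)
  refine hv ((Module.forall_dual_apply_eq_zero_iff k v).1 fun φ => ?_)
  have := coeff_mem (C := C) φ v
  rw [h, Submodule.mem_bot] at this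
  rw [← counit_coeff (C := C) φ v, this, map_zero]

/-- `coeff` of a simple comodule gives copies of it. -/
theorem injective_coeff_of_ne_zero (hV : HopfRep.IsSimpleComod k C V) (φ : V →ₗ[k] k) (hφ : φ ≠ 0) :
    Function.Injective (coeff (C := C) φ) := by
  rcases hV.2 _ (isSubcomod_ker (isComodHom_coeff (C := C) φ)) with h | h
  · exact LinearMap.ker_eq_bot.1 h
  · refine absurd (LinearMap.ext fun v => ?_) hφ
    have : coeff (C := C) φ v = 0 := LinearMap.mem_ker.1 (h ▸ Submodule.mem_top)
    rw [← counit_coeff (C := C) φ v, this, map_zero, LinearMap.zero_apply]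

theorem isSimpleModule_range {g : V →ₗ[k] W} (hg : Hoch.IsComodHom C g) (hV : HopfRep.IsSimpleComod k C V)
    (hinj : Function.Injective g) :
    letI := module k C V; letI := module k C W
    IsSimpleModule (CDual k C) (LinearMap.range (homOf g hg)) := by
  letI := module k C V; letI := module k C W
  haveI := isSimpleComod_iff.1 hV
  exact IsSimpleModule.congr (LinearEquiv.ofInjective (homOf g hg) hinj).symm

/-- Every simple submodule of the coefficient space of a simple comodule is a copy of it. -/
theorem exists_hom_of_simple_le (hV : HopfRep.IsSimpleComod k C V)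
    (N : letI := module k C C; Submodule (CDual k C) C)
    (hN : letI := module k C C; IsSimpleModule (CDual k C) N) (hle : ofSub N ≤ coeffSpace k C V) :
    ∃ g : V →ₗ[k] C, Hoch.IsComodHom C g ∧ Function.Injective g ∧ LinearMap.range g = ofSub N := by
  letI := module k C C; letI := module k C V
  haveI := hN
  let s : Set (Submodule (CDual k C) C) :=
    {M | ∃ φ : V →ₗ[k] k, φ ≠ 0 ∧ M = LinearMap.range (homOf (coeff (C := C) φ) (isComodHom_coeff φ))}
  haveI : ∀ m : s, IsSimpleModule (CDual k C) m := fun ⟨m, φ, hφ, hm⟩ => by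
    subst hm; exact isSimpleModule_range _ hV (injective_coeff_of_ne_zero hV φ hφ)
  have hle' : N ≤ sSup s := by
    refine (ofSub_le_iff _ _).1 (hle.trans (iSup_le fun φ => ?_))
    by_cases hφ : φ = 0
    · rintro _ ⟨v, rfl⟩
      simp [hφ, coeff]
    · have hmem : LinearMap.range (homOf (coeff (C := C) φ) (isComodHom_coeff φ)) ∈ s := ⟨φ, hφ, rfl⟩
      exact (ofSub_le_iff _ _).2 (le_sSup hmem)
  obtain ⟨M, ⟨φ, hφ, rfl⟩, ⟨e⟩⟩ := Submodule.linearEquiv_of_le_sSup N s hle'
  let e' : V ≃ₗ[CDual k C] N :=
    (LinearEquiv.ofInjective (homOf (coeff (C := C) φ) (isComodHom_coeff φ))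
      (injective_coeff_of_ne_zero hV φ hφ)).trans e.symm
  refine ⟨homBack (N.subtype ∘ₗ e'.toLinearMap), isComodHom_homBack _,
    N.injective_subtype.comp e'.injective, ?_⟩
  ext x
  constructor
  · rintro ⟨v, rfl⟩; exact (e' v).2
  · intro hx; obtain ⟨v, hv⟩ := e'.surjective ⟨x, hx⟩; exact ⟨v, congrArg Subtype.val hv⟩

/-- A nonzero subcomodule of any comodule contains a simple one. -/
theorem exists_simple_le {U : Submodule k V} (hU : HopfRep.IsSubcomod (k := k) (A := C) U) (h0 : U ≠ ⊥) :
    ∃ E : Submodule k V, E ≤ U ∧ E ≠ ⊥ ∧ HopfRep.IsSubcomod (k := k) (A := C) E ∧ E.FG ∧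
      ∀ E' : Submodule k V, E' ≤ E → HopfRep.IsSubcomod (k := k) (A := C) E' → E' = ⊥ ∨ E' = E := by
  classical
  obtain ⟨v, hv, hv0⟩ := Submodule.exists_mem_ne_zero_of_ne_bot h0
  have hP : ∃ n, ∃ E : Submodule k V, E ≤ U ∧ E ≠ ⊥ ∧ HopfRep.IsSubcomod (k := k) (A := C) E ∧ E.FG ∧
      Module.finrank k E = n :=
    ⟨_, cyclic (k := k) (A := C) V v, cyclic_le hU hv,
      fun h => hv0 ((Submodule.mem_bot k).1 (h ▸ self_mem_cyclic (k := k) (A := C) V v)),
      isSubcomod_cyclic v, cyclic_fg V v, rfl⟩
  obtain ⟨E, h1, h2, h3, h4, h5⟩ := Nat.find_spec hP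
  haveI : Module.Finite k E := Module.Finite.iff_fg.2 h4
  refine ⟨E, h1, h2, h3, h4, fun E' hle hE' => or_iff_not_imp_left.2 fun hne => ?_⟩
  haveI := Submodule.finiteDimensional_of_le hle
  refine Submodule.eq_of_le_of_finrank_le hle ?_
  rw [h5]
  exact Nat.find_le ⟨E', hle.trans h1, hne, hE', Module.Finite.iff_fg.1 inferInstance, rfl⟩

theorem isSimpleComod_subComod {E : Submodule k V} (hE : HopfRep.IsSubcomod (k := k) (A := C) E) (h0 : E ≠ ⊥)
    (hmin : ∀ E' : Submodule k V, E' ≤ E → HopfRep.IsSubcomod (k := k) (A := C) E' → E' = ⊥ ∨ E' = E) :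
    letI := subComod E hE; HopfRep.IsSimpleComod k C E := by
  letI := subComod E hE
  refine ⟨(Submodule.nontrivial_iff_ne_bot).2 h0, fun W hW => ?_⟩
  rcases hmin (W.map E.subtype) (Submodule.map_subtype_le E W) (isSubcomod_map (isComodHom_subtype hE) hW) with h | h
  · exact Or.inl (Submodule.map_injective_of_injective E.injective_subtype (h.trans (Submodule.map_bot _).symm))
  · refine Or.inr (Submodule.map_injective_of_injective E.injective_subtype (h.trans ?_))
    rw [Submodule.map_top, Submodule.range_subtype]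

/-- The predicate `simple subcoalgebra`. -/
def IsSimpleSubcoalg (D : Submodule k C) : Prop :=
  D ≠ ⊥ ∧ IsSubcoalg D ∧ ∀ B : Submodule k C, B ≤ D → IsSubcoalg B → B = ⊥ ∨ B = D

theorem isSimpleSubcoalg_coeffSpace (hV : HopfRep.IsSimpleComod k C V) :
    IsSimpleSubcoalg (coeffSpace k C V) := by
  haveI := hV.1
  refine ⟨coeffSpace_ne_bot, isSubcoalg_coeffSpace, fun B hle hB => or_iff_not_imp_left.2 fun h0 => ?_⟩
  obtain ⟨E, h1, h2, h3, -, h5⟩ := exists_simple_le hB.isSubcomod h0
  letI := module k C C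
  obtain ⟨g, hg, hinj, hr⟩ := exists_hom_of_simple_le hV (toSub E h3)
    ((isSimpleModule_iff_of_sub _).2 ⟨h2, fun W' hW' hle' => h5 W' hle' hW'⟩) (h1.trans hle)
  exact le_antisymm hle (coeffSpace_le_of_injective hg hinj hB fun v => h1 (hr.le ⟨v, rfl⟩))

theorem exists_comodIso_of_coeffSpace_eq {V' : Type w'} [AddCommGroup V'] [Module k V']
    [HopfRep.Comod k C V'] (hV : HopfRep.IsSimpleComod k C V) (hV' : HopfRep.IsSimpleComod k C V')
    (h : coeffSpace k C V = coeffSpace k C V') :
    ∃ e : V ≃ₗ[k] V', Hoch.IsComodHom C e.toLinearMap := by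
  letI := module k C C; letI := module k C V; letI := module k C V'
  haveI := hV.1
  obtain ⟨v, hv⟩ := exists_ne (0 : V)
  obtain ⟨φ, hφ⟩ : ∃ φ : Module.Dual k V, φ v ≠ 0 := by
    by_contra h0
    simp only [not_exists, not_not] at h0
    exact hv ((Module.forall_dual_apply_eq_zero_iff k v).1 h0)
  have hφ0 : φ ≠ 0 := fun e => hφ (by simp [e])
  let f := homOf (coeff (C := C) φ) (isComodHom_coeff φ)
  have hf : Function.Injective f := injective_coeff_of_ne_zero hV φ hφ0
  obtain ⟨g, hg, hinj, hr⟩ := exists_hom_of_simple_le hV' (LinearMap.range f)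
    (isSimpleModule_range _ hV hf) (by
      rw [← h]; rintro _ ⟨x, rfl⟩; exact coeff_mem φ x)
  let e' := (LinearEquiv.ofInjective f hf).trans ((LinearEquiv.ofInjective (homOf g hg) hinj).trans
    (LinearEquiv.ofEq _ _ (ofSub_inj (by rw [ofSub_range, hr])))).symm
  exact ⟨LinearEquiv.ofBijective (homBack e'.toLinearMap) e'.bijective, isComodHom_homBack e'.toLinearMap⟩

/-- A simple subcoalgebra is the coefficient space of any simple comodule inside it. -/
theorem coeffSpace_subComod_eq {D : Submodule k C} (hD : IsSimpleSubcoalg D) {E : Submodule k C}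
    (hE : HopfRep.IsSubcomod (k := k) (A := C) E) (h0 : E ≠ ⊥) (hle : E ≤ D) :
    (letI := subComod E hE; coeffSpace k C E) = D := by
  letI := subComod E hE
  have h1 := coeffSpace_le_of_injective (isComodHom_subtype hE) E.injective_subtype hD.2.1 fun v => hle v.2
  haveI : Nontrivial E := Submodule.nontrivial_iff_ne_bot.2 h0
  exact (hD.2.2 _ h1 isSubcoalg_coeffSpace).resolve_left coeffSpace_ne_bot

/-- A simple subcoalgebra is a semisimple comodule. -/
theorem isSemisimple_simpleSubcoalg {D : Submodule k C} (hD : IsSimpleSubcoalg D) :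
    ∃ h : HopfRep.IsSubcomod (k := k) (A := C) D, letI := module k C C
      IsSemisimpleModule (CDual k C) (toSub D h) := by
  refine ⟨hD.2.1.isSubcomod, ?_⟩
  letI := module k C C
  obtain ⟨E, h1, h2, h3, -, h5⟩ := exists_simple_le hD.2.1.isSubcomod hD.1
  letI := subComod E h3
  letI := module k C E
  have hs := isSimpleComod_subComod h3 h2 h5
  haveI := isSimpleComod_iff.1 hs
  have heq : toSub D hD.2.1.isSubcomod =
      ⨆ φ ∈ (Set.univ : Set (E →ₗ[k] k)), LinearMap.range (homOf (coeff (C := C) φ) (isComodHom_coeff φ)) := by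
    apply ofSub_inj
    rw [ofSub_iSup]
    refine (coeffSpace_subComod_eq hD h3 h2 h1).symm.trans (iSup_congr fun φ => ?_)
    rw [iSup_pos (Set.mem_univ φ)]
    rfl
  rw [heq]
  exact isSemisimpleModule_biSup_of_isSemisimpleModule_submodule fun φ _ => IsSemisimpleModule.range _

end

end Groth.Agent.H66.Coeff
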