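import Groth.Prelude.Def_SGA3
import Groth.Agent.H66.Coeff
import Mathlib.LinearAlgebra.Matrix.NonsingularInverse
import Mathlib.LinearAlgebra.StdBasis

/-!
Matrix comodules: a multiplicative matrix is a comodule on a coordinate space; products and powers.
-/

universe u v w

open TensorProduct Matrix

set_option linter.unusedSectionVars false
set_option linter.style.haveILetI false

namespace Groth.Agent.H66.MatComod

noncomputable section

variable {k : Type u} [Field k] {A : Type v} [CommRing A] [HopfAlgebra k A]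
variable {ι κ : Type w} [Fintype ι] [DecidableEq ι] [Fintype κ] [DecidableEq κ]

/-- A multiplicative matrix. -/
def IsMat (k : Type u) [Field k] {A : Type v} [CommRing A] [HopfAlgebra k A] {ι : Type w} [Fintype ι]
    [DecidableEq ι] (P : Matrix ι ι A) : Prop :=
  (∀ i j, CoalgebraStruct.comul (R := k) (P i j) = ∑ l, P i l ⊗ₜ[k] P l j) ∧
    ∀ i j, CoalgebraStruct.counit (R := k) (P i j) = if i = j then (1 : k) else 0

variable {P : Matrix ι ι A} {Q : Matrix κ κ A}

variable (P) in
/-- The coaction of a matrix. -/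
def coactFun : (ι → k) →ₗ[k] (ι → k) ⊗[k] A :=
  (Pi.basisFun k ι).constr k fun j => ∑ i, Pi.single i (1 : k) ⊗ₜ[k] P i j

theorem coactFun_single (j : ι) :
    coactFun (k := k) P (Pi.single j 1) = ∑ i, Pi.single i (1 : k) ⊗ₜ[k] P i j := by
  rw [coactFun, ← Pi.basisFun_apply, Module.Basis.constr_basis]

/-- The comodule of a multiplicative matrix. -/
@[reducible] def comod (hP : IsMat k P) : HopfRep.Comod k A (ι → k) where
  coact := coactFun P
  coassoc := by
    apply (Pi.basisFun k ι).ext
    intro j
    simp only [LinearMap.comp_apply, LinearEquiv.coe_coe, Pi.basisFun_apply, coactFun_single, map_sum,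
      LinearMap.rTensor_tmul, TensorProduct.sum_tmul, TensorProduct.assoc_tmul, LinearMap.lTensor_tmul,
      hP.1, TensorProduct.tmul_sum]
    exact Finset.sum_comm
  counit_comp := by
    apply (Pi.basisFun k ι).ext
    intro j
    simp only [LinearMap.comp_apply, Pi.basisFun_apply, coactFun_single, map_sum, LinearMap.lTensor_tmul,
      hP.2, LinearMap.flip_apply, TensorProduct.mk_apply]
    simp [TensorProduct.tmul_ite, Finset.sum_ite_eq']

variable (k ι) (R : Type u) [CommRing R] [Algebra k R] in
/-- Coordinates of a tensor. -/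
def vec : (ι → k) ⊗[k] R →ₗ[k] (ι → R) :=
  LinearMap.pi fun i => (TensorProduct.lid k R).toLinearMap ∘ₗ (LinearMap.proj i).rTensor R

theorem vec_tmul {R : Type u} [CommRing R] [Algebra k R] (x : ι → k) (r : R) :
    vec k ι R (x ⊗ₜ r) = fun i => x i • r := by
  funext i; simp [vec]

theorem vec_injective {R : Type u} [CommRing R] [Algebra k R] : Function.Injective (vec k ι R) := by
  refine Function.LeftInverse.injective (g := fun f => ∑ i, Pi.single i (1 : k) ⊗ₜ[k] f i) fun z => ?_
  induction z using TensorProduct.induction_on with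
  | zero => simp
  | add a b ha hb => simp only [map_add, Pi.add_apply, TensorProduct.tmul_add, Finset.sum_add_distrib, ha, hb]
  | tmul x r =>
    simp only [vec_tmul, ← TensorProduct.smul_tmul, ← TensorProduct.sum_tmul]
    congr 1
    funext i
    simp [Finset.sum_apply, Pi.single_apply]

/-- The `R`-coordinates of a vector. -/
def up (R : Type u) [CommRing R] [Algebra k R] (x : ι → k) : ι → R := fun i => algebraMap k R (x i)

theorem vec_lTensor_coact (hP : IsMat k P) {R : Type u} [CommRing R] [Algebra k R] (g : A →ₐ[k] R) (x : ι → k) :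
    vec k ι R (LinearMap.lTensor (ι → k) g.toLinearMap ((comod hP).coact x)) = (P.map g) *ᵥ up R x := by
  have hx : x = ∑ j, x j • Pi.single j (1 : k) := by
    funext i; simp [Finset.sum_apply, Pi.single_apply]
  funext i
  conv_lhs => rw [hx]
  change vec k ι R (LinearMap.lTensor (ι → k) g.toLinearMap (coactFun P _)) i = _
  simp only [map_sum, map_smul, coactFun_single, LinearMap.lTensor_tmul, vec_tmul, Finset.sum_apply,
    Pi.smul_apply, Matrix.mulVec, dotProduct, Matrix.map_apply, up]
  refine Finset.sum_congr rfl fun j _ => ?_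
  simp [Pi.single_apply, Algebra.smul_def, mul_comm]

theorem vec_tmul_eq {R : Type u} [CommRing R] [Algebra k R] (x : ι → k) (c : R) :
    vec k ι R (x ⊗ₜ c) = c • up R x := by
  funext i
  simp [vec_tmul, up, Algebra.smul_def, mul_comm]

/-- Stabilizing a line of a matrix comodule. -/
theorem stabilizesLine_iff {k : Type u} [Field k] {A : Type u} [CommRing A] [HopfAlgebra k A]
    {ι : Type w} [Fintype ι] [DecidableEq ι] {P : Matrix ι ι A} (hP : IsMat k P) (x : ι → k)
    (R : Type u) [CommRing R] [Algebra k R] (g : A →ₐ[k] R) :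
    (letI := comod hP; SGA3.StabilizesLine k A x R g) ↔ ∃ c : R, (P.map g) *ᵥ up R x = c • up R x := by
  letI := comod hP
  refine exists_congr fun c => ?_
  rw [← (vec_injective (k := k) (ι := ι) (R := R)).eq_iff, vec_tmul_eq]
  exact Iff.of_eq (congrArg (· = c • up R x) (vec_lTensor_coact hP g x))

theorem mul_antipode (hP : IsMat k P) :
    P * P.map (HopfAlgebraStruct.antipode (R := k) (A := A)) = 1 := by
  ext i j
  have h := HopfAlgebra.mul_antipode_lTensor_comul_apply (R := k) (P i j)
  rw [hP.1, hP.2, map_sum, map_sum] at h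
  simp only [LinearMap.lTensor_tmul, LinearMap.mul'_apply] at h
  rw [Matrix.mul_apply, Matrix.one_apply]
  simp only [Matrix.map_apply]
  rw [h]
  split_ifs <;> simp

theorem antipode_mul (hP : IsMat k P) :
    P.map (HopfAlgebraStruct.antipode (R := k) (A := A)) * P = 1 :=
  mul_eq_one_comm.1 (mul_antipode hP)

/-- The inverse of the matrix of a point. -/
theorem inv_map_mul (hP : IsMat k P) {R : Type u} [CommRing R] [Algebra k R] (g : A →ₐ[k] R) :
    (P.map (HopfAlgebraStruct.antipode (R := k) (A := A))).map g * P.map g = 1 := by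
  change AlgHom.mapMatrix g (P.map _) * AlgHom.mapMatrix g P = 1
  rw [← map_mul, antipode_mul hP, map_one]

/-- A point stabilizing a line with a nonzero coordinate acts on it by a unit. -/
theorem isUnit_of_stab (hP : IsMat k P) {R : Type u} [CommRing R] [Algebra k R] (g : A →ₐ[k] R) {x : ι → k}
    (hx : ∃ i, x i ≠ 0) {c : R} (h : (P.map g) *ᵥ up R x = c • up R x) : IsUnit c := by
  obtain ⟨i, hi⟩ := hx
  have h1 := congrFun (congrArg (((P.map (HopfAlgebraStruct.antipode (R := k) (A := A))).map g) *ᵥ ·) h) i
  simp only [Matrix.mulVec_mulVec, inv_map_mul hP g, Matrix.one_mulVec, Matrix.mulVec_smul, Pi.smul_apply,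
    smul_eq_mul] at h1
  have hu : IsUnit (up R x i) := (isUnit_iff_ne_zero.2 hi).map (algebraMap k R)
  rw [h1] at hu
  exact isUnit_of_mul_isUnit_left hu

/-- The Kronecker product. -/
def kron (P : Matrix ι ι A) (Q : Matrix κ κ A) : Matrix (ι × κ) (ι × κ) A :=
  fun a b => P a.1 b.1 * Q a.2 b.2

theorem isMat_kron (hP : IsMat k P) (hQ : IsMat k Q) : IsMat k (kron P Q) := by
  refine ⟨fun a b => ?_, fun a b => ?_⟩
  · rw [kron, Bialgebra.comul_mul, hP.1, hQ.1, Finset.sum_mul_sum, ← Finset.sum_product', Finset.univ_product_univ]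
    exact Finset.sum_congr rfl fun x _ => Algebra.TensorProduct.tmul_mul_tmul ..
  · rw [kron, Bialgebra.counit_mul, hP.2, hQ.2]
    by_cases h1 : a.1 = b.1 <;> by_cases h2 : a.2 = b.2 <;> simp [h1, h2, Prod.ext_iff]

/-- The tensor power. -/
def pw (P : Matrix ι ι A) (d : ℕ) : Matrix (Fin d → ι) (Fin d → ι) A := fun I J => ∏ a, P (I a) (J a)

theorem tmul_prod {α : Type*} (s : Finset α) (f g : α → A) :
    ∏ a ∈ s, (f a ⊗ₜ[k] g a) = (∏ a ∈ s, f a) ⊗ₜ[k] (∏ a ∈ s, g a) := by
  classical
  induction s using Finset.induction_on with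
  | empty => simp [Algebra.TensorProduct.one_def]
  | insert a s ha ih => simp [Finset.prod_insert ha, ih]

theorem isMat_pw (hP : IsMat k P) (d : ℕ) : IsMat k (pw P d) := by
  refine ⟨fun I J => ?_, fun I J => ?_⟩
  · change Bialgebra.comulAlgHom k A (∏ a, P (I a) (J a)) = _
    simp only [map_prod, Bialgebra.comulAlgHom_apply, hP.1, Fintype.prod_sum, tmul_prod]
    rfl
  · change Bialgebra.counitAlgHom k A (∏ a, P (I a) (J a)) = _
    simp only [map_prod, Bialgebra.counitAlgHom_apply, hP.2, Fintype.prod_ite_zero, Finset.prod_const_one]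
    by_cases h : I = J
    · subst h; simp
    · rw [if_neg h, if_neg]
      intro h'
      exact h (funext fun a => h' a)

theorem pw_map {R : Type u} [CommRing R] [Algebra k R] (g : A →ₐ[k] R) (d : ℕ) (I J : Fin d → ι) :
    ((pw P d).map g) I J = ∏ a, g (P (I a) (J a)) := by
  simp [pw, map_prod]

section OfBasis

variable {V : Type*} [AddCommGroup V] [Module k V] [HopfRep.Comod k A V] (b : Module.Basis ι k V)

/-- The matrix of a comodule in a basis. -/
def ofBasis : Matrix ι ι A := fun i j => H66.Coeff.coeff (C := A) (b.coord i) (b j)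

theorem coact_basis (j : ι) :
    HopfRep.Comod.coact (k := k) (A := A) (b j) = ∑ i, b i ⊗ₜ[k] ofBasis b i j := by
  simp only [ofBasis, H66.Coeff.coeff_apply]
  induction HopfRep.Comod.coact (k := k) (A := A) (b j) using TensorProduct.induction_on with
  | zero => simp
  | add p q hp hq => simp only [map_add, TensorProduct.tmul_add, Finset.sum_add_distrib, ← hp, ← hq]
  | tmul v a =>
    simp only [LinearMap.rTensor_tmul, TensorProduct.lid_tmul, ← TensorProduct.smul_tmul, ← TensorProduct.sum_tmul,
      Module.Basis.coord_apply, b.sum_repr]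

theorem isMat_ofBasis : IsMat k (ofBasis (A := A) b) := by
  refine ⟨fun i j => ?_, fun i j => ?_⟩
  · rw [ofBasis, H66.Coeff.comul_coeff, coact_basis b, map_sum]
    rfl
  · rw [ofBasis, H66.Coeff.counit_coeff]
    simp [Finsupp.single_apply, eq_comm]

end OfBasis

end

end Groth.Agent.H66.MatComod
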