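import Groth.Agent.H66.MatLR
import Groth.Prelude.Def_GLin5
import Mathlib.Algebra.MvPolynomial.Funext
import Mathlib.Algebra.CharZero.Infinite
import Mathlib.FieldTheory.IsAlgClosed.Basic

/-!
`GL_n` and `SL_n` are linearly reductive in characteristic zero.
-/

universe u

open TensorProduct CoordGrp

set_option linter.style.haveILetI false

namespace Groth.Agent.H66.GLnLR

noncomputable section

variable {k : Type u} [Field k] {n : ℕ}

theorem isMat_gl : H66.MatComod.IsMat k (GLn.genMat n k) :=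
  ⟨fun i j => GLn.comul_X i j, fun i j => GLn.counit_X i j⟩

theorem isGroupLike_Dinv : IsGroupLikeElem k (GLn.Dinv : GLn n k) := ⟨GLn.counit_Dinv, GLn.comul_Dinv⟩

theorem isGroupLike_det : IsGroupLikeElem k (GLn.det : GLn n k) := ⟨GLn.counit_det, GLn.comul_det⟩

/-- The determinant polynomial. -/
def detPoly (n : ℕ) (k : Type u) [Field k] : MvPolynomial (Fin n × Fin n) k :=
  (Matrix.mvPolynomialX (Fin n) (Fin n) k).det

theorem aeval_detPoly {B : Type*} [CommRing B] [Algebra k B] (M : Matrix (Fin n) (Fin n) B) :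
    MvPolynomial.aeval (fun p : Fin n × Fin n => M p.1 p.2) (detPoly n k) = M.det := by
  rw [detPoly, AlgHom.map_det]
  congr 1
  exact Matrix.mvPolynomialX_mapMatrix_aeval k M

theorem gl_span (x : GLn n k) : ∃ (c : ℕ) (f : MvPolynomial (Fin n × Fin n) k),
    x = GLn.Dinv ^ c * MvPolynomial.aeval (fun p : Fin n × Fin n => GLn.genMat n k p.1 p.2) f := by
  obtain ⟨y, rfl⟩ := Ideal.Quotient.mk_surjective (I := GLb.relIdeal n k) x
  change ∃ (c : ℕ) (f : MvPolynomial (Fin n × Fin n) k), GLn.mk n k y = _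
  have hdd : (GLn.Dinv : GLn n k) * GLn.det = 1 := GLn.Dinv_mul_det
  have hdet : MvPolynomial.aeval (fun p : Fin n × Fin n => GLn.genMat n k p.1 p.2) (detPoly n k) =
      (GLn.det : GLn n k) := by rw [aeval_detPoly, GLn.det_eq]
  induction y using MvPolynomial.induction_on with
  | C a => exact ⟨0, MvPolynomial.C a, by rw [pow_zero, one_mul, MvPolynomial.aeval_C]; exact (GLn.mk n k).commutes a⟩
  | add p q hp hq =>
    obtain ⟨c, f, hf⟩ := hp
    obtain ⟨d, g, hg⟩ := hq
    refine ⟨c + d, detPoly n k ^ d * f + detPoly n k ^ c * g, ?_⟩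
    have h1 : (GLn.Dinv : GLn n k) ^ d * GLn.det ^ d = 1 := by rw [← mul_pow, hdd, one_pow]
    have h2 : (GLn.Dinv : GLn n k) ^ c * GLn.det ^ c = 1 := by rw [← mul_pow, hdd, one_pow]
    refine ((map_add (GLn.mk n k) p q).trans (congrArg₂ (· + ·) hf hg)).trans ?_
    simp only [map_add, map_mul, map_pow, hdet, pow_add]
    calc _ = (GLn.Dinv : GLn n k) ^ c * ((GLn.Dinv : GLn n k) ^ d * GLn.det ^ d) *
            MvPolynomial.aeval (fun p : Fin n × Fin n => GLn.genMat n k p.1 p.2) f +
          (GLn.Dinv : GLn n k) ^ d * ((GLn.Dinv : GLn n k) ^ c * GLn.det ^ c) *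
            MvPolynomial.aeval (fun p : Fin n × Fin n => GLn.genMat n k p.1 p.2) g := by
          rw [h1, h2, mul_one, mul_one]
      _ = _ := by ring
  | mul_X p s hp =>
    obtain ⟨c, f, hf⟩ := hp
    match s with
    | Sum.inl (i, j) =>
      refine ⟨c, f * MvPolynomial.X (i, j), ((map_mul (GLn.mk n k) p (GLb.X i j)).trans (congrArg (· * _) hf)).trans ?_⟩
      simp only [GLn.mk_X, map_mul, MvPolynomial.aeval_X, mul_assoc]
      rfl
    | Sum.inr () =>
      refine ⟨c + 1, f, ((map_mul (GLn.mk n k) p GLb.D).trans (congrArg (· * _) hf)).trans ?_⟩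
      change _ * (GLn.Dinv : GLn n k) = _
      ring

theorem gl_injective [CharZero k] (f : MvPolynomial (Fin n × Fin n) k)
    (hf : MvPolynomial.aeval (fun p : Fin n × Fin n => GLn.genMat n k p.1 p.2) f = 0) : f = 0 := by
  have h : f * detPoly n k = 0 := by
    refine MvPolynomial.funext fun x => ?_
    let M : Matrix (Fin n) (Fin n) k := fun i j => x (i, j)
    have hdet : MvPolynomial.eval x (detPoly n k) = M.det := (aeval_detPoly (k := k) M)
    rw [map_mul, map_zero, hdet]
    by_cases h0 : M.det = 0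
    · rw [h0, mul_zero]
    have h1 := congrArg (GLn.pt n k M M.det⁻¹ (mul_inv_cancel₀ h0)) hf
    rw [← AlgHom.comp_apply, MvPolynomial.comp_aeval, map_zero] at h1
    simp only [GLn.genMat, GLn.pt_X] at h1
    rw [show MvPolynomial.eval x f = 0 from h1, zero_mul]
  have hne : detPoly n k ≠ 0 := Matrix.det_mvPolynomialX_ne_zero (Fin n) k
  exact (mul_eq_zero.1 h).resolve_right hne

theorem isLinearlyReductive_GLn [CharZero k] : HopfRep.IsLinearlyReductive k (GLn n k) :=
  H66.MatLR.isLinearlyReductive_of_matrix isMat_gl isGroupLike_Dinv (fun _ f _ hf => gl_injective f hf) gl_span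

theorem isMat_sl : H66.MatComod.IsMat k (fun i j : Fin n => (SLn.X i j : SLn n k)) := by
  refine ⟨fun i j => ?_, fun i j => ?_⟩
  · have e := CoalgHomClass.map_comp_comul_apply (SLn.mkHom n k) (GLn.X i j : GLn n k)
    rw [GLn.comul_X, map_sum] at e
    exact e.symm
  · exact (CoalgHomClass.counit_comp_apply (SLn.mkHom n k) (GLn.X i j : GLn n k)).trans (GLn.counit_X i j)

theorem sl_span (x : SLn n k) : ∃ (c : ℕ) (f : MvPolynomial (Fin n × Fin n) k),
    x = (1 : SLn n k) ^ c * MvPolynomial.aeval (fun p : Fin n × Fin n => (SLn.X p.1 p.2 : SLn n k)) f := by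
  obtain ⟨y, rfl⟩ := Ideal.Quotient.mk_surjective (I := GLn.slIdeal n k) x
  change ∃ (c : ℕ) (f : MvPolynomial (Fin n × Fin n) k), SLn.mk n k y = _
  obtain ⟨c, f, rfl⟩ := gl_span y
  refine ⟨0, f, ?_⟩
  have hD : SLn.mk n k (GLn.Dinv : GLn n k) = 1 := by
    have h := congrArg (SLn.mk n k) (GLn.Dinv_mul_det (n := n) (k := k))
    rwa [map_mul, SLn.det_eq_one, mul_one, map_one] at h
  rw [map_mul, map_pow, hD, one_pow, pow_zero, ← AlgHom.comp_apply, MvPolynomial.comp_aeval]
  rfl

theorem sl_injective [CharZero k] [IsAlgClosed k] (a : ℕ) (f : MvPolynomial (Fin n × Fin n) k)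
    (hh : f.IsHomogeneous a)
    (hf : MvPolynomial.aeval (fun p : Fin n × Fin n => (SLn.X p.1 p.2 : SLn n k)) f = 0) : f = 0 := by
  have hN : ∀ (N : Matrix (Fin n) (Fin n) k), N.det = 1 →
      MvPolynomial.eval (fun p : Fin n × Fin n => N p.1 p.2) f = 0 := by
    intro N hN
    have h1 := congrArg (SLn.pt n k N hN) hf
    rw [← AlgHom.comp_apply, MvPolynomial.comp_aeval, map_zero] at h1
    simp only [SLn.pt_X] at h1
    exact h1
  have h : f * detPoly n k = 0 := by
    refine MvPolynomial.funext fun x => ?_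
    let M : Matrix (Fin n) (Fin n) k := fun i j => x (i, j)
    have hdet : MvPolynomial.eval x (detPoly n k) = M.det := (aeval_detPoly (k := k) M)
    rw [map_mul, map_zero, hdet]
    by_cases h0 : M.det = 0
    · rw [h0, mul_zero]
    obtain ⟨l, hl⟩ : ∃ l : k, l ^ n = M.det := by
      rcases Nat.eq_zero_or_pos n with hn | hn
      · subst hn
        exact ⟨1, by simp [Matrix.det_fin_zero]⟩
      · exact IsAlgClosed.exists_pow_nat_eq _ hn
    have hl0 : l = 0 → n = 0 := fun e => by
      by_contra hn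
      rw [e, zero_pow hn] at hl
      exact h0 hl.symm
    by_cases hn : n = 0
    · subst hn
      have h2 := hN M (by simp [Matrix.det_fin_zero])
      rw [show MvPolynomial.eval x f = 0 from h2, zero_mul]
    have hl1 : l ≠ 0 := fun e => hn (hl0 e)
    have h2 := hN (l⁻¹ • M) (by
      rw [Matrix.det_smul, Fintype.card_fin, inv_pow, hl, inv_mul_cancel₀ h0])
    have e : (fun p : Fin n × Fin n => (l⁻¹ • M) p.1 p.2) = l⁻¹ • x := rfl
    have hs : MvPolynomial.eval (l⁻¹ • x) f = l⁻¹ ^ a * MvPolynomial.eval x f := by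
      conv_lhs => rw [f.as_sum]
      conv_rhs => rw [f.as_sum]
      simp only [map_sum, Finset.mul_sum]
      refine Finset.sum_congr rfl fun d hd => ?_
      rw [MvPolynomial.eval_monomial, MvPolynomial.eval_monomial]
      simp only [Finsupp.prod, Pi.smul_apply, smul_eq_mul, mul_pow, Finset.prod_mul_distrib,
        Finset.prod_pow_eq_pow_sum]
      have hda : ∑ i ∈ d.support, d i = a :=
        Finsupp.degree_apply d ▸ (Finsupp.degree_eq_weight_one (R := ℕ) ▸ hh (MvPolynomial.mem_support_iff.1 hd))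
      rw [hda]
      ring
    rw [e, hs] at h2
    rw [(mul_eq_zero.1 h2).resolve_left (pow_ne_zero _ (inv_ne_zero hl1)), zero_mul]
  have hne : detPoly n k ≠ 0 := Matrix.det_mvPolynomialX_ne_zero (Fin n) k
  exact (mul_eq_zero.1 h).resolve_right hne

theorem isLinearlyReductive_SLn [CharZero k] [IsAlgClosed k] : HopfRep.IsLinearlyReductive k (SLn n k) :=
  H66.MatLR.isLinearlyReductive_of_matrix isMat_sl IsGroupLikeElem.one sl_injective sl_span

end

end Groth.Agent.H66.GLnLR
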