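import Groth.Agent.H66.GLnLR
import Groth.Agent.Lib.Normalization.Relative
import Groth.Agent.Lib.Cohen.NagataFiniteType
import Groth.Agent.Lib.Comod.Cartier
import Mathlib.LinearAlgebra.Matrix.Charpoly.Coeff
import Mathlib.LinearAlgebra.Matrix.Charpoly.Eigs
import Mathlib.FieldTheory.IsAlgClosed.Spectrum
import Mathlib.FieldTheory.IsAlgClosed.AlgebraicClosure
import Mathlib.RingTheory.FiniteType

/-!
The span of the characters of a closed subgroup is finite over the algebra generated by the
restricted characters (characteristic zero).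
-/

universe u w

open TensorProduct Matrix

set_option linter.style.haveILetI false
set_option linter.unusedSectionVars false

namespace Groth.Agent.H66.CharFinite

noncomputable section

open H66.MatComod

variable {k : Type u} [Field k] {B : Type u} [CommRing B] [HopfAlgebra k B]

/-- The characters of the comodules. -/
def chars (k : Type u) [Field k] (B : Type u) [CommRing B] [HopfAlgebra k B] : Set B :=
  {x | ∃ (d : ℕ) (Q : Matrix (Fin d) (Fin d) B), IsMat k Q ∧ x = Q.trace}

section Mat

variable {ι : Type w} [Fintype ι] [DecidableEq ι]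

theorem isMat_submatrix {κ : Type*} [Fintype κ] [DecidableEq κ] {R : Matrix ι ι B} (hR : IsMat k R)
    (e : κ ≃ ι) : IsMat k (R.submatrix e e) := by
  refine ⟨fun i j => ?_, fun i j => ?_⟩
  · simp only [Matrix.submatrix_apply, hR.1]
    exact (Fintype.sum_equiv e _ _ fun _ => rfl).symm
  · simp only [Matrix.submatrix_apply, hR.2, e.injective.eq_iff]

theorem trace_mem {R : Matrix ι ι B} (hR : IsMat k R) : R.trace ∈ chars k B := by
  refine ⟨_, R.submatrix (Fintype.equivFin ι).symm (Fintype.equivFin ι).symm, isMat_submatrix hR _, ?_⟩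
  simp only [Matrix.trace, Matrix.diag_apply, Matrix.submatrix_apply]
  exact Fintype.sum_equiv (Fintype.equivFin ι) _ _ (by simp)

theorem isMat_map {A : Type u} [CommRing A] [HopfAlgebra k A] {R : Matrix ι ι A} (hR : IsMat k R)
    (π : A →ₐc[k] B) : IsMat k (R.map π) := by
  refine ⟨fun i j => ?_, fun i j => ?_⟩
  · simp only [Matrix.map_apply]
    rw [← CoalgHomClass.map_comp_comul_apply π, hR.1, map_sum]
    rfl
  · simp only [Matrix.map_apply]
    rw [CoalgHomClass.counit_comp_apply π, hR.2]

theorem map_map_algHom {α β : Type*} {T : Type u} [CommRing T] [Algebra k T] (M : Matrix α β k)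
    (g : B →ₐ[k] T) : (M.map (algebraMap k B)).map g = M.map (algebraMap k T) := by
  ext a c; simp

theorem map_trace_mul {κ : Type*} [Fintype κ] [DecidableEq κ] (X : Matrix ι κ k) (Y : Matrix κ ι k)
    (R : Matrix ι ι B) :
    ((Y.map (algebraMap k B)) * R * X.map (algebraMap k B)).trace = ((X * Y).map (algebraMap k B) * R).trace := by
  rw [Matrix.trace_mul_comm, ← Matrix.mul_assoc, Matrix.map_mul]

/-- The character cut out by an equivariant idempotent. -/
theorem trace_idem_mem {R : Matrix ι ι B} (hR : IsMat k R) (e : Matrix ι ι k) (he : e * e = e)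
    (hc : e.map (algebraMap k B) * R = R * e.map (algebraMap k B)) :
    (e.map (algebraMap k B) * R).trace ∈ chars k B := by
  obtain ⟨r, X, Y, hXY, hYX⟩ : ∃ (r : ℕ) (X : Matrix ι (Fin r) k) (Y : Matrix (Fin r) ι k),
      X * Y = e ∧ Y * X = 1 := by
    let f := Matrix.toLin' e
    let b := Module.finBasis k (LinearMap.range f)
    let i : (Fin (Module.finrank k (LinearMap.range f)) → k) →ₗ[k] (ι → k) :=
      (LinearMap.range f).subtype ∘ₗ b.equivFun.symm.toLinearMap
    let p : (ι → k) →ₗ[k] (Fin (Module.finrank k (LinearMap.range f)) → k) :=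
      b.equivFun.toLinearMap ∘ₗ f.rangeRestrict
    have h1 : i ∘ₗ p = f := LinearMap.ext fun x => by simp [i, p]
    have h2 : p ∘ₗ i = LinearMap.id := LinearMap.ext fun x => by
      have hf : f.rangeRestrict ((b.equivFun.symm x : LinearMap.range f) : ι → k) = b.equivFun.symm x := by
        obtain ⟨y, hy⟩ := (b.equivFun.symm x : LinearMap.range f).2
        refine Subtype.ext ?_
        rw [LinearMap.codRestrict_apply, ← hy]
        simp only [f, ← Matrix.toLin'_mul_apply, he]
      simp only [i, p, LinearMap.comp_apply, LinearEquiv.coe_coe, Submodule.subtype_apply, hf,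
        LinearEquiv.apply_symm_apply, LinearMap.id_apply]
    refine ⟨_, LinearMap.toMatrix' i, LinearMap.toMatrix' p, ?_, ?_⟩
    · rw [← LinearMap.toMatrix'_comp, h1, LinearMap.toMatrix'_toLin']
    · rw [← LinearMap.toMatrix'_comp, h2, LinearMap.toMatrix'_id]
  let φ := algebraMap k B
  let R' : Matrix (Fin r) (Fin r) B := Y.map φ * R * X.map φ
  have key : R' = Y.map φ * R * e.map φ * X.map φ := by
    rw [← hXY, Matrix.map_mul]
    simp only [R', Matrix.mul_assoc]
    rw [← Matrix.map_mul (f := φ), hYX, Matrix.map_one _ (map_zero φ) (map_one φ), Matrix.mul_one]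
  have hR' : IsMat k R' := by
    refine ⟨fun i j => ?_, fun i j => ?_⟩
    · let iL : B →ₐ[k] B ⊗[k] B := Algebra.TensorProduct.includeLeft
      let iR : B →ₐ[k] B ⊗[k] B := Algebra.TensorProduct.includeRight
      have hcm : R.map (Bialgebra.comulAlgHom k B) = R.map iL * R.map iR := by
        ext a c
        simp [iL, iR, Matrix.mul_apply, hR.1]
      have hg : ∀ g : B →ₐ[k] B ⊗[k] B, R'.map g =
          Y.map (algebraMap k (B ⊗[k] B)) * R.map g * X.map (algebraMap k (B ⊗[k] B)) := fun g => by
        rw [Matrix.map_mul, Matrix.map_mul, map_map_algHom, map_map_algHom]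
      have hmain : R'.map (Bialgebra.comulAlgHom k B) = R'.map iL * R'.map iR := by
        have he1 : ∀ g : B →ₐ[k] B ⊗[k] B, e.map (algebraMap k (B ⊗[k] B)) * R.map g =
            R.map g * e.map (algebraMap k (B ⊗[k] B)) := fun g => by
          have := congrArg (fun M : Matrix ι ι B => M.map g) hc
          simpa only [Matrix.map_mul, map_map_algHom] using this
        rw [hg, hg, hg, hcm]
        simp only [Matrix.mul_assoc]
        congr 1
        conv_rhs => rw [← Matrix.mul_assoc (X.map _) (Y.map _), ← Matrix.map_mul, hXY,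
          ← Matrix.mul_assoc (e.map _), he1, Matrix.mul_assoc, ← Matrix.map_mul,
          show e * X = X by rw [← hXY, Matrix.mul_assoc, hYX, Matrix.mul_one]]
      have h3 := congrFun (congrFun hmain i) j
      simp only [Matrix.map_apply, Matrix.mul_apply, iL, iR, Algebra.TensorProduct.includeLeft_apply,
        Algebra.TensorProduct.includeRight_apply, Algebra.TensorProduct.tmul_mul_tmul, mul_one, one_mul] at h3
      exact h3
    · have hcu : R.map (Bialgebra.counitAlgHom k B) = 1 := by
        ext a c
        simp [hR.2, Matrix.one_apply]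
      have h3 : R'.map (Bialgebra.counitAlgHom k B) = 1 := by
        rw [Matrix.map_mul, Matrix.map_mul, hcu, map_map_algHom, map_map_algHom, Matrix.mul_one]
        simpa using hYX
      have h4 := congrFun (congrFun h3 i) j
      simpa [Matrix.one_apply] using h4
  have h := trace_mem hR'
  rwa [map_trace_mul, hXY] at h

end Mat

section Minors

variable {n : ℕ}

/-- The permutation of tensor factors. -/
def perm (k : Type u) [Field k] (n : ℕ) {m : ℕ} (σ : Equiv.Perm (Fin m)) :
    Matrix (Fin m → Fin n) (Fin m → Fin n) k := fun I J => if I ∘ σ = J then 1 else 0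

theorem perm_mul {m : ℕ} (σ τ : Equiv.Perm (Fin m)) : perm k n σ * perm k n τ = perm k n (σ * τ) := by
  ext I J
  rw [Matrix.mul_apply, Finset.sum_eq_single (I ∘ σ)]
  · simp [perm, Function.comp_assoc]
  · intro L _ hL
    simp [perm, Ne.symm hL]
  · simp

theorem perm_mul_apply {m : ℕ} (σ : Equiv.Perm (Fin m)) (R : Matrix (Fin m → Fin n) (Fin m → Fin n) B)
    (I J : Fin m → Fin n) : ((perm k n σ).map (algebraMap k B) * R) I J = R (I ∘ σ) J := by
  simp [perm, Matrix.mul_apply, apply_ite (algebraMap k B)]

theorem mul_perm_apply {m : ℕ} (σ : Equiv.Perm (Fin m)) (R : Matrix (Fin m → Fin n) (Fin m → Fin n) B)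
    (I J : Fin m → Fin n) : (R * (perm k n σ).map (algebraMap k B)) I J = R I (J ∘ σ.symm) := by
  simp [perm, Matrix.mul_apply, apply_ite (algebraMap k B), ← Equiv.eq_comp_symm]

theorem perm_comm_pw {m : ℕ} (σ : Equiv.Perm (Fin m)) (P : Matrix (Fin n) (Fin n) B) :
    (perm k n σ).map (algebraMap k B) * pw P m = pw P m * (perm k n σ).map (algebraMap k B) := by
  ext I J
  rw [perm_mul_apply, mul_perm_apply]
  exact Fintype.prod_equiv σ _ _ fun a => by simp

/-- The sum of all minors with possibly repeated indices. -/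
theorem sum_det_mem [CharZero k] {P : Matrix (Fin n) (Fin n) B} (hP : IsMat k P) (m : ℕ) :
    (m.factorial : k)⁻¹ • (∑ I : Fin m → Fin n, (P.submatrix I I).det) ∈ chars k B := by
  classical
  let s : Equiv.Perm (Fin m) → k := fun σ => ((Equiv.Perm.sign σ : ℤ) : k)
  let e₀ : Matrix (Fin m → Fin n) (Fin m → Fin n) k := ∑ σ, s σ • perm k n σ
  have hss : ∀ σ τ, s σ * s τ = s (σ * τ) := fun σ τ => by simp [s]
  have h0 : e₀ * e₀ = (m.factorial : k) • e₀ := by
    simp only [e₀, Finset.sum_mul, Finset.mul_sum, Matrix.smul_mul, Matrix.mul_smul, smul_smul, perm_mul, hss]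
    rw [show ∀ x : Matrix (Fin m → Fin n) (Fin m → Fin n) k, (m.factorial : k) • x =
      ∑ _σ : Equiv.Perm (Fin m), x from fun x => by
        rw [Finset.sum_const, Finset.card_univ, Fintype.card_perm, Fintype.card_fin, Nat.cast_smul_eq_nsmul]]
    refine Finset.sum_congr rfl fun σ _ => ?_
    refine Fintype.sum_equiv (Equiv.mulRight σ) _ _ fun x => ?_
    rw [show s (σ * x) = s (x * σ) by simp [s, mul_comm]]
    rfl
  have hne : (m.factorial : k) ≠ 0 := Nat.cast_ne_zero.2 m.factorial_ne_zero
  let e := (m.factorial : k)⁻¹ • e₀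
  have he : e * e = e := by
    simp only [e, Matrix.smul_mul, Matrix.mul_smul, h0, smul_smul]
    congr 1
    field_simp
  let φ := (Algebra.ofId k B).mapMatrix (m := Fin m → Fin n)
  have hφ : φ e = (m.factorial : k)⁻¹ • ∑ σ, s σ • φ (perm k n σ) := by
    simp only [e, e₀, map_smul, map_sum]
  have hc : φ e * pw P m = pw P m * φ e := by
    simp only [hφ, Matrix.smul_mul, Matrix.mul_smul, Finset.sum_mul, Finset.mul_sum]
    exact congrArg _ (Finset.sum_congr rfl fun σ _ => congrArg _ (perm_comm_pw σ P))
  have h := trace_idem_mem (isMat_pw hP m) e he hc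
  have e1 : (φ e * pw P m).trace = (m.factorial : k)⁻¹ • (∑ I : Fin m → Fin n, (P.submatrix I I).det) := by
    simp only [hφ, Matrix.smul_mul, Finset.sum_mul, Matrix.trace_smul, Matrix.trace_sum]
    congr 1
    simp only [Matrix.det_apply', Matrix.submatrix_apply]
    rw [Finset.sum_comm]
    refine Finset.sum_congr rfl fun σ _ => ?_
    rw [Matrix.trace, Finset.smul_sum]
    refine Finset.sum_congr rfl fun I _ => ?_
    rw [Matrix.diag_apply, Algebra.smul_def]
    congr 1
    · simp [s]
    · exact perm_mul_apply σ _ I I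
  rw [← e1]
  exact h

theorem sum_det_eq {R : Type*} [CommRing R] (P : Matrix (Fin n) (Fin n) R) (m : ℕ) :
    ∑ I : Fin m → Fin n, (P.submatrix I I).det =
      (m.factorial : R) * ∑ s ∈ Finset.univ.powersetCard m,
        (P.submatrix (Subtype.val : s → Fin n) (Subtype.val : s → Fin n)).det := by
  classical
  rw [Finset.mul_sum, ← Finset.sum_fiberwise Finset.univ (fun I : Fin m → Fin n => Finset.univ.image I)]
  rw [← Finset.sum_subset (Finset.subset_univ (Finset.univ.powersetCard m))]
  · refine Finset.sum_congr rfl fun s hs => ?_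
    have hcard : s.card = m := (Finset.mem_powersetCard.1 hs).2
    have hbij : ∀ I : Fin m → Fin n, Finset.univ.image I = s → Function.Injective I := fun I hI => by
      have := (Finset.card_image_iff (f := I) (s := Finset.univ)).1 (by rw [hI, hcard, Finset.card_univ, Fintype.card_fin])
      exact fun a b h => this (by simp) (by simp) h
    have hterm : ∀ I ∈ Finset.univ.filter (fun I : Fin m → Fin n => Finset.univ.image I = s),
        (P.submatrix I I).det = (P.submatrix (Subtype.val : s → Fin n) (Subtype.val : s → Fin n)).det := by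
      intro I hI
      have hI' := (Finset.mem_filter.1 hI).2
      let g : Fin m ≃ s := Equiv.ofBijective
        (fun a => ⟨I a, hI'.le (Finset.mem_image_of_mem I (Finset.mem_univ a))⟩)
        ⟨fun a b h => hbij I hI' (congrArg Subtype.val h), fun x => by
          obtain ⟨a, -, ha⟩ := Finset.mem_image.1 (hI'.ge x.2)
          exact ⟨a, Subtype.ext ha⟩⟩
      rw [show P.submatrix I I = (P.submatrix (Subtype.val : s → Fin n) (Subtype.val : s → Fin n)).submatrix g g
        from rfl, Matrix.det_submatrix_equiv_self]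
    rw [Finset.sum_congr rfl hterm, Finset.sum_const, nsmul_eq_mul]
    congr 2
    rw [← Fintype.card_subtype]
    let E : {I : Fin m → Fin n // Finset.univ.image I = s} ≃ (Fin m ≃ s) :=
      { toFun := fun I => Equiv.ofBijective
          (fun a => ⟨I.1 a, I.2.le (Finset.mem_image_of_mem I.1 (Finset.mem_univ a))⟩)
          ⟨fun a b h => hbij I.1 I.2 (congrArg Subtype.val h), fun x => by
            obtain ⟨a, -, ha⟩ := Finset.mem_image.1 (I.2.ge x.2)
            exact ⟨a, Subtype.ext ha⟩⟩
        invFun := fun g => ⟨fun a => (g a).1, by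
          ext x
          simp only [Finset.mem_image, Finset.mem_univ, true_and]
          exact ⟨fun ⟨a, ha⟩ => ha ▸ (g a).2, fun hx => ⟨g.symm ⟨x, hx⟩, by simp⟩⟩⟩
        left_inv := fun I => rfl
        right_inv := fun g => Equiv.ext fun a => rfl }
    rw [Fintype.card_congr E, Fintype.card_equiv ((Fintype.equivFinOfCardEq (by simpa using hcard)).symm),
      Fintype.card_fin]
  · intro s _ hs
    refine Finset.sum_eq_zero fun I hI => ?_
    have hI' := (Finset.mem_filter.1 hI).2
    obtain ⟨a, b, hab, hne⟩ : ∃ a b, I a = I b ∧ a ≠ b := by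
      by_contra hcon
      push Not at hcon
      exact hs (Finset.mem_powersetCard.2 ⟨Finset.subset_univ _, by
        rw [← hI', Finset.card_image_of_injective _ (fun a b h => hcon a b h), Finset.card_univ, Fintype.card_fin]⟩)
    exact Matrix.det_zero_of_row_eq hne (funext fun j => by simp [hab])

theorem charpoly_coeff_mem_span [CharZero k] {P : Matrix (Fin n) (Fin n) B} (hP : IsMat k P) (i : ℕ) :
    P.charpoly.coeff i ∈ Submodule.span k (chars k B) := by
  nontriviality B
  by_cases hi : n < i
  · rw [Polynomial.coeff_eq_zero_of_natDegree_lt (by rwa [Matrix.charpoly_natDegree_eq_dim, Fintype.card_fin])]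
    exact Submodule.zero_mem _
  obtain ⟨m, hm, rfl⟩ : ∃ m, m ≤ n ∧ n - m = i := ⟨n - i, by omega, by omega⟩
  have h := Matrix.charpoly_coeff_eq_sum_minors P m (by simpa using hm)
  rw [Fintype.card_fin] at h
  rw [h]
  have h2 : (∑ s ∈ Finset.univ.powersetCard m,
      (P.submatrix (Subtype.val : s → Fin n) (Subtype.val : s → Fin n)).det) ∈ Submodule.span k (chars k B) := by
    have h3 := Submodule.subset_span (R := k) (sum_det_mem hP m)
    rwa [sum_det_eq, ← nsmul_eq_mul, ← Nat.cast_smul_eq_nsmul k, smul_smul,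
      inv_mul_cancel₀ (Nat.cast_ne_zero.2 m.factorial_ne_zero), one_smul] at h3
  rcases neg_one_pow_eq_or B m with e | e
  · rw [e, one_mul]; exact h2
  · rw [e, neg_one_mul]; exact Submodule.neg_mem _ h2

end Minors

section Integral

variable {C₀ : Subalgebra k B}

theorem isIntegral_mul_of_comm {R S : Type*} [CommRing R] [Ring S] [Algebra R S] {x y : S} (h : x * y = y * x)
    (hx : IsIntegral R x) (hy : IsIntegral R y) : IsIntegral R (x * y) := by
  haveI : IsMulCommutative (Algebra.adjoin R ({x, y} : Set S)) := Algebra.isMulCommutative_adjoin R (by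
    rintro a (rfl | rfl) b (rfl | rfl)
    exacts [rfl, h, h.symm, rfl])
  open scoped IsMulCommutative in
  have h2 : IsIntegral R
      ((⟨x, Algebra.subset_adjoin (Or.inl rfl)⟩ : Algebra.adjoin R ({x, y} : Set S)) *
        ⟨y, Algebra.subset_adjoin (Or.inr rfl)⟩) :=
    IsIntegral.mul
      ((isIntegral_algHom_iff (Algebra.adjoin R ({x, y} : Set S)).val Subtype.coe_injective
        (x := ⟨x, Algebra.subset_adjoin (Or.inl rfl)⟩)).1 hx)
      ((isIntegral_algHom_iff (Algebra.adjoin R ({x, y} : Set S)).val Subtype.coe_injective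
        (x := ⟨y, Algebra.subset_adjoin (Or.inr rfl)⟩)).1 hy)
  exact h2.map (Algebra.adjoin R ({x, y} : Set S)).val

/-- The entries of integral multiplicative matrices. -/
def goodEntries (C₀ : Subalgebra k B) : Submonoid B where
  carrier := {b | ∃ (d : ℕ) (R : Matrix (Fin d) (Fin d) B) (i j : Fin d),
    IsMat k R ∧ IsIntegral C₀ R ∧ R i j = b}
  one_mem' := ⟨1, 1, 0, 0, ⟨fun i j => by
      obtain rfl := Subsingleton.elim i 0; obtain rfl := Subsingleton.elim j 0; simp [Algebra.TensorProduct.one_def],
    fun i j => by fin_cases i; fin_cases j; simp⟩, isIntegral_one, rfl⟩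
  mul_mem' := by
    rintro a b ⟨d, R, i, j, hR, hRi, rfl⟩ ⟨d', R', i', j', hR', hR'i, rfl⟩
    let E : Fin (d * d') ≃ Fin d × Fin d' := finProdFinEquiv.symm
    refine ⟨d * d', (kron R R').submatrix E E, E.symm (i, i'), E.symm (j, j'),
      isMat_submatrix (isMat_kron hR hR') E, ?_, by simp [kron]⟩
    have hk : IsIntegral C₀ (kron R R') := by
      let eL : Matrix (Fin d) (Fin d) B →ₐ[C₀] Matrix (Fin d × Fin d') (Fin d × Fin d') B :=
        AlgHom.ofLinearMap
          { toFun := fun M => kron M 1
            map_add' := fun M N => by ext a c; simp [kron, add_mul]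
            map_smul' := fun r M => by ext a c; simp [kron, mul_assoc, Algebra.smul_def] }
          (by ext a c; simp [kron, Matrix.one_apply, Prod.ext_iff]; split_ifs <;> simp_all)
          (fun M N => by
            ext a c
            simp only [LinearMap.coe_mk, AddHom.coe_mk, kron, Matrix.mul_apply, Fintype.sum_prod_type,
              Matrix.one_apply, mul_ite, mul_one, mul_zero, Finset.sum_ite_eq', ite_mul, zero_mul,
              Finset.sum_ite_eq, Finset.mem_univ, if_true, Finset.sum_mul]
            split_ifs <;> first | simp | rfl)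
      let eR : Matrix (Fin d') (Fin d') B →ₐ[C₀] Matrix (Fin d × Fin d') (Fin d × Fin d') B :=
        AlgHom.ofLinearMap
          { toFun := fun M => kron 1 M
            map_add' := fun M N => by ext a c; simp [kron, mul_add]
            map_smul' := fun r M => by ext a c; simp [kron, mul_left_comm, Algebra.smul_def] }
          (by ext a c; simp [kron, Matrix.one_apply, Prod.ext_iff]; split_ifs <;> simp_all)
          (fun M N => by
            ext a c
            simp only [LinearMap.coe_mk, AddHom.coe_mk, kron, Matrix.mul_apply, Fintype.sum_prod_type_right,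
              Matrix.one_apply, mul_ite, mul_one, mul_zero, Finset.sum_ite_eq', ite_mul, zero_mul, one_mul,
              Finset.sum_ite_eq, Finset.mem_univ, if_true, Finset.mul_sum]
            )
      have h1 : kron R R' = eL R * eR R' := by
        ext a c
        simp [eL, eR, kron, Matrix.mul_apply, Fintype.sum_prod_type, Matrix.one_apply]
      have h2 : eR R' * eL R = eL R * eR R' := by
        ext a c
        simp [eL, eR, kron, Matrix.mul_apply, Fintype.sum_prod_type, Matrix.one_apply, mul_comm]
      rw [h1]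
      exact isIntegral_mul_of_comm h2.symm (hRi.map eL) (hR'i.map eR)
    exact hk.map (Matrix.reindexAlgEquiv C₀ B E.symm).toAlgHom

variable (k B) in
/-- The convolution powers of the identity. -/
def psi : ℕ → (B →ₗ[k] B)
  | 0 => Algebra.linearMap k B ∘ₗ CoalgebraStruct.counit (R := k) (A := B)
  | t + 1 => LinearMap.mul' k B ∘ₗ (psi t).rTensor B ∘ₗ CoalgebraStruct.comul (R := k) (A := B)

theorem psi_entry {ι : Type w} [Fintype ι] [DecidableEq ι] {Q : Matrix ι ι B} (hQ : IsMat k Q) :
    ∀ (t : ℕ) (i j : ι), psi k B t (Q i j) = (Q ^ t) i j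
  | 0, i, j => by simp [psi, hQ.2, Matrix.one_apply, apply_ite (algebraMap k B)]
  | t + 1, i, j => by simp [psi, hQ.1, psi_entry hQ t, pow_succ, Matrix.mul_apply]

/-- Evaluation of a polynomial on the coordinate ring. -/
def phi (q : Polynomial C₀) : B →ₗ[k] B :=
  ∑ t ∈ q.support, (LinearMap.mulLeft k (q.coeff t : B)) ∘ₗ psi k B t

theorem phi_entry {ι : Type w} [Fintype ι] [DecidableEq ι] {Q : Matrix ι ι B} (hQ : IsMat k Q)
    (q : Polynomial C₀) (i j : ι) : phi q (Q i j) = (Polynomial.aeval Q q) i j := by
  rw [Polynomial.aeval_eq_sum_range' (Nat.lt_succ_self _) Q, Matrix.sum_apply]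
  simp only [phi, LinearMap.sum_apply, LinearMap.comp_apply, LinearMap.mulLeft_apply, psi_entry hQ,
    Matrix.smul_apply]
  refine (Finset.sum_subset (Polynomial.supp_subset_range (Nat.lt_succ_self _)) fun t _ ht => ?_).trans
    (Finset.sum_congr rfl fun t _ => rfl)
  rw [Polynomial.notMem_support_iff.1 ht]
  simp

theorem isIntegral_of_span (hspan : Submodule.span k (goodEntries C₀ : Set B) = ⊤)
    {ι : Type w} [Fintype ι] [DecidableEq ι] {Q : Matrix ι ι B} (hQ : IsMat k Q) : IsIntegral C₀ Q := by
  classical
  have hK : ∀ b : B, ∃ q : Polynomial C₀, q.Monic ∧ ∀ q', q ∣ q' → phi q' b = 0 := by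
    intro b
    have hb : b ∈ Submodule.span k (goodEntries C₀ : Set B) := hspan ▸ Submodule.mem_top
    induction hb using Submodule.span_induction with
    | mem x hx =>
      obtain ⟨d, R, i, j, hR, ⟨q, hqm, hq⟩, rfl⟩ := hx
      refine ⟨q, hqm, fun q' ⟨r, hr⟩ => ?_⟩
      rw [phi_entry hR, hr, map_mul, show Polynomial.aeval R q = 0 from hq, zero_mul]
      rfl
    | zero => exact ⟨1, Polynomial.monic_one, fun q' _ => map_zero _⟩
    | add x y _ _ hx hy =>
      obtain ⟨q, hqm, hq⟩ := hx
      obtain ⟨r, hrm, hr⟩ := hy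
      exact ⟨q * r, hqm.mul hrm, fun q' h => by
        rw [map_add, hq q' ((dvd_mul_right q r).trans h), hr q' ((dvd_mul_left r q).trans h), add_zero]⟩
    | smul c x _ hx =>
      obtain ⟨q, hqm, hq⟩ := hx
      exact ⟨q, hqm, fun q' h => by rw [map_smul, hq q' h, smul_zero]⟩
  choose q hqm hq using fun p : ι × ι => hK (Q p.1 p.2)
  refine ⟨∏ p, q p, Polynomial.monic_prod_of_monic _ _ fun p _ => hqm p, ?_⟩
  change Polynomial.aeval Q (∏ p, q p) = 0
  ext i j
  rw [← phi_entry hQ, hq (i, j) _ (Finset.dvd_prod_of_mem q (Finset.mem_univ _))]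
  rfl

theorem isIntegral_trace {R K : Type*} [CommRing R] [Field K] [Algebra R K] {ι : Type w} [Fintype ι]
    [DecidableEq ι] (N : Matrix ι ι K) (hN : IsIntegral R N) : IsIntegral R N.trace := by
  cases isEmpty_or_nonempty ι
  · simp [Matrix.trace, isIntegral_zero]
  let L := AlgebraicClosure K
  let g : K →ₐ[R] L := IsScalarTower.toAlgHom R K L
  rw [← isIntegral_algHom_iff g (RingHom.injective _),
    show g N.trace = (g.mapMatrix N).trace from AddMonoidHom.map_trace (g : K →+ L) N,
    Matrix.trace_eq_sum_roots_charpoly]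
  obtain ⟨q, hqm, hq⟩ := hN.map g.mapMatrix
  refine IsIntegral.multiset_sum fun x hx => ⟨q, hqm, ?_⟩
  have hsp : x ∈ spectrum L (g.mapMatrix N) :=
    Matrix.mem_spectrum_iff_isRoot_charpoly.2 (Polynomial.isRoot_of_mem_roots hx)
  have h1 := spectrum.subset_polynomial_aeval (g.mapMatrix N) (q.map (algebraMap R L))
    ⟨x, hsp, rfl⟩
  rw [Polynomial.aeval_map_algebraMap, show Polynomial.aeval (g.mapMatrix N) q = 0 from hq, spectrum.zero_eq,
    Set.mem_singleton_iff] at h1
  simpa [Polynomial.eval_map] using h1

theorem fg_span_chars [IsReduced B] [Algebra.FiniteType k B] (C₀ : Subalgebra k B) (hC : C₀.FG)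
    (hspan : Submodule.span k (goodEntries C₀ : Set B) = ⊤) :
    (Submodule.span C₀ (chars k B)).FG := by
  classical
  haveI : Algebra.FiniteType k C₀ := C₀.fg_iff_finiteType.1 hC
  have hk : CAlg.IsNagata k := ⟨inferInstance, fun p hp =>
    Lib.Excellent.Nagata.isN2_of_isField ((Ideal.Quotient.maximal_ideal_iff_isField_quotient p).1
      (((Ideal.eq_bot_or_top p).resolve_right hp.ne_top).symm ▸ Ideal.bot_isMaximal))⟩
  have hN : CAlg.IsNagata C₀ := Lib.Cohen.NagataFiniteType.isNagata_of_finiteType hk
  haveI : IsNoetherianRing C₀ := hN.1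
  haveI : Algebra.FiniteType C₀ B := Algebra.FiniteType.of_restrictScalars_finiteType k C₀ B
  haveI : IsNoetherianRing B := Algebra.FiniteType.isNoetherianRing k B
  let Pr := {p : Ideal B // p ∈ minimalPrimes B}
  haveI : Finite Pr := (minimalPrimes.finite_of_isNoetherianRing B).to_subtype
  haveI : ∀ p : Pr, p.1.IsPrime := fun p => p.2.1.1
  haveI : ∀ p : Pr, Algebra.EssFiniteType C₀ p.1.ResidueField := fun p =>
    Algebra.EssFiniteType.comp C₀ B _
  haveI : ∀ p : Pr, Module.Finite C₀ (integralClosure C₀ p.1.ResidueField) := fun p =>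
    Lib.Normalization.Relative.finite_integralClosure_field hN
  have hint : ∀ (p : Pr) (x : B), x ∈ Submodule.span C₀ (chars k B) →
      algebraMap B p.1.ResidueField x ∈ integralClosure C₀ p.1.ResidueField := by
    intro p x hx
    induction hx using Submodule.span_induction with
    | mem x hx =>
      obtain ⟨d, Q, hQ, rfl⟩ := hx
      let g : B →ₐ[C₀] p.1.ResidueField := IsScalarTower.toAlgHom C₀ B _
      have h : IsIntegral C₀ (g.mapMatrix Q) := (isIntegral_of_span hspan hQ).map g.mapMatrix
      change IsIntegral C₀ (g Q.trace)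
      rw [show g Q.trace = (g.mapMatrix Q).trace from AddMonoidHom.map_trace (g : B →+ p.1.ResidueField) Q]
      exact isIntegral_trace _ h
    | zero => simp
    | add x y _ _ hx hy => rw [map_add]; exact add_mem hx hy
    | smul c x _ hx =>
      rw [Algebra.smul_def, map_mul]
      exact mul_mem ((IsScalarTower.algebraMap_apply C₀ B p.1.ResidueField c) ▸ isIntegral_algebraMap) hx
  let f : Submodule.span C₀ (chars k B) →ₗ[C₀] (∀ p : Pr, integralClosure C₀ p.1.ResidueField) :=
    LinearMap.pi fun p =>
      { toFun := fun x => ⟨algebraMap B p.1.ResidueField x, hint p x x.2⟩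
        map_add' := fun x y => Subtype.ext (map_add _ _ _)
        map_smul' := fun c x => Subtype.ext
          ((IsScalarTower.toAlgHom C₀ B p.1.ResidueField).toLinearMap.map_smul c (x : B)) }
  haveI : Finite Pr := inferInstance
  haveI := Fintype.ofFinite Pr
  have hf : Function.Injective f := by
    rw [← LinearMap.ker_eq_bot, LinearMap.ker_eq_bot']
    intro x hx
    refine Subtype.ext ((IsReduced.eq_zero _ ?_) : (x : B) = 0)
    rw [← mem_nilradical, nilradical_eq_sInf, Submodule.mem_sInf]
    intro P hP
    change Ideal B at P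
    haveI hPp : Ideal.IsPrime P := hP
    obtain ⟨p, hp, hpP⟩ := Ideal.exists_minimalPrimes_le (I := (⊥ : Ideal B)) (J := P) bot_le
    haveI : p.IsPrime := hp.1.1
    refine hpP ?_
    have h1 : algebraMap B p.ResidueField (x : B) = 0 :=
      congrArg Subtype.val (congrFun hx ⟨p, hp⟩)
    rwa [← RingHom.mem_ker, Ideal.ker_algebraMap_residueField] at h1
  exact Module.Finite.iff_fg.1 (Module.Finite.of_injective f hf)

end Integral

section Main

variable [CharZero k] [IsAlgClosed k]

theorem main {A : Type u} [CommRing A] [HopfAlgebra k A] [Algebra.FiniteType k B]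
    (π : A →ₐc[k] B) {n : ℕ} (φ : CoordGrp.GLn n k →ₐc[k] A)
    (hφ : Function.Surjective φ) (hπ : Function.Surjective π) :
    ∃ F : Finset B, (↑F : Set B) ⊆ chars k B ∧
      (↑(Submodule.span k (chars k B)) : Set B) ⊆
        ↑(Submodule.span (Algebra.adjoin k (π '' chars k A)) (↑F : Set B)) := by
  classical
  haveI : IsReduced B := Lib.Comod.Cartier.isReduced (k := k)
  let C := Algebra.adjoin k (π '' chars k A)
  let P : Matrix (Fin n) (Fin n) A := (CoordGrp.GLn.genMat n k).map φ
  have hP : IsMat k P := isMat_map H66.GLnLR.isMat_gl φ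
  let D : A := φ CoordGrp.GLn.Dinv
  have hD : IsMat k (Matrix.diagonal fun _ : Fin 1 => D) := by
    have hg := (H66.GLnLR.isGroupLike_Dinv (n := n) (k := k)).map φ
    refine ⟨fun i j => ?_, fun i j => ?_⟩ <;> fin_cases i <;> fin_cases j <;>
      simp [hg.comul_eq_tmul_self, hg.counit_eq_one, D]
  have hcoef : ∀ i, π (P.charpoly.coeff i) ∈ C := by
    intro i
    have h := Submodule.mem_map_of_mem (f := (π : A →ₗ[k] B)) (charpoly_coeff_mem_span hP i)
    rw [Submodule.map_span] at h
    exact Algebra.span_le_adjoin k _ h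
  have hDC : π D ∈ C := by
    refine Algebra.subset_adjoin ⟨D, ?_, rfl⟩
    simpa [Matrix.trace] using trace_mem hD
  let S : Finset B := insert (π D) ((Finset.range (n + 1)).image fun i => π (P.charpoly.coeff i))
  let C₀ := Algebra.adjoin k (S : Set B)
  have hle : C₀ ≤ C := Algebra.adjoin_le fun x hx => by
    simp only [S, Finset.coe_insert, Finset.coe_image, Set.mem_insert_iff, Set.mem_image] at hx
    rcases hx with rfl | ⟨i, -, rfl⟩
    exacts [hDC, hcoef i]
  have hDg : π D ∈ goodEntries C₀ := by
    refine ⟨1, (Matrix.diagonal fun _ : Fin 1 => D).map π, 0, 0, isMat_map hD π, ?_, by simp⟩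
    rw [show (Matrix.diagonal fun _ : Fin 1 => D).map π =
      algebraMap C₀ _ ⟨π D, Algebra.subset_adjoin (by simp [S])⟩ from by
        ext a c; fin_cases a; fin_cases c; simp [Matrix.algebraMap_matrix_apply]]
    exact isIntegral_algebraMap
  have hPint : IsIntegral C₀ (P.map π) := by
    haveI : Nontrivial A := RingHom.domain_nontrivial (Bialgebra.counitAlgHom k A).toRingHom
    have hc : ∀ i, π (P.charpoly.coeff i) ∈ C₀ := by
      intro i
      by_cases hi : i < n + 1
      · exact Algebra.subset_adjoin (by simp [S]; exact Or.inr ⟨i, by omega, rfl⟩)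
      · rw [Polynomial.coeff_eq_zero_of_natDegree_lt
          (by rw [Matrix.charpoly_natDegree_eq_dim, Fintype.card_fin]; omega), map_zero]
        exact zero_mem _
    haveI : Nontrivial B := RingHom.domain_nontrivial (Bialgebra.counitAlgHom k B).toRingHom
    have hl : (P.map π).charpoly ∈ Polynomial.lifts (algebraMap C₀ B) := by
      rw [Polynomial.lifts_iff_coeff_lifts]
      intro i
      refine ⟨⟨π (P.charpoly.coeff i), hc i⟩, ?_⟩
      rw [show P.map π = P.map ((π : A →ₐ[k] B) : A →+* B) from rfl, Matrix.charpoly_map, Polynomial.coeff_map]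
      rfl
    obtain ⟨q, hq, -, hqm⟩ := Polynomial.lifts_and_degree_eq_and_monic hl (Matrix.charpoly_monic _)
    refine ⟨q, hqm, ?_⟩
    change Polynomial.aeval (P.map π) q = 0
    rw [← Polynomial.aeval_map_algebraMap B, hq, Matrix.aeval_self_charpoly]
  have hspan : Submodule.span k (goodEntries C₀ : Set B) = ⊤ := by
    rw [eq_top_iff]
    intro b hb
    clear hb
    obtain ⟨a, rfl⟩ := hπ b
    obtain ⟨x, rfl⟩ := hφ a
    obtain ⟨c, f, rfl⟩ := H66.GLnLR.gl_span x
    have hadj : Subalgebra.toSubmodule (Algebra.adjoin k (goodEntries C₀ : Set B)) =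
        Submodule.span k (goodEntries C₀ : Set B) := by
      rw [Algebra.adjoin_eq_span, Submonoid.closure_eq]
    rw [← hadj, Subalgebra.mem_toSubmodule]
    simp only [map_mul, map_pow]
    refine mul_mem (pow_mem (Algebra.subset_adjoin hDg) c) ?_
    induction f using MvPolynomial.induction_on with
    | C r =>
      rw [MvPolynomial.aeval_C, AlgHomClass.commutes, AlgHomClass.commutes]
      exact Subalgebra.algebraMap_mem _ r
    | add p q hp hq => simp only [map_add]; exact add_mem hp hq
    | mul_X p s hp =>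
      simp only [map_mul, MvPolynomial.aeval_X]
      exact mul_mem hp (Algebra.subset_adjoin ⟨n, P.map π, s.1, s.2, isMat_map hP π, hPint, rfl⟩)
  obtain ⟨F, hF, hFs⟩ :=
    (Submodule.fg_span_iff_fg_span_finset_subset (R := C₀) (chars k B)).1
      (fg_span_chars C₀ ⟨S, rfl⟩ hspan)
  refine ⟨F, hF, fun x hx => ?_⟩
  have key : ∀ y, y ∈ Submodule.span C₀ (F : Set B) → y ∈ Submodule.span C (F : Set B) := by
    intro y hy
    induction hy using Submodule.span_induction with
    | mem y hy => exact Submodule.subset_span hy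
    | zero => exact zero_mem _
    | add y z _ _ hy hz => exact add_mem hy hz
    | smul c y _ hy => exact Submodule.smul_mem _ (⟨c.1, hle c.2⟩ : C) hy
  refine key x (hFs ▸ ?_)
  exact Submodule.span_subset_span k C₀ _ hx

end Main

end

end Groth.Agent.H66.CharFinite
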