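import Groth.Agent.H66.Coeff
import Groth.Agent.H66.MatComod
import Groth.Agent.H66.Kolchin
import Groth.Agent.H66.Base
import Groth.Agent.Lib.Comod.Basic
import Groth.Prelude.Def_HopfRep
import Mathlib

/-!
Class functions of a linearly reductive group are the combinations of characters.
-/

set_option autoImplicit false
set_option linter.unusedSectionVars false
set_option linter.style.haveILetI false
universe u w

namespace Groth.Agent.H66.ClassFun

open TensorProduct Groth.Agent.Lib.Comod.Basic Groth.Agent.H66.Coeff Groth.Agent.H66.DualMod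

noncomputable section

variable {k : Type u} [Field k] {A : Type u} [CommRing A] [HopfAlgebra k A]

/-- Cocommutative elements. -/
def IsCocommElem (k : Type u) [Field k] {A : Type u} [CommRing A] [HopfAlgebra k A] (f : A) : Prop :=
  TensorProduct.comm k A A (CoalgebraStruct.comul (R := k) f) = CoalgebraStruct.comul (R := k) f

/-- The character of a comodule on a coordinate space. -/
def chr {d : ℕ} (c : HopfRep.Comod k A (Fin d → k)) : A :=
  letI := c
  ∑ i : Fin d, coeff (C := A) (LinearMap.proj i) (Pi.single i 1 : Fin d → k)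

section Coordinates

variable {d : ℕ} [HopfRep.Comod k A (Fin d → k)]

/-- The matrix of a comodule on a coordinate space. -/
def entry (i j : Fin d) : A := coeff (C := A) (LinearMap.proj i) (Pi.single j 1 : Fin d → k)

theorem coact_single (j : Fin d) :
    HopfRep.Comod.coact (k := k) (A := A) (Pi.single j 1 : Fin d → k) =
      ∑ i, (Pi.single i 1 : Fin d → k) ⊗ₜ[k] entry (k := k) (A := A) i j := by
  simp only [entry, coeff_apply]
  induction HopfRep.Comod.coact (k := k) (A := A) (Pi.single j 1 : Fin d → k) using TensorProduct.induction_on with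
  | zero => simp
  | add p q hp hq => simp only [map_add, TensorProduct.tmul_add, Finset.sum_add_distrib, ← hp, ← hq]
  | tmul v a =>
    simp only [LinearMap.rTensor_tmul, TensorProduct.lid_tmul, LinearMap.proj_apply, ← TensorProduct.smul_tmul,
      ← TensorProduct.sum_tmul]
    congr 1
    ext l
    simp [Finset.sum_apply, Pi.single_apply]

theorem comul_entry (i j : Fin d) :
    CoalgebraStruct.comul (R := k) (entry (k := k) (A := A) i j) =
      ∑ l, entry (k := k) (A := A) i l ⊗ₜ[k] entry (k := k) (A := A) l j := by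
  conv_lhs => rw [entry, comul_coeff, coact_single, map_sum]
  rfl

theorem counit_entry (i j : Fin d) :
    CoalgebraStruct.counit (R := k) (entry (k := k) (A := A) i j) = if i = j then (1 : k) else 0 := by
  rw [entry, counit_coeff]
  simp [Pi.single_apply]

theorem cocomm_chr : IsCocommElem k (chr (k := k) (A := A) ‹HopfRep.Comod k A (Fin d → k)›) := by
  show TensorProduct.comm k A A (CoalgebraStruct.comul (R := k) (∑ i, entry (k := k) (A := A) i i)) =
    CoalgebraStruct.comul (R := k) (∑ i, entry (k := k) (A := A) i i)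
  simp only [map_sum, comul_entry, TensorProduct.comm_tmul]
  exact Finset.sum_comm

theorem chr_mem_coeffSpace : chr (k := k) (A := A) ‹HopfRep.Comod k A (Fin d → k)› ∈ coeffSpace k A (Fin d → k) :=
  Submodule.sum_mem _ fun _ _ => coeff_mem _ _

theorem counit_chr : CoalgebraStruct.counit (R := k) (chr (k := k) (A := A) ‹HopfRep.Comod k A (Fin d → k)›) = (d : k) := by
  show CoalgebraStruct.counit (R := k) (∑ i, entry (k := k) (A := A) i i) = _
  simp [counit_entry]

theorem coeffSpace_le_span :
    coeffSpace k A (Fin d → k) ≤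
      Submodule.span k (Set.range fun p : Fin d × Fin d => entry (k := k) (A := A) p.1 p.2) := by
  refine iSup_le fun φ => ?_
  rintro _ ⟨v, rfl⟩
  have hφ : φ = ∑ i, φ (Pi.single i 1) • (LinearMap.proj i : (Fin d → k) →ₗ[k] k) := by
    refine (Pi.basisFun k (Fin d)).ext fun j => ?_
    simp [LinearMap.sum_apply, Pi.single_apply]
  have hv : v = ∑ j, v j • (Pi.single j 1 : Fin d → k) := by
    funext l; simp [Finset.sum_apply, Pi.single_apply]
  have hlin : ∀ (x : (Fin d → k)), coeff (C := A) φ x =
      ∑ i, φ (Pi.single i 1) • coeff (C := A) (LinearMap.proj i) x := by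
    intro x
    simp only [coeff_apply]
    conv_lhs => rw [hφ]
    induction HopfRep.Comod.coact (k := k) (A := A) x using TensorProduct.induction_on with
    | zero => simp
    | add p q hp hq => simp only [map_add, smul_add, Finset.sum_add_distrib, hp, hq]
    | tmul w a => simp [LinearMap.sum_apply, Finset.sum_smul, smul_smul]
  rw [hlin]
  refine Submodule.sum_mem _ fun i _ => Submodule.smul_mem _ _ ?_
  rw [hv, map_sum]
  refine Submodule.sum_mem _ fun j _ => ?_
  rw [map_smul]
  exact Submodule.smul_mem _ _ (Submodule.subset_span ⟨(i, j), rfl⟩)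

/-- The operator of a functional as a matrix. -/
theorem dact_single (u : A →ₗ[k] k) (j : Fin d) :
    dact (Fin d → k) u (Pi.single j 1 : Fin d → k) = fun i => u (entry (k := k) (A := A) i j) := by
  rw [dact_apply, coact_single, map_sum]
  funext i
  simp [Finset.sum_apply, contract_tmul, Pi.single_apply]

/-- The entries of a simple comodule over an algebraically closed field are independent. -/
theorem linearIndependent_entry [IsAlgClosed k] (hV : HopfRep.IsSimpleComod k A (Fin d → k)) :
    LinearIndependent k (fun p : Fin d × Fin d => entry (k := k) (A := A) p.1 p.2) := by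
  classical
  haveI := hV.1
  let L : (A →ₗ[k] k) →ₗ[k] Module.End k (Fin d → k) :=
    { toFun := fun u => dact (Fin d → k) u
      map_add' := dact_add _
      map_smul' := dact_smul _ }
  let B : Subalgebra k (Module.End k (Fin d → k)) :=
    (LinearMap.range L).toSubalgebra ⟨CoalgebraStruct.counit, dact_counit _⟩ (by
      rintro _ _ ⟨φ, rfl⟩ ⟨ψ, rfl⟩
      exact ⟨conv φ ψ, LinearMap.ext fun v => (dact_dact (Fin d → k) φ ψ v).symm⟩)
  have hB : B = ⊤ := H66.Kolchin.burnside B fun U hU =>
    hV.2 U ((isSubcomod_iff U).2 fun φ v hv => hU _ ⟨φ, rfl⟩ v hv)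
  refine Fintype.linearIndependent_iff.2 fun c hc q => ?_
  obtain ⟨i, j⟩ := q
  let E : Module.End k (Fin d → k) := (LinearMap.proj j).smulRight (Pi.single i 1 : Fin d → k)
  obtain ⟨u, hu⟩ := (hB ▸ Algebra.mem_top : E ∈ B)
  have hval : ∀ a b, u (entry (k := k) (A := A) a b) = if a = i ∧ b = j then 1 else 0 := by
    intro a b
    have h := congrFun (LinearMap.congr_fun hu (Pi.single b 1 : Fin d → k)) a
    have h' : dact (Fin d → k) u (Pi.single b 1 : Fin d → k) a = E (Pi.single b 1) a := h
    rw [dact_single] at h'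
    refine h'.trans ?_
    simp only [E, LinearMap.smulRight_apply, LinearMap.proj_apply, Pi.smul_apply, smul_eq_mul, Pi.single_apply]
    by_cases ha : a = i <;> by_cases hb : b = j <;> simp [ha, hb, Ne.symm, eq_comm]
  have h := congrArg u hc
  simpa [map_sum, hval, Fintype.sum_prod_type, ite_and] using h

/-- A cocommutative element of a simple matrix coalgebra is a multiple of the trace. -/
theorem eq_smul_chr [IsAlgClosed k] (hV : HopfRep.IsSimpleComod k A (Fin d → k)) {g : A}
    (hg : g ∈ coeffSpace k A (Fin d → k)) (hgc : IsCocommElem k g) :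
    ∃ s : k, g = s • chr (k := k) (A := A) ‹HopfRep.Comod k A (Fin d → k)› := by
  classical
  obtain ⟨c, rfl⟩ := Submodule.mem_span_range_iff_exists_fun k |>.1 (coeffSpace_le_span hg)
  have hli := linearIndependent_entry hV
  obtain ⟨l₀⟩ : Nonempty (Fin d) := by
    haveI := hV.1
    by_contra h
    haveI := not_nonempty_iff.1 h
    exact false_of_nontrivial_of_subsingleton (Fin d → k)
  obtain ⟨dual, hdual⟩ : ∃ dual : Fin d × Fin d → (A →ₗ[k] k),
      ∀ p q : Fin d × Fin d, dual p (entry (k := k) (A := A) q.1 q.2) = if q = p then 1 else 0 := by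
    obtain ⟨l, hl⟩ := (Fintype.linearCombination k fun p : Fin d × Fin d =>
      entry (k := k) (A := A) p.1 p.2).exists_leftInverse_of_injective
        (LinearMap.ker_eq_bot.2 (by
          intro x y hxy
          exact funext fun p => (Fintype.linearIndependent_iffₛ.1 hli) x y hxy p))
    refine ⟨fun p => LinearMap.proj p ∘ₗ l, fun p q => ?_⟩
    have h := LinearMap.congr_fun hl (Pi.single q 1)
    simp only [LinearMap.comp_apply, Fintype.linearCombination_apply_single, one_smul, LinearMap.id_apply] at h
    simp [h, Pi.single_apply, eq_comm]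
  have key : ∀ a b : Fin d × Fin d,
      (if a.2 = b.1 then c (a.1, b.2) else 0) = if b.2 = a.1 then c (b.1, a.2) else 0 := by
    intro a b
    let T : A ⊗[k] A →ₗ[k] k := LinearMap.mul' k k ∘ₗ TensorProduct.map (dual a) (dual b)
    have h : TensorProduct.comm k A A (CoalgebraStruct.comul (R := k) (∑ p, c p • entry (k := k) (A := A) p.1 p.2)) =
        CoalgebraStruct.comul (R := k) (∑ p, c p • entry (k := k) (A := A) p.1 p.2) := hgc
    have h' := congrArg T h
    simp only [map_sum, map_smul, comul_entry, TensorProduct.comm_tmul, T, LinearMap.comp_apply,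
      TensorProduct.map_tmul, LinearMap.mul'_apply, hdual, smul_eq_mul, Fintype.sum_prod_type] at h'
    obtain ⟨a1, a2⟩ := a
    obtain ⟨b1, b2⟩ := b
    have hd' : ∀ p i j, dual p (entry (k := k) (A := A) i j) = if (i, j) = p then 1 else 0 := fun p i j => hdual p (i, j)
    simp only [hd', Prod.mk.injEq, ite_and, ite_mul, mul_ite, one_mul, mul_one, zero_mul, mul_zero,
      Finset.mul_sum] at h'
    simp only [Finset.sum_ite_irrel, Finset.sum_ite_eq', Finset.sum_const_zero, Finset.mem_univ, if_true] at h'
    show (if a2 = b1 then c (a1, b2) else 0) = if b2 = a1 then c (b1, a2) else 0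
    rw [h']
    simp [eq_comm]
  refine ⟨c (l₀, l₀), ?_⟩
  have hoff : ∀ i j, i ≠ j → c (i, j) = 0 := fun i j hij => by
    have h := key (i, i) (i, j)
    simpa [hij.symm] using h
  have hdiag : ∀ i, c (i, i) = c (l₀, l₀) := fun i => by
    have h := key (i, l₀) (l₀, i)
    simpa using h
  show _ = _ • ∑ i, entry (k := k) (A := A) i i
  rw [Finset.smul_sum, Fintype.sum_prod_type]
  refine Finset.sum_congr rfl fun i _ => ?_
  rw [Finset.sum_eq_single i (fun j _ hj => by simp [hoff i j hj.symm]) (fun h => absurd (Finset.mem_univ i) h)]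
  exact congrArg (· • entry (k := k) (A := A) i i) (hdiag i)

end Coordinates

section Projections

/-- Simple subcoalgebras which differ are disjoint. -/
theorem disjoint_of_ne {D D' : Submodule k A} (hD : IsSimpleSubcoalg D) (hD' : IsSimpleSubcoalg D') (hne : D ≠ D') :
    Disjoint D D' := by
  rw [disjoint_iff]
  by_contra h
  obtain ⟨E, h1, h2, h3, -, -⟩ :=
    exists_simple_le (isSubcomod_inf hD.2.1.isSubcomod hD'.2.1.isSubcomod) h
  exact hne ((coeffSpace_subComod_eq hD h3 h2 (h1.trans inf_le_left)).symm.trans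
    (coeffSpace_subComod_eq hD' h3 h2 (h1.trans inf_le_right)))

/-- A functional which is the counit on one subspace and zero on a disjoint one. -/
theorem exists_functional {D D' : Submodule k A} (hd : Disjoint D D') :
    ∃ u : A →ₗ[k] k, (∀ x ∈ D, u x = CoalgebraStruct.counit (R := k) x) ∧ ∀ x ∈ D', u x = 0 := by
  have hinj : LinearMap.ker (D'.mkQ ∘ₗ D.subtype) = ⊥ := by
    refine LinearMap.ker_eq_bot'.2 fun x hx => ?_
    have hx' : (x : A) ∈ D' := (Submodule.Quotient.mk_eq_zero D').1 hx
    exact Subtype.ext (Submodule.disjoint_def.1 hd x x.2 hx')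
  obtain ⟨l, hl⟩ := (D'.mkQ ∘ₗ D.subtype).exists_leftInverse_of_injective hinj
  refine ⟨CoalgebraStruct.counit ∘ₗ D.subtype ∘ₗ l ∘ₗ D'.mkQ, fun x hx => ?_, fun x hx => ?_⟩
  · show CoalgebraStruct.counit (R := k) ((l (D'.mkQ x) : D) : A) = _
    rw [show l (D'.mkQ x) = (⟨x, hx⟩ : D) from LinearMap.congr_fun hl ⟨x, hx⟩]
  · show CoalgebraStruct.counit (R := k) ((l (D'.mkQ x) : D) : A) = _
    rw [show D'.mkQ x = 0 from (Submodule.Quotient.mk_eq_zero D').2 hx]
    simp

/-- On a subcoalgebra the operator of a functional only depends on its restriction. -/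
theorem dact_congr_on {D : Submodule k A} (hD : IsSubcoalg D) {u u' : A →ₗ[k] k} (h : ∀ x ∈ D, u x = u' x) {x : A}
    (hx : x ∈ D) : dact A u x = dact A u' x := by
  obtain ⟨z, hz⟩ := hD.mem_range_lTensor hx
  rw [dact_apply, dact_apply, show HopfRep.Comod.coact (k := k) (A := A) x = D.subtype.lTensor A z from hz.symm]
  clear hz
  induction z using TensorProduct.induction_on with
  | zero => simp
  | add p q hp hq => simp only [map_add, hp, hq]
  | tmul a b => simp [contract_tmul, h b b.2]

/-- A projection on one of finitely many simple subcoalgebras. -/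
theorem exists_proj (D : Submodule k A) (hD : IsSimpleSubcoalg D) (F : Finset (Submodule k A))
    (hF : ∀ D' ∈ F, IsSimpleSubcoalg D' ∧ D' ≠ D) :
    ∃ P : A →ₗ[k] A, (∀ x ∈ D, P x = x) ∧ (∀ D' ∈ F, ∀ x ∈ D', P x = 0) ∧
      ∀ B : Submodule k A, IsSubcoalg B → ∀ x ∈ B, P x ∈ B := by
  classical
  induction F using Finset.induction with
  | empty => exact ⟨LinearMap.id, fun x _ => rfl, fun D' h => absurd h (Finset.notMem_empty _), fun B _ x hx => hx⟩
  | insert D₁ F hnot ih =>
    obtain ⟨P, hP1, hP2, hP3⟩ := ih fun D' h => hF D' (Finset.mem_insert_of_mem h)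
    obtain ⟨h1, hne⟩ := hF D₁ (Finset.mem_insert_self D₁ F)
    obtain ⟨u, hu1, hu0⟩ := exists_functional (disjoint_of_ne hD h1 (Ne.symm hne))
    refine ⟨dact A u ∘ₗ P, fun x hx => ?_, fun D' hD' x hx => ?_,
      fun B hB x hx => dact_mem hB.isSubcomod u (hP3 B hB x hx)⟩
    · rw [LinearMap.comp_apply, hP1 x hx, dact_congr_on hD.2.1 hu1 hx, dact_counit_apply]
    · rw [LinearMap.comp_apply]
      rcases Finset.mem_insert.1 hD' with rfl | h'
      · rw [dact_congr_on h1.2.1 (u' := 0) hu0 (hP3 _ h1.2.1 x hx), dact_apply]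
        simp [contract]
      · rw [hP2 D' h' x hx, map_zero]

end Projections

/-- Characters of pairwise non-isomorphic simple comodules are independent in characteristic zero. -/
theorem linearIndependent_chr [CharZero k] {n : ℕ} (d : Fin n → ℕ) (c : ∀ i, HopfRep.Comod k A (Fin (d i) → k))
    (hs : ∀ i, @HopfRep.IsSimpleComod k A _ _ _ _ (Fin (d i) → k) _ _ (c i))
    (hni : ∀ i j, i ≠ j → ∀ P : (Fin (d i) → k) ≃ₗ[k] (Fin (d j) → k),
      LinearMap.rTensor A P.toLinearMap ∘ₗ @HopfRep.Comod.coact k A _ _ _ _ (Fin (d i) → k) _ _ (c i) ≠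
        (@HopfRep.Comod.coact k A _ _ _ _ (Fin (d j) → k) _ _ (c j)) ∘ₗ P.toLinearMap) :
    LinearIndependent k fun i => chr (c i) := by
  classical
  let D : Fin n → Submodule k A := fun i => letI := c i; coeffSpace k A (Fin (d i) → k)
  have hD : ∀ i, IsSimpleSubcoalg (D i) := fun i => by letI := c i; exact isSimpleSubcoalg_coeffSpace (hs i)
  have hne : ∀ i j, i ≠ j → D i ≠ D j := by
    intro i j hij h
    letI := c i
    letI := c j
    obtain ⟨e, he⟩ := exists_comodIso_of_coeffSpace_eq (hs i) (hs j) h
    exact hni i j hij e (by rw [he])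
  refine Fintype.linearIndependent_iff.2 fun g hg i => ?_
  obtain ⟨P, hP1, hP2, -⟩ := exists_proj (D i) (hD i) ((Finset.univ.erase i).image D) (by
    intro D' hD'
    obtain ⟨j, hj, rfl⟩ := Finset.mem_image.1 hD'
    exact ⟨hD j, hne j i (Finset.ne_of_mem_erase hj)⟩)
  have hmem : ∀ j, chr (c j) ∈ D j := fun j => by letI := c j; exact chr_mem_coeffSpace
  have h := congrArg (fun x => CoalgebraStruct.counit (R := k) (P x)) hg
  simp only [map_sum, map_smul, map_zero] at h
  rw [Finset.sum_eq_single i (fun j _ hj => by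
    rw [hP2 (D j) (Finset.mem_image_of_mem D (Finset.mem_erase.2 ⟨hj, Finset.mem_univ j⟩)) _ (hmem j), map_zero,
      smul_zero]) (fun h => absurd (Finset.mem_univ i) h), hP1 _ (hmem i)] at h
  have hd : CoalgebraStruct.counit (R := k) (chr (c i)) = (d i : k) := by letI := c i; exact counit_chr
  rw [hd, smul_eq_mul, mul_eq_zero] at h
  refine h.resolve_right fun h0 => ?_
  have hd0 : d i = 0 := by exact_mod_cast h0
  letI := c i
  haveI := (hs i).1
  haveI : Subsingleton (Fin (d i) → k) := by rw [hd0]; infer_instance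
  exact false_of_nontrivial_of_subsingleton (Fin (d i) → k)

/-- A simple finite subcomodule has the coefficient space of a simple comodule on a coordinate space. -/
theorem exists_coordinate {V : Type w} [AddCommGroup V] [Module k V] [HopfRep.Comod k A V] [Module.Finite k V]
    (hV : HopfRep.IsSimpleComod k A V) :
    ∃ (d : ℕ) (c : HopfRep.Comod k A (Fin d → k)),
      @HopfRep.IsSimpleComod k A _ _ _ _ (Fin d → k) _ _ c ∧
        (letI := c; coeffSpace k A (Fin d → k)) = coeffSpace k A V := by
  let b := Module.finBasis k V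
  letI c : HopfRep.Comod k A (Fin (Module.finrank k V) → k) :=
    H66.MatComod.comod (H66.MatComod.isMat_ofBasis b)
  let e : V ≃ₗ[k] (Fin (Module.finrank k V) → k) := b.equivFun
  have he : Hoch.IsComodHom A e.toLinearMap := b.ext fun j => by
    have h1 : e (b j) = Pi.single j 1 := by
      simp [e, Module.Basis.equivFun_apply, Finsupp.single_eq_pi_single]
    show HopfRep.Comod.coact (k := k) (A := A) (e (b j)) = e.toLinearMap.rTensor A (HopfRep.Comod.coact (k := k) (A := A) (b j))
    rw [H66.MatComod.coact_basis b, h1, map_sum]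
    show H66.MatComod.coactFun (H66.MatComod.ofBasis b) _ = _
    rw [H66.MatComod.coactFun_single]
    refine Finset.sum_congr rfl fun i _ => ?_
    have h2 : e (b i) = Pi.single i 1 := by
      simp [e, Module.Basis.equivFun_apply, Finsupp.single_eq_pi_single]
    simp [h2]
  have he' : Hoch.IsComodHom A e.symm.toLinearMap := (isComodHom_iff _).2 fun φ v => e.injective (by
    rw [LinearEquiv.coe_coe, LinearEquiv.apply_symm_apply]
    have h := map_dact he φ (e.symm v)
    simp only [LinearEquiv.coe_coe, LinearEquiv.apply_symm_apply] at h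
    exact h.symm)
  haveI := hV.1
  refine ⟨_, c, ⟨e.symm.toEquiv.nontrivial, fun W hW => ?_⟩,
    le_antisymm (coeffSpace_mono_of_injective he' e.symm.injective) (coeffSpace_mono_of_injective he e.injective)⟩
  rcases hV.2 _ (isSubcomod_comap he hW) with h | h
  · refine Or.inl (eq_bot_iff.2 fun x hx => ?_)
    have : e.symm x ∈ Submodule.comap e.toLinearMap W := by simpa using hx
    rw [h, Submodule.mem_bot] at this
    simpa using congrArg e this
  · refine Or.inr (eq_top_iff.2 fun x _ => ?_)
    have : e.symm x ∈ Submodule.comap e.toLinearMap W := h ▸ Submodule.mem_top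
    simpa using this

/-- Cocommutative elements of a linearly reductive group are combinations of characters. -/
theorem mem_span_chr [IsAlgClosed k] (hred : HopfRep.IsLinearlyReductive k A) {f : A} (hf : IsCocommElem k f) :
    f ∈ Submodule.span k (Set.range fun p : (Σ d : ℕ, HopfRep.Comod k A (Fin d → k)) => chr p.2) := by
  classical
  let W := cyclic (k := k) (A := A) A f
  have hW : HopfRep.IsSubcomod (k := k) (A := A) W := isSubcomod_cyclic f
  haveI : Module.Finite k W := Module.Finite.iff_fg.2 (cyclic_fg A f)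
  letI cW := subComod W hW
  letI := module k A W
  haveI hss : IsSemisimpleModule (CDual k A) W := isSemisimpleComod_iff.1 (hred W inferInstance)
  -- the family of simple subcoalgebras
  let S : Set (Submodule k A) :=
    {D | ∃ (d : ℕ) (c : HopfRep.Comod k A (Fin d → k)), @HopfRep.IsSimpleComod k A _ _ _ _ (Fin d → k) _ _ c ∧
      (letI := c; coeffSpace k A (Fin d → k)) = D}
  have hfD : f ∈ coeffSpace k A W := by
    have h := coeff_mem (C := A) (CoalgebraStruct.counit (R := k) (A := A) ∘ₗ W.subtype)
      (⟨f, self_mem_cyclic A f⟩ : W)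
    rwa [← eq_coeff (isComodHom_subtype hW)] at h
  have hle : coeffSpace k A W ≤ sSup S := by
    refine iSup_le fun φ => ?_
    rintro _ ⟨v, rfl⟩
    have hv : v ∈ ⨆ N ∈ {N : Submodule (CDual k A) W | IsSimpleModule (CDual k A) N}, N := by
      rw [← sSup_eq_iSup, IsSemisimpleModule.sSup_simples_eq_top]; trivial
    have hv' : v ∈ ⨆ N : {N : Submodule (CDual k A) W // IsSimpleModule (CDual k A) N}, (N : Submodule (CDual k A) W) := by
      rw [iSup_subtype]; exact hv
    clear hv
    induction hv' using Submodule.iSup_induction' with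
    | mem N x hx =>
      obtain ⟨h0, hmin⟩ := (isSimpleModule_iff_of_sub N.1).1 N.2
      have hN : HopfRep.IsSubcomod (k := k) (A := A) (ofSub N.1) := isSubcomod_ofSub N.1
      letI := subComod (ofSub N.1) hN
      haveI : Module.Finite k (ofSub N.1) := inferInstance
      obtain ⟨d, c, hs, hc⟩ := exists_coordinate (k := k) (A := A) (V := ofSub N.1)
        (isSimpleComod_subComod hN h0 fun E hE hE' => hmin E hE' hE)
      refine (le_sSup (show coeffSpace k A (ofSub N.1) ∈ S from ⟨d, c, hs, hc⟩) :
        coeffSpace k A (ofSub N.1) ≤ sSup S) ?_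
      have h := coeff_mem (C := A) (φ ∘ₗ (ofSub N.1).subtype) (⟨x, hx⟩ : ofSub N.1)
      rwa [← coeff_comp (isComodHom_subtype hN)] at h
    | zero => rw [map_zero]; exact zero_mem _
    | add p q _ _ hp hq => rw [map_add]; exact add_mem hp hq
  have hf' : f ∈ ⨆ D : S, (D : Submodule k A) := by rw [← sSup_eq_iSup']; exact hle hfD
  obtain ⟨F, hF⟩ := Submodule.exists_finset_of_mem_iSup _ hf'
  obtain ⟨g, hg⟩ := (Submodule.mem_iSup_finset_iff_exists_sum (s := F) (fun D : S => (D : Submodule k A)) f).1 hF
  have hsimp : ∀ D : S, IsSimpleSubcoalg (D : Submodule k A) := by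
    rintro ⟨_, d, c, hs, rfl⟩
    letI := c
    exact isSimpleSubcoalg_coeffSpace hs
  rw [← hg]
  refine Submodule.sum_mem _ fun D hD => ?_
  obtain ⟨P, hP1, hP2, -⟩ := exists_proj (D : Submodule k A) (hsimp D) ((F.erase D).image Subtype.val) (by
    intro D' hD'
    obtain ⟨E, hE, rfl⟩ := Finset.mem_image.1 hD'
    exact ⟨hsimp E, fun h => Finset.ne_of_mem_erase hE (Subtype.ext h)⟩)
  have hPP : TensorProduct.map P P (CoalgebraStruct.comul (R := k) f) = CoalgebraStruct.comul (R := k) (g D : A) := by
    conv_lhs => rw [← hg, map_sum, map_sum]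
    rw [Finset.sum_eq_single D]
    · obtain ⟨z, hz⟩ := (hsimp D).2.1 (g D : A) (g D).2
      rw [← hz, ← LinearMap.comp_apply, ← TensorProduct.map_comp]
      congr 1
      ext x y
      simp [hP1 x x.2, hP1 y y.2]
    · intro E hE hne
      obtain ⟨z, hz⟩ := (hsimp E).2.1 (g E : A) (g E).2
      rw [← hz, ← LinearMap.comp_apply, ← TensorProduct.map_comp]
      have : P ∘ₗ (E : Submodule k A).subtype = 0 := LinearMap.ext fun x =>
        hP2 E (Finset.mem_image_of_mem _ (Finset.mem_erase.2 ⟨hne, hE⟩)) x x.2
      rw [this, TensorProduct.map_zero_left]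
      rfl
    · exact fun h => absurd hD h
  have hgc : IsCocommElem k (g D : A) := by
    show TensorProduct.comm k A A _ = _
    rw [← hPP]
    conv_rhs => rw [← hf]
    generalize CoalgebraStruct.comul (R := k) f = z
    induction z using TensorProduct.induction_on with
    | zero => simp
    | add p q hp hq => simp only [map_add, hp, hq]
    | tmul p q => simp
  obtain ⟨d, c, hs, hc⟩ := D.2
  letI := c
  obtain ⟨s, hs'⟩ := eq_smul_chr (k := k) (A := A) hs (g := (g D : A)) (by rw [hc]; exact (g D).2) hgc
  rw [hs']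
  exact Submodule.smul_mem _ _ (Submodule.subset_span ⟨⟨d, c⟩, rfl⟩)

theorem span_chr_cocomm {f : A}
    (hf : f ∈ Submodule.span k (Set.range fun p : (Σ d : ℕ, HopfRep.Comod k A (Fin d → k)) => chr p.2)) :
    IsCocommElem k f := by
  induction hf using Submodule.span_induction with
  | mem x hx =>
    obtain ⟨⟨d, c⟩, rfl⟩ := hx
    letI := c
    exact cocomm_chr
  | zero => simp [IsCocommElem]
  | add p q _ _ hp hq => simp only [IsCocommElem, map_add] at hp hq ⊢; rw [hp, hq]
  | smul a p _ hp => simp only [IsCocommElem, map_smul] at hp ⊢; rw [hp]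

end

end Groth.Agent.H66.ClassFun
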