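import Groth.Agent.H66.ClassFun
import Groth.Prelude.Def_CoactBr
import Mathlib

/-!
Class functions are the cocommutative elements.
-/

set_option autoImplicit false
set_option linter.unusedSectionVars false
set_option linter.style.haveILetI false
universe u

open CategoryTheory MonoidalCategory CartesianMonoidalCategory MonObj AlgebraicGeometry Opposite TensorProduct

namespace Groth.Agent.H66.ClassPts

noncomputable section

variable {R : Type u} [CommRing R] {A : Type u} [CommRing A] [HopfAlgebra R A]

local instance (R : Type u) [CommRing R] : (algSpec (CommRingCat.of R)).Braided := braidedAlgSpec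

/-- The value of a function at a point. -/
abbrev ev {T : Over (Spec (CommRingCat.of R))} (x : T ⟶ CoactBr.sp R A) (f : A) : Γ(T.left, ⊤) :=
  x.left.appTop ((Scheme.ΓSpecIso (CommRingCat.of A)).inv f)

theorem ev_pt {K : Type u} [CommRing K] [Algebra R K] (φ : A →ₐ[R] K) (f : A) :
    ev (CoactBr.pt φ) f = (Scheme.ΓSpecIso (CommRingCat.of K)).inv (φ f) := by
  show (Spec.map (CommRingCat.ofHom φ.toRingHom)).appTop ((Scheme.ΓSpecIso (CommRingCat.of A)).inv f) = _
  have h := Scheme.ΓSpecIso_inv_naturality (CommRingCat.ofHom φ.toRingHom)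
  exact (congrArg (fun m => m.hom f) h).symm

theorem pt_mul_incl :
    (CoactBr.pt (Algebra.TensorProduct.includeLeft : A →ₐ[R] A ⊗[R] A) *
      CoactBr.pt (Algebra.TensorProduct.includeRight : A →ₐ[R] A ⊗[R] A)) =
      CoactBr.pt (Bialgebra.comulAlgHom R A) := by
  rw [CoactBr.pt_mul_pt]
  congr 1
  refine AlgHom.ext fun a => ?_
  show Algebra.TensorProduct.lift (Algebra.TensorProduct.includeLeft : A →ₐ[R] A ⊗[R] A)
    Algebra.TensorProduct.includeRight (fun _ _ => Commute.all _ _) (CoalgebraStruct.comul (R := R) a) = CoalgebraStruct.comul (R := R) a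
  generalize CoalgebraStruct.comul (R := R) a = z
  induction z using TensorProduct.induction_on with
  | zero => simp
  | add p q hp hq => simp only [map_add, hp, hq]
  | tmul p q => simp

theorem pt_mul_incl' :
    (CoactBr.pt (Algebra.TensorProduct.includeRight : A →ₐ[R] A ⊗[R] A) *
      CoactBr.pt (Algebra.TensorProduct.includeLeft : A →ₐ[R] A ⊗[R] A)) =
      CoactBr.pt ((Algebra.TensorProduct.comm R A A).toAlgHom.comp (Bialgebra.comulAlgHom R A)) := by
  rw [CoactBr.pt_mul_pt]
  congr 1
  refine AlgHom.ext fun a => ?_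
  show Algebra.TensorProduct.lift (Algebra.TensorProduct.includeRight : A →ₐ[R] A ⊗[R] A)
    Algebra.TensorProduct.includeLeft (fun _ _ => Commute.all _ _) (CoalgebraStruct.comul (R := R) a) =
    Algebra.TensorProduct.comm R A A (CoalgebraStruct.comul (R := R) a)
  generalize CoalgebraStruct.comul (R := R) a = z
  induction z using TensorProduct.induction_on with
  | zero => simp
  | add p q hp hq => simp only [map_add, hp, hq]
  | tmul p q => simp

theorem exists_universal {T : Over (Spec (CommRingCat.of R))} (x g : T ⟶ CoactBr.sp R A) :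
    ∃ u : T ⟶ CoactBr.sp R (A ⊗[R] A),
      u ≫ CoactBr.pt (Algebra.TensorProduct.includeLeft : A →ₐ[R] A ⊗[R] A) = x ∧
      u ≫ CoactBr.pt (Algebra.TensorProduct.includeRight : A →ₐ[R] A ⊗[R] A) = g := by
  let m : CoactBr.sp R A ⊗ CoactBr.sp R A ⟶ CoactBr.sp R (A ⊗[R] A) :=
    Functor.LaxMonoidal.μ (algSpec (CommRingCat.of R)) (op (CommAlgCat.of R A)) (op (CommAlgCat.of R A))
  let v : CoactBr.sp R (A ⊗[R] A) ⟶ CoactBr.sp R A ⊗ CoactBr.sp R A :=
    lift (CoactBr.pt Algebra.TensorProduct.includeLeft) (CoactBr.pt Algebra.TensorProduct.includeRight)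
  have hv : v ≫ m = 𝟙 _ := by
    refine (CoactBr.lift_pt_pt _ _).trans ?_
    rw [show Algebra.TensorProduct.lift (Algebra.TensorProduct.includeLeft : A →ₐ[R] A ⊗[R] A)
      Algebra.TensorProduct.includeRight (fun _ _ => .all _ _) = AlgHom.id R (A ⊗[R] A) from
        Algebra.TensorProduct.ext' fun a b => by simp, CoactBr.pt_id]
  haveI : IsIso m := (inferInstance : IsIso (Functor.LaxMonoidal.μ (algSpec (CommRingCat.of R))
    (op (CommAlgCat.of R A)) (op (CommAlgCat.of R A))))
  have hm : m ≫ v = 𝟙 _ := (cancel_mono m).1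
    ((Category.assoc _ _ _).trans ((congrArg (m ≫ ·) hv).trans ((Category.comp_id m).trans (Category.id_comp m).symm)))
  refine ⟨lift x g ≫ m, ?_, ?_⟩
  · have h : (lift x g ≫ m) ≫ v = lift x g := by rw [Category.assoc, hm, Category.comp_id]
    have h' := congrArg (fun t => t ≫ fst _ _) h
    simpa [v] using h'
  · have h : (lift x g ≫ m) ≫ v = lift x g := by rw [Category.assoc, hm, Category.comp_id]
    have h' := congrArg (fun t => t ≫ snd _ _) h
    simpa [v] using h'

theorem class_iff_cocomm (f : A) :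
    (∀ (T : Over (Spec (CommRingCat.of R))) (x g : T ⟶ CoactBr.sp R A), ev (x * g * x⁻¹) f = ev g f) ↔
      Algebra.TensorProduct.comm R A A (CoalgebraStruct.comul (R := R) f) = CoalgebraStruct.comul (R := R) f := by
  constructor
  · intro h
    let X := CoactBr.pt (Algebra.TensorProduct.includeLeft : A →ₐ[R] A ⊗[R] A)
    let G := CoactBr.pt (Algebra.TensorProduct.includeRight : A →ₐ[R] A ⊗[R] A)
    have h1 := h _ X (G * X)
    rw [show X * (G * X) * X⁻¹ = X * G by group, pt_mul_incl, pt_mul_incl', ev_pt, ev_pt] at h1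
    exact ((Scheme.ΓSpecIso (CommRingCat.of (A ⊗[R] A))).commRingCatIsoToRingEquiv.symm.injective h1).symm
  · intro h T x g
    have key : ∀ y z : T ⟶ CoactBr.sp R A, ev (y * z) f = ev (z * y) f := by
      intro y z
      obtain ⟨u, hu1, hu2⟩ := exists_universal y z
      rw [← hu1, ← hu2, ← MonObj.comp_mul, ← MonObj.comp_mul, pt_mul_incl, pt_mul_incl']
      show (u.left ≫ (CoactBr.pt _).left).appTop _ = (u.left ≫ (CoactBr.pt _).left).appTop _
      rw [Scheme.Hom.comp_appTop, Scheme.Hom.comp_appTop, CommRingCat.comp_apply, CommRingCat.comp_apply]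
      refine congrArg u.left.appTop ?_
      refine (ev_pt (R := R) (Bialgebra.comulAlgHom R A) f).trans (Eq.trans ?_ (ev_pt (R := R) _ f).symm)
      exact congrArg _ h.symm
    rw [key, show x⁻¹ * (x * g) = g by group]

end

end Groth.Agent.H66.ClassPts
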