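import Groth.Agent.H66.TrigonSep
import Groth.Agent.H66.EtExt.Main
import Groth.Agent.H66.ConjRat.CommCase
import Groth.Agent.H66.MultType.InsepDescent
import Groth.Agent.S2966
import Groth.Agent.S4128
import Mathlib

/-!
A commutative affine group over a perfect field is the product of a group of multiplicative type and a unipotent group.
-/

set_option autoImplicit false
set_option linter.unusedSectionVars false
set_option linter.style.haveILetI false
universe u

namespace Groth.Agent.H66.CommDecomp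

open TensorProduct WithConv Groth.Agent.H66.MultExt

noncomputable section

variable {k : Type u} [Field k] {A B C : Type u} [CommRing A] [HopfAlgebra k A] [CommRing B] [HopfAlgebra k B]
  [CommRing C] [HopfAlgebra k C]

/-- Homomorphisms of a commutative group into a group without additive characters are determined by their
restriction to a quotient with unipotent kernel. -/
theorem eq_of_comp_eq [Algebra.FiniteType k A] [Coalgebra.IsCocomm k A] (ψ : B →ₐc[k] A) (J : Ideal A)
    [J.IsHopfIdeal k] (hJ : J = Ideal.map (ψ : B →+* A) (RingHom.ker (Bialgebra.counitAlgHom k B)))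
    (hU : HopfRep.IsUnipotent k (A ⧸ J)) (hC : H66.UnipBC.NoPrim k C) (f g : A →ₐc[k] C)
    (h : ∀ b, f (ψ b) = g (ψ b)) : f = g := by
  classical
  haveI : Algebra.FiniteType k (A ⧸ J) :=
    Algebra.FiniteType.of_surjective (Ideal.Quotient.mkₐ k J) Ideal.Quotient.mk_surjective
  let S : A →ₐc[k] A := BialgHom.ofAlgHom (HopfAlgebra.antipodeAlgHom k A)
    (AlgHom.counitAlgHom_comp_antipodeAlgHom) (AlgHom.ext fun c => by
      have h := Groth.Agent.H66.Passage.comul_antipode (k := k) c
      rw [Coalgebra.comm_comul] at h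
      show TensorProduct.map _ _ (CoalgebraStruct.comul (R := k) c) = CoalgebraStruct.comul (R := k) _
      exact h.symm)
  let χ : WithConv (A →ₐc[k] C) := toConv f * toConv (g.comp S)
  let a : Pt k A C := toConv (f : A →ₐ[k] C)
  let b : Pt k A C := toConv (g : A →ₐ[k] C)
  have hχ : toConv (χ.ofConv : A →ₐ[k] C) = a * b⁻¹ := rfl
  have hab : pre ψ a = pre ψ b := WithConv.ofConv_injective (AlgHom.ext h)
  have h1 : pre ψ (a * b⁻¹) = 1 := by rw [map_mul, pre_inv, hab, mul_inv_cancel]
  have hk : J ≤ RingHom.ker (χ.ofConv : A →ₐ[k] C) := by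
    rw [hJ]
    refine Ideal.map_le_iff_le_comap.2 fun c hc => ?_
    show (pre ψ (a * b⁻¹)).ofConv c = 0
    rw [h1]
    show algebraMap k C (CoalgebraStruct.counit (R := k) c) = 0
    rw [show CoalgebraStruct.counit (R := k) c = 0 from hc, map_zero]
  let d : A ⧸ J →ₐc[k] C := BialgHom.ofAlgHom
    (Ideal.Quotient.liftₐ J (χ.ofConv : A →ₐ[k] C) fun x hx => hk hx)
    (Ideal.Quotient.algHom_ext k (AlgHom.ext fun x => CoalgHomClass.counit_comp_apply χ.ofConv x))
    (Ideal.Quotient.algHom_ext k (AlgHom.ext fun x => by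
      refine Eq.trans ?_ (CoalgHomClass.map_comp_comul_apply χ.ofConv x)
      show Algebra.TensorProduct.map _ _ (CoalgebraStruct.comul (R := k) (Ideal.Quotient.mk J x)) = _
      rw [show CoalgebraStruct.comul (R := k) (Ideal.Quotient.mk J x) = _ from
        (CoalgHomClass.map_comp_comul_apply (Bialgebra.Quotient.mkBialgHom (R := k) J) x).symm]
      generalize CoalgebraStruct.comul (R := k) x = w
      induction w using TensorProduct.induction_on with
      | zero => simp
      | add p q hp hq => simp only [map_add, hp, hq]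
      | tmul p q => rfl))
  have h2 : a * b⁻¹ = 1 := by
    rw [← hχ]
    refine WithConv.ofConv_injective (AlgHom.ext fun x => ?_)
    have h3 := H66.UnipBC.eq_counit_of_noPrim (R := k) (H66.Unip.iSup_fil_eq_top hU) hC
      (d.comp (Bialgebra.TensorProduct.lid k (A ⧸ J)).toBialgHom) ((1 : k) ⊗ₜ[k] Ideal.Quotient.mk J x)
    have h4 : d (Ideal.Quotient.mk J x) = algebraMap k C (CoalgebraStruct.counit (R := k) (Ideal.Quotient.mk J x)) := by
      simpa using h3
    exact h4.trans (congrArg (algebraMap k C) (CoalgHomClass.counit_comp_apply (Bialgebra.Quotient.mkBialgHom (R := k) J) x))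
  exact BialgHom.ext fun x =>
    congrArg (fun T : Pt k A C => T.ofConv x) (mul_inv_eq_one.1 h2)

/-- A homomorphism over a Galois extension commuting with the Galois action is defined over the base. -/
theorem exists_descend {K : Type u} [Field K] [Algebra k K] [IsGalois k K]
    (F : K ⊗[k] A →ₐc[K] K ⊗[k] C)
    (hF : ∀ (σ : K ≃ₐ[k] K) (a : A),
      Algebra.TensorProduct.map (σ : K →ₐ[k] K) (AlgHom.id k C) (F ((1 : K) ⊗ₜ[k] a)) = F ((1 : K) ⊗ₜ[k] a)) :
    ∃ r : A →ₐc[k] C, ∀ a, (1 : K) ⊗ₜ[k] r a = F ((1 : K) ⊗ₜ[k] a) := by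
  classical
  have hfix : ∀ a : A, ∃ c : C, (1 : K) ⊗ₜ[k] c = F ((1 : K) ⊗ₜ[k] a) := fun a =>
    mem_range_includeRight_of_fixed fun σ => hF σ a
  choose f hf using hfix
  have hinj : Function.Injective (Algebra.TensorProduct.includeRight : C →ₐ[k] K ⊗[k] C) :=
    Algebra.TensorProduct.includeRight_injective (algebraMap k K).injective
  let g : A →ₐ[k] K ⊗[k] C :=
    ((F : K ⊗[k] A →ₐ[K] K ⊗[k] C).restrictScalars k).comp Algebra.TensorProduct.includeRight
  let e := AlgEquiv.ofInjective (Algebra.TensorProduct.includeRight : C →ₐ[k] K ⊗[k] C) hinj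
  let r₀ : A →ₐ[k] C := e.symm.toAlgHom.comp (g.codRestrict _ fun a => ⟨f a, hf a⟩)
  have hr₀ : ∀ a, (1 : K) ⊗ₜ[k] r₀ a = F ((1 : K) ⊗ₜ[k] a) := fun a =>
    congrArg Subtype.val (e.apply_symm_apply ⟨g a, ⟨f a, hf a⟩⟩)
  let r : A →ₐc[k] C := BialgHom.ofAlgHom r₀
    (AlgHom.ext fun a => by
      apply (algebraMap k K).injective
      show algebraMap k K (CoalgebraStruct.counit (R := k) (r₀ a)) = algebraMap k K (CoalgebraStruct.counit (R := k) a)
      have h := CoalgHomClass.counit_comp_apply F ((1 : K) ⊗ₜ[k] a)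
      rw [← hr₀, TensorProduct.counit_tmul, TensorProduct.counit_tmul] at h
      simpa [Algebra.smul_def] using h)
    (AlgHom.ext fun a => by
      apply Algebra.TensorProduct.includeRight_injective (R := k) (A := K) (B := C ⊗[k] C) (algebraMap k K).injective
      refine (AlgebraTensorModule.distribBaseChange k K C C).injective ?_
      have h := (CoalgHomClass.map_comp_comul_apply F ((1 : K) ⊗ₜ[k] a))
      rw [← hr₀, H66.Tame.comul_baseChange, H66.Tame.comul_baseChange, LinearMap.baseChange_tmul,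
        LinearMap.baseChange_tmul] at h
      refine Eq.trans ?_ h
      show AlgebraTensorModule.distribBaseChange k K C C ((1 : K) ⊗ₜ[k]
        Algebra.TensorProduct.map r₀ r₀ (CoalgebraStruct.comul (R := k) a)) = _
      generalize CoalgebraStruct.comul (R := k) a = w
      induction w using TensorProduct.induction_on with
      | zero => simp
      | add p q hp hq => simp only [TensorProduct.tmul_add, map_add, hp, hq]
      | tmul p q =>
        rw [Algebra.TensorProduct.map_tmul, AlgebraTensorModule.distribBaseChange_tmul,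
          AlgebraTensorModule.distribBaseChange_tmul, TensorProduct.map_tmul, hr₀, hr₀]
        rfl)
  exact ⟨r, hr₀⟩

theorem isDiag_of_isDiagonalizable {K H : Type u} [Field K] [CommRing H] [HopfAlgebra K H]
    (h : HopfRep.IsDiagonalizable K H) : SGA3b.IsDiag K H := by
  have hbij : Function.Bijective (H66.Trigon2.charMap K H) := by
    refine ⟨H66.Trigon2.injective_charMap, fun z => ?_⟩
    have hz : z ∈ Submodule.span K {a : H | IsGroupLikeElem K a} := h.symm ▸ Submodule.mem_top
    induction hz using Submodule.span_induction with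
    | mem g hg => exact ⟨MonoidAlgebra.single ⟨g, hg⟩ 1, H66.Trigon2.charMap_single _⟩
    | zero => exact ⟨0, map_zero _⟩
    | add p q _ _ hp hq => obtain ⟨p, rfl⟩ := hp; obtain ⟨q, rfl⟩ := hq; exact ⟨p + q, map_add _ _ _⟩
    | smul c p _ hp => obtain ⟨p, rfl⟩ := hp; exact ⟨c • p, map_smul _ c p⟩
  exact ⟨GroupLike K H, inferInstance, ⟨(BialgEquiv.ofBijective (H66.Trigon2.charMap K H) hbij).symm⟩⟩

/-- Over a perfect field the extension of multiplicative type by unipotent splits for commutative groups. -/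
theorem exists_retraction [PerfectField k] [Algebra.FiniteType k A] [Coalgebra.IsCocomm k A] (ψ : B →ₐc[k] A)
    (hψ : Function.Injective ψ) (J : Ideal A) [J.IsHopfIdeal k]
    (hJ : J = Ideal.map (ψ : B →+* A) (RingHom.ker (Bialgebra.counitAlgHom k B)))
    (hB : HopfRep.IsDiagonalizable (AlgebraicClosure k) (AlgebraicClosure k ⊗[k] B))
    (hU : HopfRep.IsUnipotent k (A ⧸ J)) : ∃ r : A →ₐc[k] B, ∀ b, r (ψ b) = b := by
  classical
  let K := AlgebraicClosure k
  haveI : IsGalois k K := ⟨⟩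
  obtain ⟨JK, hJKhopf, hJK, hiff⟩ := H66.BaseKer.exists_baseKer ψ hψ J hJ K
  haveI := hJKhopf
  have hUK := hiff.2 (H66.UnipBC.isUnipotent_baseChange hU)
  obtain ⟨rK, hrK⟩ := S4128.result K (K ⊗[k] A) (K ⊗[k] B) (isDiag_of_isDiagonalizable hB) (H66.BaseKer.mapK K ψ)
    (H66.BaseKer.mapK_injective K ψ hψ) JK hJK hUK
  have hr : ∀ b : B, rK ((1 : K) ⊗ₜ[k] ψ b) = (1 : K) ⊗ₜ[k] b := fun b =>
    congrArg (fun f : K ⊗[k] B →ₐc[K] K ⊗[k] B => f ((1 : K) ⊗ₜ[k] b)) hrK
  obtain ⟨r, hr₀⟩ := exists_descend rK fun σ a => by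
    obtain ⟨F, hF⟩ := H66.MultType.exists_push (k := k) (k' := K) (A := B) (B := A) rK K (σ : K →ₐ[k] K)
    rw [← hF a]
    refine congrArg (fun f : K ⊗[k] A →ₐc[K] K ⊗[k] B => f ((1 : K) ⊗ₜ[k] a)) ?_
    refine eq_of_comp_eq (H66.BaseKer.mapK K ψ) JK hJK hUK (H66.UnipBC.noPrim_of_isDiagonalizable hB) F rK fun z => ?_
    induction z using TensorProduct.induction_on with
    | zero => simp
    | add p q hp hq => simp only [map_add, hp, hq]
    | tmul x c =>
      rw [show x ⊗ₜ[k] c = x • ((1 : K) ⊗ₜ[k] c) by rw [TensorProduct.smul_tmul', smul_eq_mul, mul_one],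
        map_smul, map_smul, map_smul]
      refine congrArg (x • ·) ?_
      show F ((1 : K) ⊗ₜ[k] ψ c) = rK ((1 : K) ⊗ₜ[k] ψ c)
      rw [hF, hr, Algebra.TensorProduct.map_tmul, map_one]
      rfl
  refine ⟨r, fun b => Algebra.TensorProduct.includeRight_injective (R := k) (A := K) (B := B) (algebraMap k K).injective ?_⟩
  show (1 : K) ⊗ₜ[k] r (ψ b) = (1 : K) ⊗ₜ[k] b
  rw [hr₀, hr]

/-- A retraction identifies the group with the product. -/
theorem bijective_of_retraction [Coalgebra.IsCocomm k A] (ψ : B →ₐc[k] A) (r : A →ₐc[k] B)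
    (hr : ∀ b, r (ψ b) = b) (J : Ideal A) [J.IsHopfIdeal k]
    (hJ : J = Ideal.map (ψ : B →+* A) (RingHom.ker (Bialgebra.counitAlgHom k B))) :
    Function.Bijective ((Algebra.TensorProduct.map (r : A →ₐ[k] B) (Ideal.Quotient.mkₐ k J)).comp
      (Bialgebra.comulAlgHom k A)) := by
  classical
  obtain ⟨p, hp⟩ := H66.EtExt.exists_projection ψ (r : A →ₐ[k] B) (AlgHom.ext hr) J hJ
  let q := Ideal.Quotient.mkₐ k J
  let Φ : A →ₐ[k] B ⊗[k] (A ⧸ J) := (Algebra.TensorProduct.map (r : A →ₐ[k] B) q).comp (Bialgebra.comulAlgHom k A)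
  let Θ : B ⊗[k] (A ⧸ J) →ₐ[k] A := Algebra.TensorProduct.lift (ψ : B →ₐ[k] A) p (fun _ _ => Commute.all _ _)
  let iL : B →ₐ[k] B ⊗[k] (A ⧸ J) := Algebra.TensorProduct.includeLeft
  let iR : A ⧸ J →ₐ[k] B ⊗[k] (A ⧸ J) := Algebra.TensorProduct.includeRight
  let α : Pt k A (B ⊗[k] (A ⧸ J)) := toConv (iL.comp (r : A →ₐ[k] B))
  let β : Pt k A (B ⊗[k] (A ⧸ J)) := toConv (iR.comp q)
  have hΦ : toConv Φ = α * β := by
    refine WithConv.ofConv_injective (AlgHom.ext fun a => ?_)
    refine Eq.trans ?_ (AlgHom.convMul_apply α β a).symm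
    show Algebra.TensorProduct.map (r : A →ₐ[k] B) q (CoalgebraStruct.comul (R := k) a) = _
    generalize CoalgebraStruct.comul (R := k) a = z
    induction z using TensorProduct.induction_on with
    | zero => simp
    | add u v hu hv => simp only [map_add, hu, hv]
    | tmul u v => simp [α, β, iL, iR]
  have hΘ : ∀ a, Θ (Φ a) = a := by
    have h : post Θ (α * β) = toConv (AlgHom.id k A) := by
      rw [map_mul, show post Θ α = toConv ((ψ : B →ₐ[k] A).comp (r : A →ₐ[k] B)) from
        WithConv.ofConv_injective (AlgHom.ext fun a => by simp [post_apply, α, iL, Θ]),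
        show post Θ β = toConv (p.comp q) from WithConv.ofConv_injective (AlgHom.ext fun a => by simp [post_apply, β, iR, Θ]),
        (commute_of_cocomm _ _).eq]
      exact hp
    rw [← hΦ] at h
    exact fun a => congrArg (fun T : Pt k A A => T.ofConv a) h
  have hψq : ∀ b, q (ψ b) = algebraMap k (A ⧸ J) (CoalgebraStruct.counit (R := k) b) := by
    intro b
    rw [← AlgHom.commutes q]
    refine Ideal.Quotient.eq.2 ?_
    rw [hJ, show algebraMap k A (CoalgebraStruct.counit (R := k) b) =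
      (ψ : B →ₐ[k] A) (algebraMap k B (CoalgebraStruct.counit (R := k) b)) from (AlgHom.commutes _ _).symm,
      show ψ b = (ψ : B →ₐ[k] A) b from rfl, ← map_sub]
    refine Ideal.mem_map_of_mem _ ?_
    show Bialgebra.counitAlgHom k B _ = 0
    rw [map_sub, AlgHom.commutes]
    exact sub_self _
  have hΦψ : ∀ b, Φ (ψ b) = iL b := by
    intro b
    have h : pre ψ (α * β) = toConv iL := by
      rw [map_mul, show pre ψ α = toConv iL from WithConv.ofConv_injective (AlgHom.ext fun c => by simp [pre_apply, α, hr]),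
        show pre ψ β = 1 from WithConv.ofConv_injective (AlgHom.ext fun c => by
          show iR (q (ψ c)) = algebraMap k (B ⊗[k] (A ⧸ J)) (CoalgebraStruct.counit (R := k) c)
          rw [hψq, AlgHom.commutes]), mul_one]
    rw [← hΦ] at h
    exact congrArg (fun T : Pt k B (B ⊗[k] (A ⧸ J)) => T.ofConv b) h
  have hΦp : ∀ x, Φ (p x) = iR x := by
    have h : post Φ (toConv (p.comp q)) = β := by
      have h0 := congrArg (post Φ) hp
      rw [map_mul, show post Φ (toConv ((ψ : B →ₐ[k] A).comp (r : A →ₐ[k] B))) = α from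
          WithConv.ofConv_injective (AlgHom.ext fun a => hΦψ (r a)),
        show post Φ (toConv (AlgHom.id k A)) = α * β from hΦ, (commute_of_cocomm α β).eq] at h0
      exact mul_right_cancel h0
    intro x
    obtain ⟨a, rfl⟩ := Ideal.Quotient.mk_surjective x
    exact congrArg (fun T : Pt k A (B ⊗[k] (A ⧸ J)) => T.ofConv a) h
  refine Function.bijective_iff_has_inverse.2 ⟨Θ, hΘ, fun z => ?_⟩
  induction z using TensorProduct.induction_on with
  | zero => exact (congrArg Φ (map_zero Θ)).trans (map_zero Φ)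
  | add u v hu hv => exact (congrArg Φ (map_add Θ u v)).trans ((map_add Φ _ _).trans (congrArg₂ (· + ·) hu hv))
  | tmul b x =>
    show Φ (Θ (b ⊗ₜ[k] x)) = b ⊗ₜ[k] x
    rw [show Θ (b ⊗ₜ[k] x) = ψ b * p x by simp [Θ], map_mul, hΦψ, hΦp]
    simp [iL, iR]

theorem exists_unique_unipotent_complement [PerfectField k] [Algebra.FiniteType k A] [Coalgebra.IsCocomm k A]
    (J : Ideal A) [J.IsHopfIdeal k] (hJ : SGA3b.IsMultTypeConst k (A ⧸ J))
    (hJmax : ∀ (I : Ideal A) [I.IsHopfIdeal k], SGA3b.IsMultTypeConst k (A ⧸ I) → J ≤ I) :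
    ∃! I : Ideal A, ∃ (_ : I.IsHopfIdeal k), HopfRep.IsUnipotent k (A ⧸ I) ∧
      Function.Bijective ((Algebra.TensorProduct.map (Ideal.Quotient.mkₐ k J) (Ideal.Quotient.mkₐ k I)).comp
        (Bialgebra.comulAlgHom k A)) := by
  classical
  let K := AlgebraicClosure k
  haveI : Algebra.IsSeparable k K := inferInstance
  haveI : Coalgebra.IsCocomm K (K ⊗[k] A) := inferInstance
  obtain ⟨B, _, _, ψ, U, hUh, hψ, hB, hU', hU⟩ :=
    H66.TrigonSep.exists_quotient_of_trigonalizable_baseChange (k' := K) (k := k) (A := A)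
      H66.Trigon.isTrigonalizable_of_isCocomm
  haveI := hUh
  obtain ⟨r, hr⟩ := exists_retraction ψ hψ U hU' hB hU
  have hrs : Function.Surjective r := fun b => ⟨ψ b, hr b⟩
  let I₀ : Ideal A := RingHom.ker (r : A →ₐ[k] B)
  haveI : I₀.IsHopfIdeal k := Lib.OT67.OpenPart.isHopfIdeal_ker hrs
  let r₁ : A ⧸ I₀ →ₐc[k] B := BialgHom.ofAlgHom (Ideal.Quotient.liftₐ I₀ (r : A →ₐ[k] B) fun a ha => ha)
    (Ideal.Quotient.algHom_ext k (AlgHom.ext fun a => CoalgHomClass.counit_comp_apply r a))
    (Ideal.Quotient.algHom_ext k (AlgHom.ext fun a => by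
      refine Eq.trans ?_ (CoalgHomClass.map_comp_comul_apply r a)
      show Algebra.TensorProduct.map _ _ (CoalgebraStruct.comul (R := k) (Ideal.Quotient.mk I₀ a)) = _
      rw [show CoalgebraStruct.comul (R := k) (Ideal.Quotient.mk I₀ a) = _ from
        (CoalgHomClass.map_comp_comul_apply (Bialgebra.Quotient.mkBialgHom (R := k) I₀) a).symm]
      generalize CoalgebraStruct.comul (R := k) a = w
      induction w using TensorProduct.induction_on with
      | zero => simp
      | add p q hp hq => simp only [map_add, hp, hq]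
      | tmul p q => rfl))
  have hr₁ : Function.Bijective r₁ := ⟨(injective_iff_map_eq_zero r₁).2 fun y hy => by
      obtain ⟨a, rfl⟩ := Ideal.Quotient.mk_surjective y
      exact Ideal.Quotient.eq_zero_iff_mem.2 hy,
    fun b => ⟨Ideal.Quotient.mk I₀ (ψ b), hr b⟩⟩
  let r₁K : K ⊗[k] (A ⧸ I₀) →ₐc[K] K ⊗[k] B := Bialgebra.TensorProduct.map (BialgHom.id K K) r₁
  have hr₁K : Function.Bijective r₁K :=
    ⟨Module.Flat.lTensor_preserves_injective_linearMap (M := K) (r₁ : A ⧸ I₀ →ₐ[k] B).toLinearMap hr₁.1,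
      LinearMap.lTensor_surjective K (g := (r₁ : A ⧸ I₀ →ₐ[k] B).toLinearMap) hr₁.2⟩
  have hI₀m : SGA3b.IsMultTypeConst k (A ⧸ I₀) := by
    obtain ⟨M, hM, ⟨e⟩⟩ := isDiag_of_isDiagonalizable hB
    exact ⟨K, inferInstance, inferInstance, inferInstance, M, hM,
      ⟨(BialgEquiv.ofBijective r₁K hr₁K).trans e⟩⟩
  let qJ : A →ₐc[k] A ⧸ J := Bialgebra.Quotient.mkBialgHom (R := k) J
  have hdJ : HopfRep.IsDiagonalizable K (K ⊗[k] (A ⧸ J)) := MultExt.isDiagonalizable_algClosed k (A ⧸ J) hJ K
  have hfac : qJ = (qJ.comp ψ).comp r :=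
    eq_of_comp_eq ψ U hU' hU (H66.UnipBC.noPrim_descend (H66.UnipBC.noPrim_of_isDiagonalizable hdJ)) _ _
      fun b => by simp [hr]
  have hJI : J = I₀ := le_antisymm (hJmax I₀ hI₀m) fun a ha => by
    refine Ideal.Quotient.eq_zero_iff_mem.1 ?_
    show qJ a = 0
    rw [hfac]
    show qJ (ψ (r a)) = 0
    rw [show r a = 0 from ha, map_zero, map_zero]
  subst hJI
  haveI : Algebra.FiniteType k B := Algebra.FiniteType.of_surjective (r : A →ₐ[k] B) hrs
  have hinv : ∀ (I : Ideal A) (z : A), Algebra.TensorProduct.map (r₁ : A ⧸ I₀ →ₐ[k] B) (AlgHom.id k (A ⧸ I))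
      ((Algebra.TensorProduct.map (Ideal.Quotient.mkₐ k I₀) (Ideal.Quotient.mkₐ k I)).comp
        (Bialgebra.comulAlgHom k A) z) =
      (Algebra.TensorProduct.map (r : A →ₐ[k] B) (Ideal.Quotient.mkₐ k I)).comp (Bialgebra.comulAlgHom k A) z := by
    intro I z
    show Algebra.TensorProduct.map _ _ (Algebra.TensorProduct.map _ _ (CoalgebraStruct.comul (R := k) z)) =
      Algebra.TensorProduct.map _ _ (CoalgebraStruct.comul (R := k) z)
    generalize CoalgebraStruct.comul (R := k) z = w
    induction w using TensorProduct.induction_on with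
    | zero => simp
    | add p q hp hq => simp only [map_add, hp, hq]
    | tmul p q => rfl
  have hr₁' : Function.Bijective (Algebra.TensorProduct.map (r₁ : A ⧸ I₀ →ₐ[k] B) (AlgHom.id k (A ⧸ U))) :=
    ⟨Module.Flat.rTensor_preserves_injective_linearMap (M := A ⧸ U) (r₁ : A ⧸ I₀ →ₐ[k] B).toLinearMap hr₁.1,
      LinearMap.rTensor_surjective (A ⧸ U) (g := (r₁ : A ⧸ I₀ →ₐ[k] B).toLinearMap) hr₁.2⟩
  have hbij := bijective_of_retraction ψ r hr U hU'
  have hμ : Function.Bijective ((Algebra.TensorProduct.map (Ideal.Quotient.mkₐ k I₀) (Ideal.Quotient.mkₐ k U)).comp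
      (Bialgebra.comulAlgHom k A)) := by
    refine (Function.Bijective.of_comp_iff' hr₁' _).1 ?_
    convert hbij using 1
    exact funext (hinv U)
  refine ⟨U, ⟨hUh, hU, hμ⟩, fun I' ⟨hI'h, hI'u, hI'b⟩ => ?_⟩
  haveI := hI'h
  haveI : Algebra.FiniteType k (A ⧸ I') :=
    Algebra.FiniteType.of_surjective (Ideal.Quotient.mkₐ k I') Ideal.Quotient.mk_surjective
  have hle : U ≤ I' := by
    rw [hU']
    refine Ideal.map_le_iff_le_comap.2 fun c hc => (Ideal.Quotient.eq_zero_iff_mem.1 ?_ : ψ c ∈ I')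
    have h := (S2966.result (AM := B) (AU := A ⧸ I') hB hI'u).2
      ((Bialgebra.Quotient.mkBialgHom (R := k) I').comp ψ) c
    refine h.trans ?_
    rw [show CoalgebraStruct.counit (R := k) c = 0 from hc, map_zero]
  refine le_antisymm (fun x hx => ?_) hle
  let π : A ⧸ U →ₐ[k] A ⧸ I' := Ideal.Quotient.factorₐ k hle
  have hcomp : ∀ z, Algebra.TensorProduct.map (AlgHom.id k (A ⧸ I₀)) π
      ((Algebra.TensorProduct.map (Ideal.Quotient.mkₐ k I₀) (Ideal.Quotient.mkₐ k U)).comp
        (Bialgebra.comulAlgHom k A) z) =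
      (Algebra.TensorProduct.map (Ideal.Quotient.mkₐ k I₀) (Ideal.Quotient.mkₐ k I')).comp
        (Bialgebra.comulAlgHom k A) z := by
    intro z
    show Algebra.TensorProduct.map _ _ (Algebra.TensorProduct.map _ _ (CoalgebraStruct.comul (R := k) z)) =
      Algebra.TensorProduct.map _ _ (CoalgebraStruct.comul (R := k) z)
    generalize CoalgebraStruct.comul (R := k) z = w
    induction w using TensorProduct.induction_on with
    | zero => simp
    | add p q hp hq => simp only [map_add, hp, hq]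
    | tmul p q => rfl
  obtain ⟨z, hz⟩ := hμ.2 ((1 : A ⧸ I₀) ⊗ₜ[k] Ideal.Quotient.mk U x)
  have hz0 : z = 0 := by
    refine hI'b.1 ?_
    rw [map_zero, ← hcomp, hz, Algebra.TensorProduct.map_tmul,
      show π (Ideal.Quotient.mk U x) = Ideal.Quotient.mk I' x from rfl, Ideal.Quotient.eq_zero_iff_mem.2 hx,
      TensorProduct.tmul_zero]
  have h1 : (1 : A ⧸ I₀) ⊗ₜ[k] Ideal.Quotient.mk U x = (1 : A ⧸ I₀) ⊗ₜ[k] (0 : A ⧸ U) := by
    rw [← hz, hz0, map_zero, TensorProduct.tmul_zero]
  have hinjk : Function.Injective (algebraMap k (A ⧸ I₀)) := fun a b hab => by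
    have h := congrArg r₁ hab
    rw [AlgHomClass.commutes, AlgHomClass.commutes] at h
    have h' := congrArg (CoalgebraStruct.counit (R := k)) h
    simpa [Algebra.algebraMap_eq_smul_one] using h'
  exact Ideal.Quotient.eq_zero_iff_mem.1
    (Algebra.TensorProduct.includeRight_injective (R := k) (A := A ⧸ I₀) (B := A ⧸ U) hinjk h1)

end

end Groth.Agent.H66.CommDecomp
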