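import Mathlib.RepresentationTheory.Maschke
import Mathlib.RingTheory.SimpleModule.WedderburnArtin
import Mathlib.RingTheory.SimpleModule.Basic
import Mathlib.RingTheory.Finiteness.Basic

/-!
Maschke for the commutant: in a finite representation of a finite group of invertible order, a
subspace stable under all equivariant endomorphisms has a complement with the same stability.
-/

universe u v w

namespace Groth.Agent.H66.Commutant

variable {k : Type u} [Field k] {G : Type v} [Group G] [Finite G] [NeZero (Nat.card G : k)]
variable {V : Type w} [AddCommGroup V] [Module k V] [Module.Finite k V]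

theorem exists_isCompl (ρ : Representation k G V) (W : Submodule k V)
    (hW : ∀ T : Module.End k V, (∀ g, T ∘ₗ ρ g = ρ g ∘ₗ T) → ∀ w ∈ W, T w ∈ W) :
    ∃ W' : Submodule k V, IsCompl W W' ∧
      ∀ T : Module.End k V, (∀ g, T ∘ₗ ρ g = ρ g ∘ₗ T) → ∀ w ∈ W', T w ∈ W' := by
  let M := ρ.asModule
  let e : M ≃ₗ[k] V := ρ.asModuleEquiv
  have hsc : ∀ (r : k) (x : M), (algebraMap k (MonoidAlgebra k G) r) • x = r • x := fun r x => by
    apply e.injective
    rw [Representation.asModuleEquiv_map_smul, AlgHom.commutes, map_smul]
    rfl
  haveI : IsScalarTower k (MonoidAlgebra k G) M := IsScalarTower.of_algebraMap_smul hsc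
  haveI : Module.Finite (MonoidAlgebra k G) M :=
    Module.Finite.of_restrictScalars_finite k (MonoidAlgebra k G) M
  let R := Module.End (MonoidAlgebra k G) M
  haveI : IsSemisimpleRing R := IsSemisimpleRing.moduleEnd (MonoidAlgebra k G) M
  have hrho : ∀ (g : G) (x : M), e (MonoidAlgebra.single g (1 : k) • x) = ρ g (e x) := fun g x => by
    rw [Representation.asModuleEquiv_map_smul, Representation.asAlgebraHom_single_one]
  let back : R → Module.End k V := fun f =>
    e.toLinearMap ∘ₗ (f.restrictScalars k) ∘ₗ e.symm.toLinearMap
  have hback : ∀ f g, back f ∘ₗ ρ g = ρ g ∘ₗ back f := by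
    intro f g
    refine LinearMap.ext fun v => ?_
    obtain ⟨x, rfl⟩ := e.surjective v
    simp only [back, LinearMap.comp_apply, LinearEquiv.coe_coe, e.symm_apply_apply,
      LinearMap.restrictScalars_apply]
    rw [← hrho g x, e.symm_apply_apply, map_smul, hrho]
  let toR : ∀ T : Module.End k V, (∀ g, T ∘ₗ ρ g = ρ g ∘ₗ T) → R := fun T hT =>
    { toFun := fun x => e.symm (T (e x))
      map_add' := fun x y => by simp
      map_smul' := fun a x => by
        apply e.injective
        show e (e.symm (T (e (a • x)))) = e (a • e.symm (T (e x)))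
        rw [e.apply_symm_apply]
        induction a using MonoidAlgebra.induction_on with
        | of g =>
          rw [MonoidAlgebra.of_apply, hrho, hrho, e.apply_symm_apply]
          exact LinearMap.congr_fun (hT g) (e x)
        | add p q hp hq => rw [add_smul, add_smul, map_add, map_add, map_add, hp, hq]
        | smul r p hp => rw [smul_assoc, smul_assoc, e.map_smul r, T.map_smul r, e.map_smul r, hp] }
  let N : Submodule R M :=
    { carrier := {x | e x ∈ W}
      add_mem' := fun {x y} hx hy => by
        show e (x + y) ∈ W
        rw [map_add]; exact W.add_mem hx hy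
      zero_mem' := by show e 0 ∈ W; rw [map_zero]; exact W.zero_mem
      smul_mem' := fun f x hx => by
        have h := hW (back f) (hback f) (e x) hx
        show e (f x) ∈ W
        simpa [back] using h }
  obtain ⟨N', hN'⟩ := ComplementedLattice.exists_isCompl N
  let W' : Submodule k V :=
    { carrier := {v | e.symm v ∈ N'}
      add_mem' := fun {x y} hx hy => by
        show e.symm (x + y) ∈ N'
        rw [map_add]; exact N'.add_mem hx hy
      zero_mem' := by show e.symm 0 ∈ N'; rw [map_zero]; exact N'.zero_mem
      smul_mem' := fun r v hv => by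
        show e.symm (r • v) ∈ N'
        have h : e.symm ((r • (LinearMap.id : Module.End k V)) (e (e.symm v))) ∈ N' :=
          N'.smul_mem (toR (r • LinearMap.id) (fun g => by ext; simp)) hv
        rw [e.apply_symm_apply] at h
        exact h }
  refine ⟨W', ⟨?_, ?_⟩, fun T hT w hw => ?_⟩
  · rw [Submodule.disjoint_def]
    intro v hv hv'
    have h1 : e.symm v ∈ N := by show e (e.symm v) ∈ W; rwa [e.apply_symm_apply]
    have h2 := Submodule.disjoint_def.1 hN'.disjoint _ h1 hv'
    rwa [LinearEquiv.map_eq_zero_iff] at h2
  · rw [codisjoint_iff, eq_top_iff]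
    intro v _
    have h : e.symm v ∈ N ⊔ N' := hN'.sup_eq_top ▸ Submodule.mem_top
    obtain ⟨a, ha, b, hb, hab⟩ := Submodule.mem_sup.1 h
    refine Submodule.mem_sup.2 ⟨e a, ha, e b, ?_, ?_⟩
    · show e.symm (e b) ∈ N'
      rwa [e.symm_apply_apply]
    · rw [← map_add, hab, e.apply_symm_apply]
  · show e.symm (T w) ∈ N'
    have h : e.symm (T (e (e.symm w))) ∈ N' := N'.smul_mem (toR T hT) hw
    rwa [e.apply_symm_apply] at h

end Groth.Agent.H66.Commutant
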