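import Groth.Agent.H66.UnipBC
import Groth.Agent.H66.Trigon
import Mathlib.RingTheory.HopfAlgebra.GroupLike
import Mathlib.LinearAlgebra.Basis.VectorSpace

/-!
Cocommutative trigonalizable Hopf algebras without primitives are diagonalizable.
-/

universe u v w

open TensorProduct Groth.Agent.Lib.Comod.Basic

set_option linter.unusedSectionVars false
set_option linter.style.haveILetI false

namespace Groth.Agent.H66.DiagCrit

noncomputable section

variable {k : Type u} [Field k] {A : Type v} [CommRing A] [HopfAlgebra k A]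

theorem comm_of_span {V : Type v} [CommRing V] [Bialgebra k V] (h : HopfRep.IsDiagonalizable k V) :
    Coalgebra.IsCocomm k V where
  comm_comp_comul := by
    refine LinearMap.ext_on h fun a ha => ?_
    simp only [LinearMap.comp_apply, LinearEquiv.coe_coe, IsGroupLikeElem.comul_eq_tmul_self ha,
      TensorProduct.comm_tmul]

theorem eq_smul_of_comul [Coalgebra.IsCocomm k A] (hnp : H66.UnipBC.NoPrim k A) {f g h : A}
    (hg : IsGroupLikeElem k g) (hh : IsGroupLikeElem k h)
    (hf : CoalgebraStruct.comul (R := k) f = g ⊗ₜ[k] f + f ⊗ₜ[k] h) : ∃ c : k, f = c • (g - h) := by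
  have hf' : CoalgebraStruct.comul (R := k) f = f ⊗ₜ[k] g + h ⊗ₜ[k] f := by
    conv_lhs => rw [← Coalgebra.comm_comul k f, hf]
    simp
  by_cases e : g = h
  · subst e
    refine ⟨0, ?_⟩
    rw [zero_smul]
    have h0 : f * HopfAlgebra.antipode k g = 0 := hnp _ (by
      rw [Bialgebra.comul_mul, hf, hg.antipode.comul_eq_tmul_self, add_mul,
        Algebra.TensorProduct.tmul_mul_tmul, Algebra.TensorProduct.tmul_mul_tmul, hg.mul_antipode_cancel,
        add_comm])
    calc f = f * (HopfAlgebra.antipode k g * g) := by rw [hg.antipode_mul_cancel, mul_one]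
      _ = 0 := by rw [← mul_assoc, h0, zero_mul]
  · obtain ⟨φ, hφ⟩ := Module.Projective.exists_dual_ne_zero k (sub_ne_zero.2 e)
    refine ⟨(φ (g - h))⁻¹ * φ f, ?_⟩
    have h1 := congrArg (contract A φ) (hf.symm.trans hf')
    simp only [map_add, contract_tmul] at h1
    rw [map_sub] at hφ ⊢
    rw [mul_smul, smul_sub]
    have h2 : φ f • g - φ f • h = (φ g - φ h) • f := by
      rw [sub_smul, sub_eq_sub_iff_add_eq_add, h1]
    rw [h2, smul_smul, inv_mul_cancel₀ hφ, one_smul]

theorem isDiagonalizable_of_noPrim [Coalgebra.IsCocomm k A] (hT : HopfRep.IsTrigonalizable k A)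
    (hnp : H66.UnipBC.NoPrim k A) : HopfRep.IsDiagonalizable k A := by
  classical
  refine H66.Trigon.isDiagonalizable_iff_span.2 fun V _ _ _ hV => ?_
  set E : Set V := {v : V | ∃ a : A, HopfRep.Comod.coact (k := k) (A := A) v = v ⊗ₜ[k] a} with hE
  by_contra hne
  have hU : HopfRep.IsSubcomod (k := k) (A := A) (Submodule.span k E) := by
    refine (isSubcomod_iff _).2 fun φ v hv => ?_
    refine (Submodule.span_le.2 ?_ : Submodule.span k E ≤ (Submodule.span k E).comap (dact V φ)) hv
    rintro w ⟨a, ha⟩
    rw [SetLike.mem_coe, Submodule.mem_comap, dact_apply, ha, contract_tmul]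
    exact Submodule.smul_mem _ _ (Submodule.subset_span ⟨a, ha⟩)
  obtain ⟨x, hx, hs⟩ := H66.Trigon.exists_step hT hU hne
  -- a basis of eigenvectors
  obtain ⟨t, htE, hspan, hli⟩ := exists_linearIndependent k E
  haveI : Fintype t := hli.setFinite.fintype
  let w : Option t → V := fun o => o.elim x (fun i => (i : V))
  have hw : LinearIndependent k w := by
    refine linearIndependent_option.2 ⟨hli, ?_⟩
    simp only [Function.comp_def, w, Option.elim_some, Option.elim_none, Subtype.range_coe_subtype,
      Set.ofPred_mem_eq]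
    rwa [hspan]
  have hrange : Submodule.span k (Set.range w) = Submodule.span k E ⊔ Submodule.span k {x} := by
    rw [← hspan, ← Submodule.span_union]
    congr 1
    ext y
    constructor
    · rintro ⟨(_ | i), rfl⟩
      · exact Or.inr rfl
      · exact Or.inl i.2
    · rintro (hy | rfl)
      · exact ⟨some ⟨y, hy⟩, rfl⟩
      · exact ⟨none, rfl⟩
  have hext : ∀ o, ∃ ℓ : V →ₗ[k] k, ∀ o', ℓ (w o') = if o' = o then 1 else 0 := by
    intro o
    obtain ⟨ℓ, hℓ⟩ := ((Module.Basis.span hw).coord o).exists_extend
    refine ⟨ℓ, fun o' => ?_⟩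
    have h1 := LinearMap.congr_fun hℓ (Module.Basis.span hw o')
    rw [LinearMap.comp_apply, Module.Basis.coord_apply, Module.Basis.repr_self, Finsupp.single_apply,
      Submodule.subtype_apply, Module.Basis.span_apply] at h1
    exact h1
  choose ℓ hℓ using hext
  have hexp : ∀ p ∈ Submodule.span k (Set.range w), p = ∑ o, ℓ o p • w o := by
    intro p hp
    induction hp using Submodule.span_induction with
    | mem y hy => obtain ⟨o, rfl⟩ := hy; simp [hℓ]
    | zero => simp
    | add p q _ _ hp hq => simp only [map_add, add_smul, Finset.sum_add_distrib, ← hp, ← hq]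
    | smul c p _ hp => simp only [map_smul, smul_eq_mul, mul_smul, ← Finset.smul_sum, ← hp]
  let f : Option t → A := fun o => H66.Coeff.coeff (C := A) (ℓ o) x
  have hxmem : x ∈ Submodule.span k E ⊔ Submodule.span k {x} :=
    Submodule.mem_sup_right (Submodule.mem_span_singleton_self x)
  have hcoact : HopfRep.Comod.coact (k := k) (A := A) x = ∑ o, w o ⊗ₜ[k] f o := by
    refine ext_contract fun ψ => ?_
    have h1 := hexp (dact V ψ x) (hrange.symm ▸ dact_mem hs ψ hxmem)
    rw [dact_apply] at h1
    rw [h1, map_sum]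
    refine Finset.sum_congr rfl fun o _ => ?_
    rw [contract_tmul]
    congr 1
    simp only [f, H66.Coeff.coeff_apply]
    induction HopfRep.Comod.coact (k := k) (A := A) x using TensorProduct.induction_on with
    | zero => simp
    | add p q hp hq => simp only [map_add, hp, hq]
    | tmul p q => simp [mul_comm]
  choose g hg using fun i : t => (htE i.2 : (i : V) ∈ E)
  have hi0 : ∀ i : t, (i : V) ≠ 0 := fun i => hli.ne_zero i
  have hgl : ∀ i, IsGroupLikeElem k (g i) := fun i => H66.Trigon.isGroupLike_of_coact (hi0 i) (hg i)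
  have hsome : ∀ i o, H66.Coeff.coeff (C := A) (ℓ o) (w (some i)) = if some i = o then g i else 0 := by
    intro i o
    rw [H66.Coeff.coeff_apply, show w (some i) = (i : V) from rfl, hg i, LinearMap.rTensor_tmul,
      TensorProduct.lid_tmul, show (i : V) = w (some i) from rfl, hℓ]
    split_ifs <;> simp
  have hcomul : ∀ o, CoalgebraStruct.comul (R := k) (f o) = ∑ o', H66.Coeff.coeff (C := A) (ℓ o) (w o') ⊗ₜ[k] f o' := by
    intro o
    simp only [f]
    rw [H66.Coeff.comul_coeff, hcoact, map_sum]
    exact Finset.sum_congr rfl fun o' _ => LinearMap.rTensor_tmul _ _ _ _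
  have hn : CoalgebraStruct.comul (R := k) (f none) = f none ⊗ₜ[k] f none := by
    rw [hcomul, Fintype.sum_option]
    simp only [hsome]
    simp [f, w]
  have hgn : IsGroupLikeElem k (f none) := by
    refine ⟨?_, hn⟩
    simp only [f]
    rw [H66.Coeff.counit_coeff, show x = w none from rfl, hℓ, if_pos rfl]
  have hc : ∀ i, ∃ c : k, f (some i) = c • (g i - f none) := by
    intro i
    refine eq_smul_of_comul hnp (hgl i) hgn ?_
    rw [hcomul, Fintype.sum_option, add_comm]
    simp only [hsome, Option.some.injEq]
    rw [Finset.sum_eq_single i (fun j _ hj => by rw [if_neg hj, TensorProduct.zero_tmul])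
      (fun h => absurd (Finset.mem_univ i) h), if_pos rfl]
    rfl
  choose c hc using hc
  refine hx ?_
  have hu : ∑ i : t, c i • (i : V) ∈ Submodule.span k E :=
    Submodule.sum_mem _ fun i _ => Submodule.smul_mem _ _ (Submodule.subset_span (htE i.2))
  have hy : x - ∑ i : t, c i • (i : V) ∈ E := by
    refine ⟨f none, ?_⟩
    rw [map_sub, map_sum, hcoact, Fintype.sum_option, TensorProduct.sub_tmul, TensorProduct.sum_tmul]
    simp only [map_smul, hg, hc, w, Option.elim_some, Option.elim_none, TensorProduct.tmul_smul,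
      TensorProduct.smul_tmul', TensorProduct.tmul_sub, smul_sub]
    rw [Finset.sum_sub_distrib]
    abel
  have := Submodule.add_mem _ (Submodule.subset_span (R := k) hy) hu
  rwa [sub_add_cancel] at this

end

end Groth.Agent.H66.DiagCrit
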