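import Groth.Prelude.Def_ComodTens
import Groth.Prelude.Def_ComodDual
import Groth.Agent.H66.Integral
import Groth.Agent.H66.DualHom
import Mathlib.RingTheory.HopfAlgebra.Convolution

/-!
Fixed vectors of `B ⊗ M^*` are the comodule maps `M → B`.
-/

universe u v w w'

open TensorProduct WithConv

set_option linter.unusedSectionVars false

namespace Groth.Agent.H66.FixedHom

noncomputable section

variable {k : Type u} [CommRing k] {A : Type v} [CommRing A] [HopfAlgebra k A]

local notation "S" => HopfAlgebraStruct.antipode (R := k) (A := A)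

theorem antipode_antipode (a : A) : S (S a) = a := by
  have h := inv_inv (toConv (AlgHom.id k A) : WithConv (A →ₐ[k] A))
  exact congrArg (fun f : WithConv (A →ₐ[k] A) => f.ofConv a) h

theorem antipode_lTensor_involutive {B : Type w} [AddCommGroup B] [Module k B] (x : B ⊗[k] A) :
    (S).lTensor B ((S).lTensor B x) = x := by
  rw [← LinearMap.lTensor_comp_apply, show S ∘ₗ S = LinearMap.id from LinearMap.ext antipode_antipode,
    LinearMap.lTensor_id_apply]

variable {B : Type w} [AddCommGroup B] [Module k B] (cB : HopfRep.Comod k A B)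
  {M : Type w'} [AddCommGroup M] [Module k M] {cM : HopfRep.Comod k A M}
  {d : HopfRep.Comod k A (Module.Dual k M)}

/-- `B ⊗ M^* → Hom(M, B)`. -/
def read : B ⊗[k] Module.Dual k M →ₗ[k] (M →ₗ[k] B) :=
  dualTensorHom k M B ∘ₗ (TensorProduct.comm k B (Module.Dual k M)).toLinearMap

/-- `(B ⊗ M^*) ⊗ A → Hom(M, B ⊗ A)`. -/
def read2 : (B ⊗[k] Module.Dual k M) ⊗[k] A →ₗ[k] (M →ₗ[k] B ⊗[k] A) :=
  dualTensorHom k M (B ⊗[k] A) ∘ₗ (TensorProduct.comm k (B ⊗[k] A) (Module.Dual k M)).toLinearMap ∘ₗ
    (TensorProduct.rightComm k B (Module.Dual k M) A).toLinearMap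

theorem read2_tmul_one (x : B ⊗[k] Module.Dual k M) (m : M) :
    read2 (x ⊗ₜ[k] (1 : A)) m = read x m ⊗ₜ[k] (1 : A) := by
  induction x using TensorProduct.induction_on with
  | zero => simp
  | add a b ha hb => simp only [TensorProduct.add_tmul, map_add, LinearMap.add_apply, ha, hb]
  | tmul b φ => simp [read, read2, TensorProduct.smul_tmul']

theorem read2_coact (hd : ComodTens.Comod.IsDual cM d) (x : B ⊗[k] Module.Dual k M) (m : M) :
    read2 ((ComodTens.Comod.tensor cB d).coact x) m =
      (letI := cB; Integral.shear B LinearMap.id (TensorProduct.map (read x) S (cM.coact m))) := by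
  induction x using TensorProduct.induction_on with
  | zero => simp
  | add a b ha hb =>
    simp only [map_add, LinearMap.add_apply, ha, hb, TensorProduct.map_add_left]
  | tmul b φ =>
    letI := cB
    rw [ComodTens.tensor_coact_tmul]
    have h1 : ∀ z : Module.Dual k M ⊗[k] A,
        read2 (TensorProduct.map LinearMap.id (LinearMap.mul' k A)
          (AlgebraTensorModule.tensorTensorTensorComm k k k k B A (Module.Dual k M) A
            (cB.coact b ⊗ₜ[k] z))) m =
        Integral.shear B LinearMap.id (b ⊗ₜ[k] dualTensorHom k M A z m) := by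
      intro z
      rw [Integral.shear_tmul, LinearMap.lTensor_id_apply]
      induction z using TensorProduct.induction_on with
      | zero => simp [Integral.rmul]
      | add p q hp hq =>
        simp only [TensorProduct.tmul_add, map_add, LinearMap.add_apply, hp, hq, Integral.rmul]
        rw [← LinearMap.add_apply, ← LinearMap.lTensor_add]
        congr 2
        ext; simp [mul_add]
      | tmul ψ a =>
        induction cB.coact b using TensorProduct.induction_on with
        | zero => simp
        | add p q hp hq => simp only [TensorProduct.add_tmul, map_add, LinearMap.add_apply, hp, hq]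
        | tmul p q => simp [read2, TensorProduct.tmul_smul]
    rw [h1, hd φ, ComodTens.dualCoactFun_apply]
    congr 1
    induction cM.coact m using TensorProduct.induction_on with
    | zero => simp
    | add p q hp hq => simp only [map_add, TensorProduct.tmul_add, hp, hq]
    | tmul p q => simp [read, TensorProduct.smul_tmul]

theorem mem_fixedPts_iff [Module.Flat k A] [Module.Flat k B] [Module.FinitePresentation k M]
    (hd : ComodTens.Comod.IsDual cM d) (x : B ⊗[k] Module.Dual k M) :
    x ∈ @HopfRep.fixedPts k A _ _ _ (B ⊗[k] Module.Dual k M) _ _ (ComodTens.Comod.tensor cB d) ↔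
      @Hoch.IsComodHom k _ A _ _ _ M _ _ cM B _ _ cB (read x) := by
  letI := cB
  have hinj : Function.Injective (read2 (k := k) (A := A) (B := B) (M := M)) :=
    (DualHom.bijective M (B ⊗[k] A)).1.comp ((TensorProduct.comm k (B ⊗[k] A) (Module.Dual k M)).injective.comp
      (TensorProduct.rightComm k B (Module.Dual k M) A).injective)
  change (ComodTens.Comod.tensor cB d).coact x = x ⊗ₜ[k] (1 : A) ↔ _
  rw [← hinj.eq_iff, LinearMap.ext_iff, Hoch.IsComodHom, LinearMap.ext_iff]
  refine forall_congr' fun m => ?_
  rw [read2_coact cB hd, read2_tmul_one]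
  have key : ∀ z : B ⊗[k] A, Integral.shear B LinearMap.id z = read x m ⊗ₜ[k] (1 : A) ↔
      z = (S).lTensor B (cB.coact (read x m)) := by
    intro z
    have h : Integral.shearInv B (read x m ⊗ₜ[k] (1 : A)) = (S).lTensor B (cB.coact (read x m)) := by
      rw [Integral.shearInv, Integral.shear_tmul, Integral.rmul, LinearMap.mulRight_one, LinearMap.lTensor_id_apply]
    rw [← h]
    exact ⟨fun e => by rw [← e, Integral.shearInv_shear], fun e => by rw [e, Integral.shear_shearInv]⟩
  rw [key]
  have hmap : TensorProduct.map (read x) S (cM.coact m) = (S).lTensor B ((read x).rTensor A (cM.coact m)) := by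
    induction cM.coact m using TensorProduct.induction_on with
    | zero => simp
    | add p q hp hq => simp only [map_add, hp, hq]
    | tmul p q => simp
  rw [hmap]
  exact ⟨fun e => ((congrArg ((S).lTensor B) e).symm.trans (antipode_lTensor_involutive _)) |>.symm.trans
    (antipode_lTensor_involutive _) |>.symm, fun e => by
      simp only [LinearMap.comp_apply] at e; rw [← e]⟩

end

end Groth.Agent.H66.FixedHom
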