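import Groth.Prelude.Def_Hoch
import Groth.Prelude.Def_CoactBr2
import Groth.Agent.H66.Tame
import Mathlib.LinearAlgebra.TensorProduct.Tower

/-!
Base change of the Hochschild complex of a comodule: the pieces of the differential.
-/

universe u v w

open TensorProduct

namespace Groth.Agent.H66.HochBC

variable {K : Type u} [CommRing K] {A : Type v} [CommRing A] [Bialgebra K A]
variable {R : Type w} [CommRing R] [Algebra K R]

theorem redComul_one_tmul (a : A) :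
    Hoch.redComul R (R ⊗[K] A) ((1 : R) ⊗ₜ[K] a) =
      AlgebraTensorModule.distribBaseChange K R A A ((1 : R) ⊗ₜ[K] Hoch.redComul K A a) := by
  rw [Hoch.redComul_apply, Hoch.redComul_apply, Algebra.TensorProduct.one_def, tmul_sub, tmul_sub,
    map_sub, map_sub, AlgebraTensorModule.distribBaseChange_tmul,
    AlgebraTensorModule.distribBaseChange_tmul]
  congr 2
  exact H66.Tame.comul_baseChange ((1 : R) ⊗ₜ[K] a)

theorem tail_natural {M : Type v} [AddCommGroup M] [Module K M]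
    {M' : Type (max w v)} [AddCommGroup M'] [Module R M']
    (f : R ⊗[K] M →ₗ[R] M') (g : R ⊗[K] (M ⊗[K] A) →ₗ[R] M' ⊗[R] (R ⊗[K] A))
    (g₂ : R ⊗[K] ((M ⊗[K] A) ⊗[K] A) →ₗ[R] (M' ⊗[R] (R ⊗[K] A)) ⊗[R] (R ⊗[K] A))
    (hg : ∀ r m a, g (r ⊗ₜ[K] (m ⊗ₜ[K] a)) = f (r ⊗ₜ[K] m) ⊗ₜ[R] ((1 : R) ⊗ₜ[K] a))
    (hg₂ : ∀ r p a, g₂ (r ⊗ₜ[K] (p ⊗ₜ[K] a)) = g (r ⊗ₜ[K] p) ⊗ₜ[R] ((1 : R) ⊗ₜ[K] a))
    (r : R) (z : M ⊗[K] A) :
    g₂ (r ⊗ₜ[K] Hoch.tail K A M z) = Hoch.tail R (R ⊗[K] A) M' (g (r ⊗ₜ[K] z)) := by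
  have key : ∀ (m : M) (t : A ⊗[K] A), g₂ (r ⊗ₜ[K] (TensorProduct.assoc K M A A).symm (m ⊗ₜ[K] t)) =
      (TensorProduct.assoc R M' (R ⊗[K] A) (R ⊗[K] A)).symm
        (f (r ⊗ₜ[K] m) ⊗ₜ[R] AlgebraTensorModule.distribBaseChange K R A A ((1 : R) ⊗ₜ[K] t)) := by
    intro m t
    induction t using TensorProduct.induction_on with
    | zero => simp
    | add x y hx hy => simp only [tmul_add, map_add, hx, hy]
    | tmul x y =>
      rw [TensorProduct.assoc_symm_tmul, hg₂, hg, AlgebraTensorModule.distribBaseChange_tmul,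
        TensorProduct.assoc_symm_tmul]
  induction z using TensorProduct.induction_on with
  | zero => simp
  | add x y hx hy => simp only [map_add, tmul_add, hx, hy]
  | tmul m a =>
    rw [hg, Hoch.tail_tmul, Hoch.tail_tmul, ← Hoch.redComul_apply, ← Hoch.redComul_apply,
      redComul_one_tmul]
    exact key m (Hoch.redComul K A a)

end Groth.Agent.H66.HochBC
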