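import Groth.Agent.H66.Integral
import Mathlib.RingTheory.Spectrum.Prime.Basic
import Mathlib.RingTheory.Ideal.Maximal

/-!
Contraction of ideals to the invariants of a tame action.
-/

universe u v w

open TensorProduct

set_option linter.unusedSectionVars false

namespace Groth.Agent.H66.InvIdeal

noncomputable section

variable {k : Type u} [CommRing k] {A : Type v} [CommRing A] [HopfAlgebra k A]
variable {B : Type w} [CommRing B] [Algebra k B] [HopfRep.Comod k A B] [GLin.IsCoactAlg k A B]
variable {α : A →ₗ[k] B}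

local notation "C" => GLin.invariants k A B

/-- The projection onto the invariants, as a map into the invariants. -/
def proj (hα : Hoch.IsComodHom A α) (b : B) : C :=
  haveI := Integral.isHopfMod_self (k := k) (A := A) (B := B)
  ⟨TameAct.reynolds k A B B α b, (GLin.mem_invariants_iff k A B _).2 (Integral.reynolds_mem hα b)⟩

theorem proj_coe (hα : Hoch.IsComodHom A α) (b : B) :
    (proj hα b : B) = TameAct.reynolds k A B B α b := rfl

theorem proj_add (hα : Hoch.IsComodHom A α) (b b' : B) : proj hα (b + b') = proj hα b + proj hα b' :=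
  Subtype.ext (map_add (TameAct.reynolds k A B B α) b b')

theorem proj_mul (hα : Hoch.IsComodHom A α) (c : C) (b : B) : proj hα ((c : B) * b) = c * proj hα b := by
  haveI := Integral.isHopfMod_self (k := k) (A := A) (B := B)
  refine Subtype.ext (Integral.reynolds_natural (LinearMap.mulLeft B (c : B))
    (LinearMap.ext fun x => ?_) b).symm
  have hc := (GLin.mem_invariants_iff k A B _).1 c.2
  simp only [LinearMap.comp_apply, LinearMap.restrictScalars_apply, LinearMap.mulLeft_apply]
  rw [← GLin.coactAlgHom_apply, map_mul, GLin.coactAlgHom_apply, GLin.coactAlgHom_apply, hc]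
  induction HopfRep.Comod.coact (k := k) (A := A) x using TensorProduct.induction_on with
  | zero => simp
  | add r s hr hs => simp only [map_add, mul_add, hr, hs]
  | tmul r s => simp

theorem proj_self (hα : Hoch.IsComodHom A α) (hα1 : α 1 = 1) (c : C) : proj hα (c : B) = c :=
  haveI := Integral.isHopfMod_self (k := k) (A := A) (B := B)
  Subtype.ext (Integral.reynolds_eq_self hα1 ((GLin.mem_invariants_iff k A B _).1 c.2))

theorem reynolds_mem_ideal (b : Ideal B) (hb : HopfRep.IsSubcomod (k := k) (A := A) (b.restrictScalars k))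
    {z : B} (hz : z ∈ b) : TameAct.reynolds k A B B α z ∈ b := by
  obtain ⟨y, hy⟩ := hb z hz
  simp only [TameAct.reynolds, LinearMap.comp_apply, ← hy]
  clear hy
  induction y using TensorProduct.induction_on with
  | zero => simp
  | add r s hr hs => simp only [map_add]; exact b.add_mem hr hs
  | tmul r s =>
    simp only [LinearMap.rTensor_tmul, TensorProduct.lift.tmul, LinearMap.flip_apply, LinearMap.comp_apply]
    exact b.mul_mem_left _ r.2

theorem proj_mem_of_mem_map (hα : Hoch.IsComodHom A α) (p : Ideal C) {y : B}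
    (hy : y ∈ p.map (algebraMap C B)) : proj hα y ∈ p := by
  suffices h : ∀ b : B, proj hα (b * y) ∈ p by simpa using h 1
  refine Submodule.span_induction (p := fun y _ => ∀ b : B, proj hα (b * y) ∈ p) ?_ ?_ ?_ ?_ hy
  · rintro _ ⟨c, hc, rfl⟩ b
    rw [mul_comm, show (algebraMap C B) c = (c : B) from rfl, proj_mul]
    exact p.mul_mem_right _ hc
  · intro b
    rw [mul_zero, show proj hα (0 : B) = 0 from Subtype.ext (map_zero (TameAct.reynolds k A B B α))]
    exact p.zero_mem
  · intro x y _ _ hx hy b
    rw [mul_add, proj_add]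
    exact p.add_mem (hx b) (hy b)
  · intro a x _ hx b
    rw [smul_eq_mul, ← mul_assoc]
    exact hx _

/-- An invariant element of `p B + b` lies in `p` when `b ∩ C ⊆ p`. -/
theorem comap_sup_eq (hα : Hoch.IsComodHom A α) (hα1 : α 1 = 1) (b : Ideal B)
    (hb : HopfRep.IsSubcomod (k := k) (A := A) (b.restrictScalars k)) (p : Ideal C)
    (hp : b.comap (algebraMap C B) ≤ p) : (p.map (algebraMap C B) ⊔ b).comap (algebraMap C B) = p := by
  refine le_antisymm (fun x hx => ?_) fun x hx => Submodule.mem_sup_left (Ideal.mem_map_of_mem _ hx)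
  obtain ⟨y, hy, z, hz, h⟩ := Submodule.mem_sup.1 (Ideal.mem_comap.1 hx)
  rw [← proj_self hα hα1 x, ← show y + z = (x : B) from h, proj_add]
  refine p.add_mem (proj_mem_of_mem_map hα p hy) (hp (Ideal.mem_comap.2 ?_))
  exact reynolds_mem_ideal b hb hz

theorem isSubcomod_bot : HopfRep.IsSubcomod (k := k) (A := A) ((⊥ : Ideal B).restrictScalars k) := by
  intro w hw
  rw [Submodule.restrictScalars_mem, Submodule.mem_bot] at hw
  rw [hw, map_zero]
  exact Submodule.zero_mem _

theorem comap_map_eq (hα : Hoch.IsComodHom A α) (hα1 : α 1 = 1) (p : Ideal C) :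
    (p.map (algebraMap C B)).comap (algebraMap C B) = p := by
  have h := comap_sup_eq hα hα1 ⊥ isSubcomod_bot p (fun x hx => by
    rw [Ideal.mem_comap, Ideal.mem_bot] at hx
    have hx' : x = 0 := Subtype.ext hx
    rw [hx']; exact p.zero_mem)
  rwa [sup_bot_eq] at h

/-- Primes of the invariants containing `b ∩ C` lift to primes containing `b`. -/
theorem exists_prime_over (hα : Hoch.IsComodHom A α) (hα1 : α 1 = 1) (b : Ideal B)
    (hb : HopfRep.IsSubcomod (k := k) (A := A) (b.restrictScalars k)) (p : PrimeSpectrum C)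
    (hp : b.comap (algebraMap C B) ≤ p.asIdeal) :
    ∃ q : PrimeSpectrum B, b ≤ q.asIdeal ∧ PrimeSpectrum.comap (algebraMap C B) q = p := by
  have hdis : Disjoint ((p.asIdeal.map (algebraMap C B) ⊔ b : Ideal B) : Set B)
      (p.asIdeal.primeCompl.map (algebraMap C B) : Set B) := by
    rw [Set.disjoint_left]
    rintro _ hx ⟨c, hc, rfl⟩
    exact hc ((comap_sup_eq hα hα1 b hb p.asIdeal hp).le (Ideal.mem_comap.2 hx))
  obtain ⟨q, hq, hle, hqd⟩ := Ideal.exists_le_prime_disjoint _ _ hdis
  refine ⟨⟨q, hq⟩, le_sup_right.trans hle, PrimeSpectrum.ext (le_antisymm (fun c hc => ?_) fun c hc => ?_)⟩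
  · by_contra hcp
    exact Set.disjoint_left.1 hqd (Ideal.mem_comap.1 hc) ⟨c, hcp, rfl⟩
  · exact Ideal.mem_comap.2 (hle (Submodule.mem_sup_left (Ideal.mem_map_of_mem _ hc)))

end

end Groth.Agent.H66.InvIdeal
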