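import Groth.Agent.H66.ExactSeq
import Groth.Agent.H66.Tame
import Groth.Agent.H66.LinRed
import Groth.Agent.H66.Passage

/-!
Linear reductivity in exact sequences.
-/

universe u

open TensorProduct Groth.Agent.Lib.Comod.Basic

set_option linter.unusedSectionVars false
set_option linter.style.haveILetI false

namespace Groth.Agent.H66.LinRedExt

noncomputable section

attribute [local instance 2000] TensorProduct.leftModule

variable {k : Type u} [Field k] {G : Type u} [CommRing G] [HopfAlgebra k G]
variable {K : Type u} [CommRing K] [HopfAlgebra k K]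
variable (S : Subalgebra k G) (ψ : G →ₐc[k] K)

/-- `a ⊗ b ↦ a ⊗_S b`. -/
def prj : G ⊗[k] G →ₐ[k] G ⊗[S] G :=
  Algebra.TensorProduct.lift ((Algebra.TensorProduct.includeLeft (R := S) (S := S)).restrictScalars k)
    ((Algebra.TensorProduct.includeRight (R := S)).restrictScalars k) fun _ _ => Commute.all _ _

theorem prj_tmul (x y : G) : prj S (x ⊗ₜ[k] y) = x ⊗ₜ[S] y := by simp [prj]

/-- `b ↦ S b₁ ⊗_S b₂`. -/
def lam : G →ₐ[k] G ⊗[S] G :=
  (prj S).comp ((Algebra.TensorProduct.map (HopfAlgebra.antipodeAlgHom k G) (AlgHom.id k G)).comp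
    (Bialgebra.comulAlgHom k G))

theorem lam_apply (x : G) :
    lam S x = prj S ((HopfAlgebra.antipodeAlgHom k G).toLinearMap.rTensor G (CoalgebraStruct.comul (R := k) x)) := rfl

variable {S}

theorem lam_of_mem (hS : ∀ b ∈ S, CoalgebraStruct.comul (R := k) b ∈
      LinearMap.range (TensorProduct.map S.val.toLinearMap S.val.toLinearMap))
    (hanti : ∀ b ∈ S, HopfAlgebraStruct.antipode (R := k) b ∈ S) {s : G} (hs : s ∈ S) :
    lam S s = algebraMap k _ (CoalgebraStruct.counit (R := k) s) := by
  let Sa : G →ₐ[k] G := HopfAlgebra.antipodeAlgHom k G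
  obtain ⟨z, hz⟩ := hS s hs
  have key : ∀ z : S ⊗[k] S,
      prj S (Sa.toLinearMap.rTensor G (TensorProduct.map S.val.toLinearMap S.val.toLinearMap z)) =
        prj S ((LinearMap.mul' k G (Sa.toLinearMap.rTensor G (TensorProduct.map S.val.toLinearMap S.val.toLinearMap z))) ⊗ₜ[k] (1 : G)) := by
    intro z
    induction z using TensorProduct.induction_on with
    | zero => simp
    | add p q hp hq => simp only [map_add, TensorProduct.add_tmul, hp, hq]
    | tmul p q =>
      simp only [TensorProduct.map_tmul, LinearMap.rTensor_tmul, LinearMap.mul'_apply, AlgHom.toLinearMap_apply, prj_tmul,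
        Subalgebra.coe_val]
      rw [show (q : G) = q • (1 : G) by rw [Subalgebra.smul_def, smul_eq_mul, mul_one], ← TensorProduct.smul_tmul,
        Subalgebra.smul_def, smul_eq_mul, mul_comm]
      simp [Subalgebra.smul_def, mul_comm]
  rw [lam_apply, ← hz, key, hz]
  have h1 : LinearMap.mul' k G (Sa.toLinearMap.rTensor G (CoalgebraStruct.comul (R := k) s)) =
      algebraMap k G (CoalgebraStruct.counit (R := k) s) := HopfAlgebra.mul_antipode_rTensor_comul_apply s
  rw [h1, show algebraMap k G (CoalgebraStruct.counit (R := k) s) ⊗ₜ[k] (1 : G) =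
    algebraMap k (G ⊗[k] G) (CoalgebraStruct.counit (R := k) s) from rfl, AlgHom.commutes]

/-- Data of an exact sequence. -/
structure Seq : Prop where
  comul_mem : ∀ b ∈ S, CoalgebraStruct.comul (R := k) b ∈
      LinearMap.range (TensorProduct.map S.val.toLinearMap S.val.toLinearMap)
  antipode_mem : ∀ b ∈ S, HopfAlgebraStruct.antipode (R := k) b ∈ S
  surjective : Function.Surjective ψ
  apply_mem : ∀ s ∈ S, ψ s = algebraMap k K (CoalgebraStruct.counit (R := k) s)
  ker_le : RingHom.ker (ψ : G →ₐ[k] K) ≤ Ideal.span {a | a ∈ S ∧ CoalgebraStruct.counit (R := k) a = 0}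

variable {ψ} (H : Seq (S := S) ψ)

/-- A linear section of `ψ`. -/
def sec : K →ₗ[k] G :=
  Classical.choose ((ψ : G →ₐ[k] K).toLinearMap.exists_rightInverse_of_surjective
    (LinearMap.range_eq_top.2 H.surjective))

theorem apply_sec (c : K) : ψ (sec H c) = c :=
  LinearMap.congr_fun (Classical.choose_spec ((ψ : G →ₐ[k] K).toLinearMap.exists_rightInverse_of_surjective
    (LinearMap.range_eq_top.2 H.surjective))) c

/-- The descent of `lam` to the quotient. -/
def gam : K →ₗ[k] G ⊗[S] G := (lam S).toLinearMap ∘ₗ sec H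

theorem gam_apply (b : G) : gam H (ψ b) = lam S b := by
  have h1 : Ideal.span {a | a ∈ S ∧ CoalgebraStruct.counit (R := k) a = 0} ≤ RingHom.ker (lam S) := by
    rw [Ideal.span_le]
    rintro s ⟨hs, hs0⟩
    rw [SetLike.mem_coe, RingHom.mem_ker, lam_of_mem H.comul_mem H.antipode_mem hs, hs0, map_zero]
  have h2 : sec H (ψ b) - b ∈ RingHom.ker (ψ : G →ₐ[k] K) := by
    rw [RingHom.mem_ker, map_sub, sub_eq_zero]
    exact apply_sec H _
  have h3 : lam S (sec H (ψ b) - b) = 0 := h1 (H.ker_le h2)
  rw [map_sub, sub_eq_zero] at h3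
  exact h3

variable (ψ) in
/-- The right coaction of the subgroup on the regular comodule. -/
def r : G →ₐ[k] G ⊗[k] K :=
  (Algebra.TensorProduct.map (AlgHom.id k G) (ψ : G →ₐ[k] K)).comp (Bialgebra.comulAlgHom k G)

theorem r_apply (b : G) :
    r ψ b = (ψ : G →ₐ[k] K).toLinearMap.lTensor G (CoalgebraStruct.comul (R := k) b) := rfl

include H in
theorem r_mem {s : G} (hs : s ∈ S) : r ψ s = s ⊗ₜ[k] (1 : K) := by
  obtain ⟨z, hz⟩ := H.comul_mem s hs
  have key : ∀ z : S ⊗[k] S, (ψ : G →ₐ[k] K).toLinearMap.lTensor G (TensorProduct.map S.val.toLinearMap S.val.toLinearMap z) =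
      (TensorProduct.rid k G ((CoalgebraStruct.counit (R := k) (A := G)).lTensor G
        (TensorProduct.map S.val.toLinearMap S.val.toLinearMap z))) ⊗ₜ[k] (1 : K) := by
    intro z
    induction z using TensorProduct.induction_on with
    | zero => simp
    | add p q hp hq => simp only [map_add, TensorProduct.add_tmul, hp, hq]
    | tmul p q =>
      simp only [TensorProduct.map_tmul, LinearMap.lTensor_tmul, AlgHom.toLinearMap_apply, Subalgebra.coe_val,
        TensorProduct.rid_tmul]
      rw [show (ψ : G →ₐ[k] K) (q : G) = ψ (q : G) from rfl, H.apply_mem _ q.2, Algebra.algebraMap_eq_smul_one,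
        TensorProduct.smul_tmul]
  rw [r_apply, ← hz, key, hz, Coalgebra.lTensor_counit_comul, TensorProduct.rid_tmul, one_smul]

/-- `r` is linear over the subalgebra. -/
def rS : G →ₗ[S] G ⊗[k] K where
  toFun := r ψ
  map_add' := map_add _
  map_smul' s b := by
    rw [Subalgebra.smul_def, smul_eq_mul, map_mul, r_mem H s.2, RingHom.id_apply]
    induction r ψ b using TensorProduct.induction_on with
    | zero => rw [mul_zero]; exact (smul_zero s).symm
    | add p q hp hq => rw [mul_add, hp, hq]; exact (smul_add s p q).symm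
    | tmul p q => rw [Algebra.TensorProduct.tmul_mul_tmul, one_mul, TensorProduct.smul_tmul', Subalgebra.smul_def, smul_eq_mul]

theorem rS_apply (b : G) : rS H b = r ψ b := rfl

variable (S) in
/-- Reassociation. -/
def J (M : Type u) [AddCommGroup M] [Module k M] [Module S M] [IsScalarTower k S M] (P : Type u) [AddCommGroup P]
    [Module k P] : (G ⊗[S] M) ⊗[k] P ≃ₗ[G] G ⊗[S] (M ⊗[k] P) :=
  AlgebraTensorModule.assoc k S G G M P

@[simp] theorem J_tmul {M : Type u} [AddCommGroup M] [Module k M] [Module S M] [IsScalarTower k S M] {P : Type u}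
    [AddCommGroup P] [Module k P] (g : G) (m : M) (p : P) : J S M P ((g ⊗ₜ[S] m) ⊗ₜ[k] p) = g ⊗ₜ[S] (m ⊗ₜ[k] p) := rfl

theorem lTensor_rS_lam (b : G) :
    (rS H).lTensor G (lam S b) =
      J S G K (TensorProduct.map (lam S).toLinearMap (ψ : G →ₐ[k] K).toLinearMap (CoalgebraStruct.comul (R := k) b)) := by
  let Sa : G →ₐ[k] G := HopfAlgebra.antipodeAlgHom k G
  let L2 : (G ⊗[k] G) ⊗[k] G →ₗ[k] G ⊗[S] (G ⊗[k] K) :=
    (J S G K).toLinearMap.restrictScalars k ∘ₗ
      TensorProduct.map ((prj S).toLinearMap ∘ₗ Sa.toLinearMap.rTensor G) (ψ : G →ₐ[k] K).toLinearMap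
  have h1 : ∀ z : G ⊗[k] G, (rS H).lTensor G (prj S (Sa.toLinearMap.rTensor G z)) =
      L2 ((TensorProduct.assoc k G G G).symm ((CoalgebraStruct.comul (R := k)).lTensor G z)) := by
    intro z
    induction z using TensorProduct.induction_on with
    | zero => simp
    | add p q hp hq => simp only [map_add, hp, hq]
    | tmul p q =>
      simp only [LinearMap.rTensor_tmul, LinearMap.lTensor_tmul, prj_tmul, rS_apply, r_apply]
      induction CoalgebraStruct.comul (R := k) q using TensorProduct.induction_on with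
      | zero => simp
      | add x y hx hy => simp only [map_add, TensorProduct.tmul_add, hx, hy]
      | tmul x y =>
        simp [L2, prj_tmul]
        try rfl
  rw [lam_apply, h1, Coalgebra.coassoc_symm_apply]
  induction CoalgebraStruct.comul (R := k) b using TensorProduct.induction_on with
  | zero => simp
  | add x y hx hy => simp only [map_add, hx, hy]
  | tmul x y => rfl

theorem lTensor_rS_gam (c : K) :
    (rS H).lTensor G (gam H c) =
      J S G K ((gam H).rTensor K (CoalgebraStruct.comul (R := k) c)) := by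
  obtain ⟨b, rfl⟩ := H.surjective c
  rw [gam_apply, lTensor_rS_lam, ← CoalgHomClass.map_comp_comul_apply ψ b]
  congr 1
  induction CoalgebraStruct.comul (R := k) b using TensorProduct.induction_on with
  | zero => simp
  | add x y hx hy => simp only [map_add, hx, hy]
  | tmul x y =>
    simp only [TensorProduct.map_tmul, LinearMap.rTensor_tmul, AlgHom.toLinearMap_apply]
    change lam S x ⊗ₜ[k] ψ y = gam H (ψ x) ⊗ₜ[k] ψ y
    rw [gam_apply]

section Comod

variable (V : Type u) [AddCommGroup V] [Module k V] [HopfRep.Comod k K V]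

variable (S) in
/-- `(b ⊗ c) ⊗ (v ⊗ d) ↦ (b ⊗ v) ⊗ cd`. -/
def comb : (G ⊗[k] K) ⊗[k] (V ⊗[k] K) →ₗ[S] (G ⊗[k] V) ⊗[k] K :=
  AlgebraTensorModule.map LinearMap.id (LinearMap.mul' k K) ∘ₗ
    (AlgebraTensorModule.tensorTensorTensorComm k k k S G K V K).toLinearMap

theorem comb_tmul (b : G) (c : K) (v : V) (d : K) :
    comb S V ((b ⊗ₜ[k] c) ⊗ₜ[k] (v ⊗ₜ[k] d)) = (b ⊗ₜ[k] v) ⊗ₜ[k] (c * d) := by
  simp [comb]

/-- The diagonal coaction of the subgroup on `G ⊗ V`. -/
def rho : G ⊗[k] V →ₗ[S] (G ⊗[k] V) ⊗[k] K :=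
  comb S V ∘ₗ AlgebraTensorModule.map (rS H) (HopfRep.Comod.coact (k := k) (A := K) (V := V))

theorem rho_tmul (b : G) (v : V) :
    rho H V (b ⊗ₜ[k] v) = comb S V (r ψ b ⊗ₜ[k] HopfRep.Comod.coact (k := k) (A := K) v) := rfl

variable (S) in
/-- `m ↦ m ⊗ 1`. -/
def oneR : G ⊗[k] V →ₗ[S] (G ⊗[k] V) ⊗[k] K where
  toFun m := m ⊗ₜ[k] (1 : K)
  map_add' x y := TensorProduct.add_tmul x y _
  map_smul' s x := (TensorProduct.smul_tmul' s x (1 : K)).symm

theorem oneR_apply (m : G ⊗[k] V) : oneR (K := K) S V m = m ⊗ₜ[k] (1 : K) := rfl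

variable (S) in
/-- `m ↦ m ⊗ (-1)`. -/
def negR : G ⊗[k] V →ₗ[S] (G ⊗[k] V) ⊗[k] K where
  toFun m := m ⊗ₜ[k] (-1 : K)
  map_add' x y := TensorProduct.add_tmul x y _
  map_smul' s x := (TensorProduct.smul_tmul' s x (-1 : K)).symm

/-- `m ↦ ρ m - m ⊗ 1`. -/
def dee : G ⊗[k] V →ₗ[S] (G ⊗[k] V) ⊗[k] K := rho H V + negR (K := K) S V

theorem dee_apply (m : G ⊗[k] V) : dee H V m = rho H V m - m ⊗ₜ[k] (1 : K) :=
  (congrArg (fun t => rho H V m + t) (TensorProduct.tmul_neg m (1 : K))).trans
    (sub_eq_add_neg (rho H V m) (m ⊗ₜ[k] (1 : K))).symm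

/-- The invariants. -/
def inv : Submodule S (G ⊗[k] V) := LinearMap.ker (dee H V)

theorem mem_inv {z : G ⊗[k] V} : z ∈ inv H V ↔ rho H V z = z ⊗ₜ[k] (1 : K) := by
  rw [inv, LinearMap.mem_ker, dee_apply, sub_eq_zero]

/-- The lift of a vector. -/
def theta : V ⊗[k] K →ₗ[k] G ⊗[S] (G ⊗[k] V) :=
  (J S G V).toLinearMap.restrictScalars k ∘ₗ
    (gam H ∘ₗ HopfAlgebraStruct.antipode (R := k) (A := K)).rTensor V ∘ₗ
      (TensorProduct.comm k V K).toLinearMap

theorem theta_tmul (v : V) (c : K) :
    theta H V (v ⊗ₜ[k] c) = J S G V (gam H (HopfAlgebraStruct.antipode (R := k) c) ⊗ₜ[k] v) := rfl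

/-- `(g ⊗ c) ⊗ (v ⊗ d) ↦ (g ⊗ v) ⊗ cd`. -/
def comb2 : ((G ⊗[S] G) ⊗[k] K) ⊗[k] (V ⊗[k] K) →ₗ[k] G ⊗[S] ((G ⊗[k] V) ⊗[k] K) :=
  (J S (G ⊗[k] V) K).toLinearMap.restrictScalars k ∘ₗ
    TensorProduct.map ((J S G V).toLinearMap.restrictScalars k) (LinearMap.mul' k K) ∘ₗ
      (TensorProduct.tensorTensorTensorComm k (G ⊗[S] G) K V K).toLinearMap

theorem comb2_tmul (g : G ⊗[S] G) (c : K) (v : V) (d : K) :
    comb2 (S := S) V ((g ⊗ₜ[k] c) ⊗ₜ[k] (v ⊗ₜ[k] d)) =
      J S (G ⊗[k] V) K (J S G V (g ⊗ₜ[k] v) ⊗ₜ[k] (c * d)) := rfl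

theorem lTensor_rho (g : G ⊗[S] G) (v : V) :
    (rho H V).lTensor G (J S G V (g ⊗ₜ[k] v)) =
      comb2 (S := S) V ((J S G K).symm ((rS H).lTensor G g) ⊗ₜ[k] HopfRep.Comod.coact (k := k) (A := K) v) := by
  induction g using TensorProduct.induction_on with
  | zero => simp
  | add p q hp hq => simp only [map_add, TensorProduct.add_tmul, hp, hq]
  | tmul a b =>
    rw [J_tmul, LinearMap.lTensor_tmul, LinearMap.lTensor_tmul, rho_tmul, rS_apply]
    induction r ψ b using TensorProduct.induction_on with
    | zero => simp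
    | add p q hp hq => simp only [TensorProduct.tmul_add, map_add, TensorProduct.add_tmul, hp, hq]
    | tmul b c =>
      rw [show (J S G K).symm (a ⊗ₜ[S] (b ⊗ₜ[k] c)) = (a ⊗ₜ[S] b) ⊗ₜ[k] c from rfl]
      induction HopfRep.Comod.coact (k := k) (A := K) v using TensorProduct.induction_on with
      | zero => simp
      | add p q hp hq => simp only [TensorProduct.tmul_add, map_add, hp, hq]
      | tmul w d => rw [comb_tmul, comb2_tmul, J_tmul, J_tmul]

theorem theta_inv (v : V) :
    LinearMap.lTensor G (dee H V) (theta H V (HopfRep.Comod.coact (k := k) (A := K) v)) = 0 := by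
  let SK := HopfAlgebraStruct.antipode (R := k) (A := K)
  let Hm : (V ⊗[k] K) ⊗[k] K →ₗ[k] G ⊗[S] ((G ⊗[k] V) ⊗[k] K) :=
    comb2 (S := S) V ∘ₗ ((gam H).rTensor K ∘ₗ CoalgebraStruct.comul (R := k) ∘ₗ SK).rTensor (V ⊗[k] K) ∘ₗ
      (TensorProduct.comm k (V ⊗[k] K) K).toLinearMap
  have hA : ∀ x : V ⊗[k] K, (rho H V).lTensor G (theta H V x) =
      Hm ((HopfRep.Comod.coact (k := k) (A := K) (V := V)).rTensor K x) := by
    intro x
    induction x using TensorProduct.induction_on with
    | zero => simp
    | add p q hp hq => simp only [map_add, hp, hq]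
    | tmul w c =>
      rw [theta_tmul, lTensor_rho, lTensor_rS_gam, LinearEquiv.symm_apply_apply]
      simp [Hm, SK]
  have hcoassoc : (HopfRep.Comod.coact (k := k) (A := K) (V := V)).rTensor K (HopfRep.Comod.coact (k := k) (A := K) v) =
      (TensorProduct.assoc k V K K).symm
        ((CoalgebraStruct.comul (R := k)).lTensor V (HopfRep.Comod.coact (k := k) (A := K) v)) := by
    rw [LinearEquiv.eq_symm_apply]
    exact LinearMap.congr_fun (HopfRep.Comod.coassoc (k := k) (A := K) (V := V)) v
  have hsub : ∀ m : G ⊗[S] (G ⊗[k] V), LinearMap.lTensor G (dee H V) m =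
      (rho H V).lTensor G m - (oneR (K := K) S V).lTensor G m := by
    intro m
    induction m using TensorProduct.induction_on with
    | zero => rw [map_zero, map_zero, map_zero, sub_zero]
    | add p q hp hq => rw [map_add, map_add, map_add, hp, hq]; exact (add_sub_add_comm _ _ _ _).symm
    | tmul a m =>
      rw [LinearMap.lTensor_tmul, LinearMap.lTensor_tmul, LinearMap.lTensor_tmul, dee_apply, oneR_apply]
      exact TensorProduct.tmul_sub a _ _
  rw [hsub, hA, hcoassoc, sub_eq_zero]
  generalize HopfRep.Comod.coact (k := k) (A := K) v = x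
  induction x using TensorProduct.induction_on with
  | zero => simp
  | add p q hp hq => simp only [map_add, hp, hq]
  | tmul w c =>
    let L : K ⊗[k] K →ₗ[k] G ⊗[S] ((G ⊗[k] V) ⊗[k] K) :=
      (J S (G ⊗[k] V) K).toLinearMap.restrictScalars k ∘ₗ
        (((J S G V).toLinearMap.restrictScalars k) ∘ₗ (TensorProduct.mk k (G ⊗[S] G) V).flip w ∘ₗ gam H).rTensor K
    let G3 : K ⊗[k] (K ⊗[k] K) →ₗ[k] K ⊗[k] K :=
      (TensorProduct.comm k K K).toLinearMap ∘ₗ TensorProduct.map (LinearMap.mul' k K) SK ∘ₗ
        (TensorProduct.assoc k K K K).symm.toLinearMap ∘ₗ (SK.rTensor K).lTensor K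
    have h1 : ∀ z : K ⊗[k] K, Hm ((TensorProduct.assoc k V K K).symm (w ⊗ₜ[k] z)) =
        L (G3 ((CoalgebraStruct.comul (R := k)).lTensor K z)) := by
      intro z
      induction z using TensorProduct.induction_on with
      | zero => simp
      | add p q hp hq => simp only [TensorProduct.tmul_add, map_add, hp, hq]
      | tmul a b =>
        simp only [Hm, LinearMap.comp_apply, LinearEquiv.coe_coe, TensorProduct.assoc_symm_tmul, TensorProduct.comm_tmul,
          LinearMap.rTensor_tmul, LinearMap.lTensor_tmul]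
        rw [show CoalgebraStruct.comul (R := k) (SK b) = _ from H66.Passage.comul_antipode (k := k) (A := K) b]
        induction CoalgebraStruct.comul (R := k) b using TensorProduct.induction_on with
        | zero => simp
        | add p q hp hq => simp only [TensorProduct.tmul_add, map_add, TensorProduct.add_tmul, hp, hq]
        | tmul p q => simp [L, G3, SK, comb2_tmul, mul_comm]
    have h2 : ∀ z : K ⊗[k] K, G3 (TensorProduct.assoc k K K K ((CoalgebraStruct.comul (R := k)).rTensor K z)) =
        (SK (TensorProduct.lid k K ((CoalgebraStruct.counit (R := k) (A := K)).rTensor K z))) ⊗ₜ[k] (1 : K) := by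
      intro z
      induction z using TensorProduct.induction_on with
      | zero => simp
      | add p q hp hq => simp only [map_add, TensorProduct.add_tmul, hp, hq]
      | tmul a b =>
        have e : LinearMap.mul' k K (SK.lTensor K (CoalgebraStruct.comul (R := k) a)) =
            algebraMap k K (CoalgebraStruct.counit (R := k) a) := HopfAlgebra.mul_antipode_lTensor_comul_apply a
        have e2 : ∀ y : K ⊗[k] K, G3 (TensorProduct.assoc k K K K (y ⊗ₜ[k] b)) =
            SK b ⊗ₜ[k] LinearMap.mul' k K (SK.lTensor K y) := by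
          intro y
          induction y using TensorProduct.induction_on with
          | zero => simp
          | add p q hp hq => simp only [map_add, TensorProduct.add_tmul, TensorProduct.tmul_add, hp, hq]
          | tmul p q => simp [G3, SK]
        simp only [LinearMap.rTensor_tmul, TensorProduct.lid_tmul]
        rw [e2, e, Algebra.algebraMap_eq_smul_one, map_smul, TensorProduct.smul_tmul]
    rw [LinearMap.lTensor_tmul, h1, ← Coalgebra.coassoc_apply, h2, Coalgebra.rTensor_counit_comul,
      TensorProduct.lid_tmul, one_smul, theta_tmul]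
    simp only [L, LinearMap.comp_apply, LinearMap.rTensor_tmul, LinearMap.flip_apply, TensorProduct.mk_apply,
      LinearMap.restrictScalars_apply, LinearEquiv.coe_coe]
    induction J S G V (gam H (SK c) ⊗ₜ[k] w) using TensorProduct.induction_on with
    | zero => simp
    | add p q hp hq => simp only [map_add, TensorProduct.add_tmul, hp, hq]
    | tmul p q => rw [J_tmul, LinearMap.lTensor_tmul, oneR_apply]

variable {V} (π : V →ₗ[k] k)

variable (S) in
/-- `b ⊗ v ↦ π(v) b`. -/
def evalP : G ⊗[k] V →ₗ[S] G :=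
  (AlgebraTensorModule.rid k S G).toLinearMap ∘ₗ AlgebraTensorModule.map LinearMap.id π

theorem evalP_tmul (b : G) (v : V) : evalP S π (b ⊗ₜ[k] v) = π v • b := by simp [evalP]

variable (hπ : ∀ v : V, π.rTensor K (HopfRep.Comod.coact (k := k) (A := K) v) = π v ⊗ₜ[k] (1 : K))

include hπ in
theorem r_evalP (z : G ⊗[k] V) :
    r ψ (evalP S π z) = ((evalP S π).restrictScalars k).rTensor K (rho H V z) := by
  induction z using TensorProduct.induction_on with
  | zero => simp
  | add p q hp hq => simp only [map_add, hp, hq]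
  | tmul b v =>
    rw [evalP_tmul, map_smul, rho_tmul]
    induction r ψ b using TensorProduct.induction_on with
    | zero => simp
    | add p q hp hq => simp only [map_add, TensorProduct.add_tmul, smul_add, hp, hq]
    | tmul p c =>
      have h1 : ∀ y : V ⊗[k] K, ((evalP S π).restrictScalars k).rTensor K (comb S V ((p ⊗ₜ[k] c) ⊗ₜ[k] y)) =
          p ⊗ₜ[k] (c * TensorProduct.lid k K (π.rTensor K y)) := by
        intro y
        induction y using TensorProduct.induction_on with
        | zero => simp
        | add x y hx hy => simp only [map_add, TensorProduct.tmul_add, mul_add, hx, hy]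
        | tmul w d =>
          rw [comb_tmul, LinearMap.rTensor_tmul, LinearMap.restrictScalars_apply, evalP_tmul, LinearMap.rTensor_tmul,
            TensorProduct.lid_tmul, mul_smul_comm, TensorProduct.smul_tmul]
      rw [h1, hπ, TensorProduct.lid_tmul, mul_smul_comm, mul_one, TensorProduct.tmul_smul, TensorProduct.smul_tmul']

include hπ in
theorem evalP_mem [Module.FaithfullyFlat S G] {z : G ⊗[k] V} (hz : z ∈ inv H V) : evalP S π z ∈ S := by
  refine H66.ExactSeq.mem_of_coinvariant S H.comul_mem H.antipode_mem (ψ : G →ₐ[k] K) H.ker_le ?_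
  have h1 := r_evalP H π hπ z
  rw [(mem_inv H V).1 hz, LinearMap.rTensor_tmul] at h1
  exact h1

/-- Left translation. -/
def transl (χ : G →ₗ[k] k) : G →ₗ[k] G :=
  (TensorProduct.lid k G).toLinearMap ∘ₗ χ.rTensor G ∘ₗ CoalgebraStruct.comul (R := k)

theorem r_transl (χ : G →ₗ[k] k) (b : G) : r ψ (transl χ b) = (transl χ).rTensor K (r ψ b) := by
  let Tz : G ⊗[k] (G ⊗[k] G) →ₗ[k] G ⊗[k] K :=
    (ψ : G →ₐ[k] K).toLinearMap.lTensor G ∘ₗ (TensorProduct.lid k (G ⊗[k] G)).toLinearMap ∘ₗ χ.rTensor (G ⊗[k] G)
  have h1 : ∀ z : G ⊗[k] G, r ψ (TensorProduct.lid k G (χ.rTensor G z)) =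
      Tz ((CoalgebraStruct.comul (R := k)).lTensor G z) := by
    intro z
    induction z using TensorProduct.induction_on with
    | zero => simp
    | add p q hp hq => simp only [map_add, hp, hq]
    | tmul p q => simp [Tz, r_apply, map_smul]
  have h2 : ∀ z : G ⊗[k] G, Tz (TensorProduct.assoc k G G G ((CoalgebraStruct.comul (R := k)).rTensor G z)) =
      (transl χ).rTensor K ((ψ : G →ₐ[k] K).toLinearMap.lTensor G z) := by
    intro z
    induction z using TensorProduct.induction_on with
    | zero => simp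
    | add p q hp hq => simp only [map_add, hp, hq]
    | tmul p q =>
      simp only [LinearMap.rTensor_tmul, LinearMap.lTensor_tmul, transl, LinearMap.comp_apply, LinearEquiv.coe_coe]
      induction CoalgebraStruct.comul (R := k) p using TensorProduct.induction_on with
      | zero => simp
      | add x y hx hy => simp only [map_add, TensorProduct.add_tmul, hx, hy]
      | tmul x y => simp [Tz, TensorProduct.smul_tmul']
  change r ψ (TensorProduct.lid k G (χ.rTensor G (CoalgebraStruct.comul (R := k) b))) = _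
  rw [h1, ← Coalgebra.coassoc_apply, h2, r_apply]

theorem transl_mem_inv (χ : G →ₗ[k] k) {z : G ⊗[k] V} (hz : z ∈ inv H V) :
    (transl χ).rTensor V z ∈ inv H V := by
  rw [mem_inv] at hz ⊢
  have h1 : ∀ z : G ⊗[k] V, rho H V ((transl χ).rTensor V z) =
      ((transl χ).rTensor V).rTensor K (rho H V z) := by
    intro z
    induction z using TensorProduct.induction_on with
    | zero => simp
    | add p q hp hq => simp only [map_add, hp, hq]
    | tmul b v =>
      rw [LinearMap.rTensor_tmul, rho_tmul, rho_tmul, r_transl]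
      induction r ψ b using TensorProduct.induction_on with
      | zero => simp
      | add p q hp hq => simp only [map_add, TensorProduct.add_tmul, hp, hq]
      | tmul p c =>
        induction HopfRep.Comod.coact (k := k) (A := K) v using TensorProduct.induction_on with
        | zero => simp
        | add x y hx hy => simp only [map_add, TensorProduct.tmul_add, hx, hy]
        | tmul w d => simp [comb_tmul]
  rw [h1, hz, LinearMap.rTensor_tmul]

include hπ in
theorem exists_inv [Module.FaithfullyFlat S G] (hsurj : Function.Surjective π) :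
    ∃ z ∈ inv H V, evalP S π z = 1 := by
  classical
  obtain ⟨v, hv⟩ := hsurj 1
  let X : Submodule S G := (inv H V).map (evalP S π)
  have hXS : ∀ x ∈ X, x ∈ S := by
    rintro _ ⟨z, hz, rfl⟩
    exact evalP_mem H π hπ hz
  have hXT : ∀ (χ : G →ₗ[k] k), ∀ x ∈ X, transl χ x ∈ X := by
    rintro χ _ ⟨z, hz, rfl⟩
    refine ⟨_, transl_mem_inv H χ hz, ?_⟩
    clear hz
    induction z using TensorProduct.induction_on with
    | zero => simp
    | add p q hp hq => simp only [map_add, hp, hq]
    | tmul b w => rw [LinearMap.rTensor_tmul, evalP_tmul, evalP_tmul, map_smul]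
  have hne : X ≠ ⊥ := by
    intro h0
    have hex : Function.Exact (inv H V).subtype (dee H V) := fun y =>
      ⟨fun h => ⟨⟨y, LinearMap.mem_ker.2 h⟩, rfl⟩, fun ⟨x, hx⟩ => hx ▸ LinearMap.mem_ker.1 x.2⟩
    have hex2 := Module.Flat.lTensor_exact (R := S) G (N := inv H V) (N' := G ⊗[k] V) (N'' := (G ⊗[k] V) ⊗[k] K)
      (f := (inv H V).subtype) (g := dee H V) hex
    obtain ⟨ξ, hξ⟩ := (hex2 (theta H V (HopfRep.Comod.coact (k := k) (A := K) v))).1 (theta_inv H V v)
    have h1 : (evalP S π).lTensor G (theta H V (HopfRep.Comod.coact (k := k) (A := K) v)) = 0 := by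
      rw [← hξ, ← LinearMap.comp_apply, ← LinearMap.lTensor_comp,
        show evalP S π ∘ₗ (inv H V).subtype = 0 from ?_, LinearMap.lTensor_zero,
        LinearMap.zero_apply]
      refine LinearMap.ext fun z => ?_
      have hz : evalP S π (z : G ⊗[k] V) ∈ X := ⟨z, z.2, rfl⟩
      rw [h0, Submodule.mem_bot] at hz
      exact hz
    have h2 : ∀ x : V ⊗[k] K, (evalP S π).lTensor G (theta H V x) =
        gam H (HopfAlgebraStruct.antipode (R := k) (TensorProduct.lid k K (π.rTensor K x))) := by
      intro x
      induction x using TensorProduct.induction_on with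
      | zero => simp
      | add p q hp hq => simp only [map_add, hp, hq]
      | tmul w c =>
        rw [theta_tmul, LinearMap.rTensor_tmul, TensorProduct.lid_tmul, map_smul, map_smul]
        induction gam H (HopfAlgebraStruct.antipode (R := k) c) using TensorProduct.induction_on with
        | zero => simp
        | add p q hp hq => simp only [map_add, TensorProduct.add_tmul, smul_add, hp, hq]
        | tmul p q => rw [J_tmul, LinearMap.lTensor_tmul, evalP_tmul, TensorProduct.tmul_smul]
    rw [h2, hπ, TensorProduct.lid_tmul, hv, one_smul, HopfAlgebra.antipode_one,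
      ← map_one ψ, gam_apply, map_one] at h1
    have h3 := congrArg (Algebra.TensorProduct.lmul' S (S := G)) h1
    rw [map_one, map_zero] at h3
    have h4 := congrArg (CoalgebraStruct.counit (R := k) (A := G)) h3
    rw [Bialgebra.counit_one, map_zero] at h4
    exact one_ne_zero h4
  obtain ⟨x, hx, hx0⟩ := Submodule.exists_mem_ne_zero_of_ne_bot hne
  obtain ⟨χ₀, hχ₀⟩ := Module.Projective.exists_dual_ne_zero k hx0
  let x' := transl ((χ₀ x)⁻¹ • χ₀) x
  have hx' : x' ∈ X := hXT _ _ hx
  have hεx' : CoalgebraStruct.counit (R := k) x' = 1 := by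
    have h1 : ∀ (χ : G →ₗ[k] k) (z : G ⊗[k] G),
        CoalgebraStruct.counit (R := k) (TensorProduct.lid k G (χ.rTensor G z)) =
          χ (TensorProduct.rid k G ((CoalgebraStruct.counit (R := k) (A := G)).lTensor G z)) := by
      intro χ z
      induction z using TensorProduct.induction_on with
      | zero => simp
      | add p q hp hq => simp only [map_add, hp, hq]
      | tmul p q => simp [mul_comm]
    simp only [x', transl, LinearMap.comp_apply, LinearEquiv.coe_coe]
    rw [h1, Coalgebra.lTensor_counit_comul, TensorProduct.rid_tmul, one_smul, LinearMap.smul_apply, smul_eq_mul,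
      inv_mul_cancel₀ hχ₀]
  obtain ⟨y, hy⟩ := H.comul_mem x' (hXS _ hx')
  let b := Module.Free.chooseBasis k S
  let z := S.val.toLinearMap.lTensor S y
  let c := TensorProduct.equivFinsuppOfBasisLeft b z
  have hc : c.sum (fun i m => b i ⊗ₜ[k] m) = z := by
    rw [← TensorProduct.equivFinsuppOfBasisLeft_symm_apply, LinearEquiv.symm_apply_apply]
  have hΔ : CoalgebraStruct.comul (R := k) x' = c.sum (fun i m => (b i : G) ⊗ₜ[k] m) := by
    have e : TensorProduct.map S.val.toLinearMap S.val.toLinearMap y =
        S.val.toLinearMap.rTensor G z := by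
      rw [← LinearMap.comp_apply (S.val.toLinearMap.rTensor G), LinearMap.rTensor_comp_lTensor]
    rw [← hy, e, ← hc, map_finsuppSum]
    rfl
  have hcX : ∀ i, c i ∈ X := by
    intro i
    obtain ⟨χ, hχ⟩ := LinearMap.exists_extend (p := Subalgebra.toSubmodule S) (b.coord i)
    have hχb : ∀ j, χ (b j : G) = if j = i then 1 else 0 := by
      intro j
      have h := LinearMap.congr_fun hχ (b j)
      rw [Module.Basis.coord_apply, b.repr_self, Finsupp.single_apply] at h
      exact h
    have h7 : transl χ x' = c i := by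
      simp only [transl, LinearMap.comp_apply, LinearEquiv.coe_coe]
      rw [hΔ, map_finsuppSum, map_finsuppSum]
      simp only [LinearMap.rTensor_tmul, TensorProduct.lid_tmul, hχb]
      rw [Finsupp.sum, Finset.sum_eq_single i]
      · rw [if_pos rfl, one_smul]
      · intro j _ hj; rw [if_neg hj, zero_smul]
      · intro hi; rw [Finsupp.notMem_support_iff.1 hi, smul_zero]
    exact h7 ▸ hXT χ x' hx'
  have h5 : (1 : G) ∈ X := by
    have h6 : LinearMap.mul' k G ((HopfAlgebraStruct.antipode (R := k)).rTensor G (CoalgebraStruct.comul (R := k) x')) = 1 := by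
      rw [HopfAlgebra.mul_antipode_rTensor_comul_apply, hεx', map_one]
    rw [← h6, hΔ, map_finsuppSum, map_finsuppSum]
    refine Submodule.sum_mem _ fun i _ => ?_
    simp only []
    rw [LinearMap.rTensor_tmul, LinearMap.mul'_apply]
    exact X.smul_mem (⟨_, H.antipode_mem _ (b i).2⟩ : S) (hcX i)
  exact h5

include H in
theorem isLinearlyReductive_kernel [Module.FaithfullyFlat S G] (hG : H66.Tame.HasIntegral k G) :
    HopfRep.IsLinearlyReductive k K := by
  obtain ⟨α, hα1, hα⟩ := hG
  refine H66.LinRed.isLinearlyReductive_of_criterion fun W _ _ _ _ p hp hp1 => ?_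
  have hp' : ∀ v : W, p.rTensor K (HopfRep.Comod.coact (k := k) (A := K) v) = p v ⊗ₜ[k] (1 : K) :=
    fun v => LinearMap.congr_fun hp1 v
  obtain ⟨z, hz, hz1⟩ := exists_inv (V := W) H p hp' hp
  let ev : G ⊗[k] W →ₗ[k] W := (TensorProduct.lid k W).toLinearMap ∘ₗ α.rTensor W
  refine ⟨ev z, ?_, ?_⟩
  · have hα' : ∀ b : G, (α.rTensor K (r ψ b)) = α b ⊗ₜ[k] (1 : K) := by
      intro b
      rw [r_apply, ← LinearMap.comp_apply, LinearMap.rTensor_comp_lTensor, ← LinearMap.lTensor_comp_rTensor,
        LinearMap.comp_apply, ← hα, LinearMap.lTensor_tmul, AlgHom.toLinearMap_apply, map_one]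
    have h1 : ∀ z : G ⊗[k] W, ev.rTensor K (rho H W z) = HopfRep.Comod.coact (k := k) (A := K) (ev z) := by
      intro z
      induction z using TensorProduct.induction_on with
      | zero => simp
      | add p q hp hq => simp only [map_add, hp, hq]
      | tmul b w =>
        have h2 : ∀ (x : G ⊗[k] K) (y : W ⊗[k] K), ev.rTensor K (comb S W (x ⊗ₜ[k] y)) =
            (LinearMap.mulLeft k (TensorProduct.lid k K (α.rTensor K x))).lTensor W y := by
          intro x y
          induction x using TensorProduct.induction_on with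
          | zero => simp
          | add p q hp hq =>
            simp only [TensorProduct.add_tmul, map_add, hp, hq]
            rw [show LinearMap.mulLeft k (TensorProduct.lid k K (α.rTensor K p) + TensorProduct.lid k K (α.rTensor K q)) =
              LinearMap.mulLeft k (TensorProduct.lid k K (α.rTensor K p)) + LinearMap.mulLeft k (TensorProduct.lid k K (α.rTensor K q))
              from LinearMap.ext fun t => add_mul _ _ t, LinearMap.lTensor_add, LinearMap.add_apply]
          | tmul p c =>
            induction y using TensorProduct.induction_on with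
            | zero => simp
            | add p q hp hq => simp only [TensorProduct.tmul_add, map_add, hp, hq]
            | tmul w d => simp [ev, comb_tmul, TensorProduct.smul_tmul, TensorProduct.tmul_smul]
        rw [rho_tmul, h2, hα', TensorProduct.lid_tmul]
        simp only [ev, LinearMap.comp_apply, LinearEquiv.coe_coe, LinearMap.rTensor_tmul, TensorProduct.lid_tmul, map_smul]
        induction HopfRep.Comod.coact (k := k) (A := K) w using TensorProduct.induction_on with
        | zero => simp
        | add p q hp hq => simp only [map_add, smul_add, hp, hq]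
        | tmul x y => simp [TensorProduct.tmul_smul, TensorProduct.smul_tmul']
    have h3 := h1 z
    rw [(mem_inv H W).1 hz, LinearMap.rTensor_tmul] at h3
    exact h3.symm
  · have h4 : ∀ z : G ⊗[k] W, p (ev z) = α (evalP S p z) := by
      intro z
      induction z using TensorProduct.induction_on with
      | zero => simp
      | add p q hp hq => simp only [map_add, hp, hq]
      | tmul b w => simp [ev, evalP_tmul, mul_comm]
    rw [h4, hz1, hα1]
    exact one_ne_zero

include H in
theorem isLinearlyReductive_middle [Module.FaithfullyFlat S G] (hK : HopfRep.IsLinearlyReductive k K)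
    (μ : G →ₗ[k] k) (hμ1 : μ 1 = 1) (hμ : ∀ s ∈ S, ∃ c : k, dact G μ s = c • (1 : G)) :
    HopfRep.IsLinearlyReductive k G := by
  refine H66.LinRed.isLinearlyReductive_of_criterion fun W _ _ _ _ p hp hp1 => ?_
  letI cK := H66.Trigon.pushComod (ψ : G →ₗc[k] K) W
  have hp' : ∀ v : W, p.rTensor G (HopfRep.Comod.coact (k := k) (A := G) v) = p v ⊗ₜ[k] (1 : G) :=
    fun v => LinearMap.congr_fun hp1 v
  obtain ⟨v, hv, hv0⟩ := H66.LinRed.criterion_of_isLinearlyReductive hK W inferInstance p hp
    (LinearMap.ext fun w => by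
      change p.rTensor K ((ψ : G →ₐ[k] K).toLinearMap.lTensor W (HopfRep.Comod.coact (k := k) (A := G) w)) =
        p w ⊗ₜ[k] (1 : K)
      rw [← LinearMap.comp_apply, LinearMap.rTensor_comp_lTensor, ← LinearMap.lTensor_comp_rTensor,
        LinearMap.comp_apply, hp', LinearMap.lTensor_tmul, AlgHom.toLinearMap_apply, map_one])
  have hcoef : ∀ ℓ : W →ₗ[k] k, H66.Coeff.coeff (C := G) ℓ v ∈ S := by
    intro ℓ
    refine H66.ExactSeq.mem_of_coinvariant S H.comul_mem H.antipode_mem (ψ : G →ₐ[k] K) H.ker_le ?_
    rw [H66.Coeff.comul_coeff]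
    have h1 : ((ψ : G →ₐ[k] K).toLinearMap).lTensor W (HopfRep.Comod.coact (k := k) (A := G) v) = v ⊗ₜ[k] (1 : K) := hv
    rw [← LinearMap.comp_apply, LinearMap.lTensor_comp_rTensor, ← LinearMap.rTensor_comp_lTensor,
      LinearMap.comp_apply, h1, LinearMap.rTensor_tmul]
  refine ⟨dact W μ v, Lib.Comod.Reynolds.mem_fixedPts_iff.2 fun χ => ?_, ?_⟩
  · rw [← sub_eq_zero]
    refine (Module.forall_dual_apply_eq_zero_iff k _).1 fun ℓ => ?_
    obtain ⟨c, hc⟩ := hμ _ (hcoef ℓ)
    have h3 : H66.Coeff.coeff (C := G) ℓ (dact W μ v) = c • (1 : G) := by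
      rw [map_dact (H66.Coeff.isComodHom_coeff (C := G) ℓ), hc]
    rw [map_sub, map_smul, sub_eq_zero, ← H66.Coeff.counit_coeff (C := G) ℓ (dact W μ v), h3,
      ← H66.Coeff.counit_coeff (C := G) ℓ (dact W χ (dact W μ v)),
      map_dact (H66.Coeff.isComodHom_coeff (C := G) ℓ), h3, map_smul, map_smul, map_smul, dact_apply,
      show HopfRep.Comod.coact (k := k) (A := G) (1 : G) = (1 : G) ⊗ₜ[k] (1 : G) from
        Bialgebra.comul_one.trans Algebra.TensorProduct.one_def, contract_tmul, map_smul, Bialgebra.counit_one]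
    simp [mul_comm]
  · have h4 : ∀ w, p (dact W μ w) = μ (TensorProduct.lid k G (p.rTensor G (HopfRep.Comod.coact (k := k) (A := G) w))) := by
      intro w
      rw [dact_apply]
      induction HopfRep.Comod.coact (k := k) (A := G) w using TensorProduct.induction_on with
      | zero => simp
      | add p q hp hq => simp only [map_add, hp, hq]
      | tmul a b => simp [mul_comm]
    rw [h4, hp', TensorProduct.lid_tmul, map_smul, hμ1, smul_eq_mul, mul_one]
    exact hv0

end Comod

end

end Groth.Agent.H66.LinRedExt
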