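import Groth.Agent.H66.MatComod
import Groth.Agent.H66.DualMod
import Groth.Agent.H66.Commutant
import Mathlib.RingTheory.MvPolynomial.Homogeneous
import Mathlib.RingTheory.MvPolynomial.Basic
import Mathlib.Algebra.CharZero.Defs
import Mathlib.RingTheory.HopfAlgebra.GroupLike

/-!
Linear reductivity in characteristic zero of a group whose coordinate ring is spanned by the
coefficients of twisted tensor powers of one representation, when the monomials in the coefficients
of a given degree are independent.
-/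

universe u v w

open TensorProduct Groth.Agent.Lib.Comod.Basic

set_option linter.style.haveILetI false
set_option linter.unusedSectionVars false

namespace Groth.Agent.H66.MatLR

noncomputable section

open H66.MatComod H66.DualMod

variable {k : Type u} [Field k] {A : Type v} [CommRing A] [HopfAlgebra k A]
variable {ι : Type w} [Fintype ι] [DecidableEq ι]

theorem isMat_smul {P : Matrix ι ι A} (hP : IsMat k P) {g : A} (hg : IsGroupLikeElem k g) :
    IsMat k (g • P) := by
  refine ⟨fun i j => ?_, fun i j => ?_⟩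
  · simp only [Matrix.smul_apply, smul_eq_mul, Bialgebra.comul_mul, hg.comul_eq_tmul_self, hP.1,
      Finset.mul_sum, Algebra.TensorProduct.tmul_mul_tmul]
  · simp only [Matrix.smul_apply, smul_eq_mul, Bialgebra.counit_mul, hg.counit_eq_one, hP.2, one_mul]

theorem exists_perm {a : ℕ} {X : Type*} (p q : Fin a → X)
    (h : (∑ l, Finsupp.single (p l) 1 : X →₀ ℕ) = ∑ l, Finsupp.single (q l) 1) :
    ∃ σ : Equiv.Perm (Fin a), ∀ l, p (σ l) = q l := by
  classical
  have hc : ∀ x, Fintype.card {l // q l = x} = Fintype.card {l // p l = x} := by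
    intro x
    have h1 := DFunLike.congr_fun h x
    simp only [Finsupp.finsetSum_apply, Finsupp.single_apply, Finset.sum_boole, Nat.cast_id] at h1
    rw [Fintype.card_subtype, Fintype.card_subtype]
    exact h1.symm
  exact ⟨Equiv.ofFiberEquiv fun x => Fintype.equivOfCardEq (hc x), fun l => Equiv.ofFiberEquiv_map _ l⟩

theorem dact_comod {Q : Matrix ι ι A} (hQ : IsMat k Q) (φ : A →ₗ[k] k) (v : ι → k) (i : ι) :
    (letI := H66.MatComod.comod hQ; dact (ι → k) φ v i) = ∑ j, v j * φ (Q i j) := by
  letI := H66.MatComod.comod hQ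
  have hv : v = ∑ j, v j • (Pi.single j 1 : ι → k) := by
    ext l; simp [Finset.sum_apply, Pi.single_apply]
  conv_lhs => rw [hv]
  simp only [map_sum, map_smul, dact_apply]
  rw [Finset.sum_apply]
  refine Finset.sum_congr rfl fun j _ => ?_
  change (v j • contract (ι → k) φ (coactFun Q (Pi.single j 1))) i = _
  simp [coactFun_single, Finset.sum_apply, Pi.single_apply]

theorem coeff_comod {Q : Matrix ι ι A} (hQ : IsMat k Q) (i j : ι) :
    (letI := H66.MatComod.comod hQ; H66.Coeff.coeff (C := A) (LinearMap.proj i) (Pi.single j (1 : k) : ι → k)) =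
      Q i j := by
  letI := H66.MatComod.comod hQ
  rw [H66.Coeff.coeff_apply]
  change TensorProduct.lid k A ((LinearMap.proj i).rTensor A (coactFun Q (Pi.single j 1))) = _
  simp [coactFun_single, Pi.single_apply, ite_smul]

theorem prod_X {X : Type*} {a : ℕ} (p : Fin a → X) :
    (∏ l, MvPolynomial.X (p l) : MvPolynomial X k) = MvPolynomial.monomial (∑ l, Finsupp.single (p l) 1) 1 := by
  rw [MvPolynomial.monomial_sum_one]
  rfl

/-- Twisted tensor powers are semisimple. -/
theorem isSemisimpleComod_pw [CharZero k] {P : Matrix ι ι A} (hP : IsMat k P) {g : A}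
    (hg : IsGroupLikeElem k g)
    (hind : ∀ (a : ℕ) (f : MvPolynomial (ι × ι) k), f.IsHomogeneous a →
      MvPolynomial.aeval (fun p : ι × ι => P p.1 p.2) f = 0 → f = 0) (a : ℕ) :
    letI := H66.MatComod.comod (isMat_smul (isMat_pw hP a) hg)
    HopfRep.IsSemisimpleComod k A ((Fin a → ι) → k) := by
  classical
  letI := H66.MatComod.comod (isMat_smul (isMat_pw hP a) hg)
  let ρ : Representation k (Equiv.Perm (Fin a)) ((Fin a → ι) → k) :=
    { toFun := fun σ => LinearMap.funLeft k k fun I => I ∘ σ
      map_one' := rfl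
      map_mul' := fun σ τ => rfl }
  haveI : NeZero (Nat.card (Equiv.Perm (Fin a)) : k) := ⟨Nat.cast_ne_zero.2 Nat.card_pos.ne'⟩
  -- equivariant endomorphisms are the actions of functionals
  have hA : ∀ T : Module.End k ((Fin a → ι) → k), (∀ σ, T ∘ₗ ρ σ = ρ σ ∘ₗ T) →
      ∃ φ : A →ₗ[k] k, dact ((Fin a → ι) → k) φ = T := by
    intro T hT
    let M : (Fin a → ι) → (Fin a → ι) → k := fun I J => T (Pi.single J 1) I
    have hM : ∀ (σ : Equiv.Perm (Fin a)) I J, M (I ∘ σ) (J ∘ σ) = M I J := by
      intro σ I J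
      have h1 := congrFun (LinearMap.congr_fun (hT σ) (Pi.single (J ∘ σ) 1)) I
      have h2 : ρ σ (Pi.single (J ∘ σ) (1 : k)) = Pi.single J 1 := by
        ext K
        show (Pi.single (J ∘ σ) (1 : k) : (Fin a → ι) → k) (K ∘ σ) = _
        simp only [Pi.single_apply]
        exact if_congr ⟨fun e => funext fun l => by simpa using congrFun e (σ.symm l), fun e => by rw [e]⟩ rfl rfl
      simp only [LinearMap.comp_apply] at h1
      rw [h2] at h1
      exact h1.symm
    let H := MvPolynomial.homogeneousSubmodule (ι × ι) k a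
    let F : H →ₗ[k] A := LinearMap.mulLeft k g ∘ₗ
      (MvPolynomial.aeval fun p : ι × ι => P p.1 p.2).toLinearMap ∘ₗ H.subtype
    have hF : LinearMap.ker F = ⊥ := by
      refine LinearMap.ker_eq_bot'.2 fun f hf => Subtype.ext (hind a f.1 f.2 ?_)
      exact hg.isUnit.mul_right_eq_zero.1 hf
    obtain ⟨L, hL⟩ := F.exists_leftInverse_of_injective hF
    let mon : (Fin a → ι) × (Fin a → ι) → (ι × ι →₀ ℕ) := fun t => ∑ l, Finsupp.single (t.1 l, t.2 l) 1
    let ψ : MvPolynomial (ι × ι) k →ₗ[k] k := (MvPolynomial.basisMonomials (ι × ι) k).constr k fun d =>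
      if h : ∃ t, mon t = d then M h.choose.1 h.choose.2 else 0
    refine ⟨ψ ∘ₗ H.subtype ∘ₗ L, LinearMap.ext fun v => funext fun I => ?_⟩
    have hv : v = ∑ J, v J • (Pi.single J 1 : (Fin a → ι) → k) := by
      ext l; simp [Finset.sum_apply, Pi.single_apply]
    rw [dact_comod (isMat_smul (isMat_pw hP a) hg)]
    conv_rhs => rw [hv]
    simp only [map_sum, map_smul, Finset.sum_apply, Pi.smul_apply, smul_eq_mul]
    refine Finset.sum_congr rfl fun J _ => congrArg (v J * ·) ?_
    have hmem : (∏ l, MvPolynomial.X (I l, J l) : MvPolynomial (ι × ι) k) ∈ H := by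
      have := MvPolynomial.IsHomogeneous.prod Finset.univ
        (fun l => (MvPolynomial.X (I l, J l) : MvPolynomial (ι × ι) k)) (fun _ => 1)
        (fun l _ => MvPolynomial.isHomogeneous_X _ _)
      exact (MvPolynomial.mem_homogeneousSubmodule a _).2 (by simpa using this)
    have hFe : F ⟨_, hmem⟩ = (g • pw P a) I J := by
      simp [F, pw, map_prod]
    rw [LinearMap.comp_apply, LinearMap.comp_apply, ← hFe, ← LinearMap.comp_apply L F, hL]
    show ψ (∏ l, MvPolynomial.X (I l, J l)) = M I J
    rw [prod_X (fun l => (I l, J l))]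
    have hb : MvPolynomial.monomial (mon (I, J)) (1 : k) =
        MvPolynomial.basisMonomials (ι × ι) k (mon (I, J)) := by
      rw [MvPolynomial.coe_basisMonomials]
    change ψ (MvPolynomial.monomial (mon (I, J)) 1) = _
    rw [hb, Module.Basis.constr_basis]
    have hex : ∃ t, mon t = mon (I, J) := ⟨(I, J), rfl⟩
    rw [dif_pos hex]
    obtain ⟨σ, hσ⟩ := exists_perm (fun l => (I l, J l)) (fun l => (hex.choose.1 l, hex.choose.2 l))
      hex.choose_spec.symm
    have e1 : hex.choose.1 = I ∘ σ := funext fun l => (congrArg Prod.fst (hσ l)).symm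
    have e2 : hex.choose.2 = J ∘ σ := funext fun l => (congrArg Prod.snd (hσ l)).symm
    rw [e1, e2, hM]
  -- actions of functionals are equivariant
  have hB : ∀ (φ : A →ₗ[k] k) σ, dact ((Fin a → ι) → k) φ ∘ₗ ρ σ = ρ σ ∘ₗ dact ((Fin a → ι) → k) φ := by
    intro φ σ
    refine LinearMap.ext fun v => funext fun I => ?_
    rw [LinearMap.comp_apply, LinearMap.comp_apply, dact_comod (isMat_smul (isMat_pw hP a) hg)]
    show ∑ J, v (J ∘ σ) * φ ((g • pw P a) I J) = dact ((Fin a → ι) → k) φ v (I ∘ σ)
    rw [dact_comod (isMat_smul (isMat_pw hP a) hg)]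
    refine Fintype.sum_equiv (Equiv.arrowCongr σ.symm (Equiv.refl ι)) _ _ fun J => ?_
    have e : Equiv.arrowCongr σ.symm (Equiv.refl ι) J = J ∘ σ := funext fun l => by simp
    rw [e]
    congr 2
    simp only [Matrix.smul_apply, pw, smul_eq_mul]
    congr 1
    exact (Equiv.prod_comp σ (fun l => P (I l) (J l))).symm
  intro W hW
  obtain ⟨W', hc, hW'⟩ := H66.Commutant.exists_isCompl ρ W (fun T hT w hw => by
    obtain ⟨φ, rfl⟩ := hA T hT
    exact dact_mem hW φ hw)
  exact ⟨W', (isSubcomod_iff _).2 fun φ w hw => hW' _ (hB φ) w hw, hc⟩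

theorem isLinearlyReductive_of_regular
    (h : letI := H66.DualMod.module k A A; IsSemisimpleModule (CDual k A) A) :
    HopfRep.IsLinearlyReductive k A := by
  intro V _ _ _ hV
  rw [H66.DualMod.isSemisimpleComod_iff]
  letI := H66.DualMod.module k A A
  letI := H66.DualMod.module k A V
  haveI := h
  let b := Module.Free.chooseBasis k V
  let f : V →ₗ[CDual k A] (Module.Free.ChooseBasisIndex k V → A) :=
    LinearMap.pi fun i => homOf (H66.Coeff.coeff (C := A) (b.coord i)) (H66.Coeff.isComodHom_coeff _)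
  refine IsSemisimpleModule.of_injective f ((injective_iff_map_eq_zero f).2 fun v hv => b.ext_elem fun i => ?_)
  have h1 : H66.Coeff.coeff (C := A) (b.coord i) v = 0 := congrFun hv i
  have h2 := H66.Coeff.counit_coeff (C := A) (b.coord i) v
  rw [h1, map_zero] at h2
  simpa using h2.symm

/-- The criterion. -/
theorem isLinearlyReductive_of_matrix [CharZero k] {P : Matrix ι ι A} (hP : IsMat k P) {g : A}
    (hg : IsGroupLikeElem k g)
    (hind : ∀ (a : ℕ) (f : MvPolynomial (ι × ι) k), f.IsHomogeneous a →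
      MvPolynomial.aeval (fun p : ι × ι => P p.1 p.2) f = 0 → f = 0)
    (hspan : ∀ x : A, ∃ (c : ℕ) (f : MvPolynomial (ι × ι) k),
      x = g ^ c * MvPolynomial.aeval (fun p : ι × ι => P p.1 p.2) f) :
    HopfRep.IsLinearlyReductive k A := by
  classical
  refine isLinearlyReductive_of_regular ?_
  letI := H66.DualMod.module k A A
  let p : (Σ a : ℕ, ℕ × (Fin a → ι)) → Submodule (CDual k A) A := fun t =>
    letI := H66.MatComod.comod (isMat_smul (isMat_pw hP t.1) (hg.pow (n := t.2.1)))
    letI := H66.DualMod.module k A ((Fin t.1 → ι) → k)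
    LinearMap.range (homOf (H66.Coeff.coeff (C := A) (LinearMap.proj t.2.2 : ((Fin t.1 → ι) → k) →ₗ[k] k))
      (H66.Coeff.isComodHom_coeff _))
  have hp : ∀ t, IsSemisimpleModule (CDual k A) (p t) := by
    intro t
    letI := H66.MatComod.comod (isMat_smul (isMat_pw hP t.1) (hg.pow (n := t.2.1)))
    letI := H66.DualMod.module k A ((Fin t.1 → ι) → k)
    haveI := H66.DualMod.isSemisimpleComod_iff.1 (isSemisimpleComod_pw hP (hg.pow (n := t.2.1)) hind t.1)
    exact IsSemisimpleModule.range _
  refine isSemisimpleModule_of_isSemisimpleModule_submodule' hp (eq_top_iff.2 fun x _ => ?_)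
  obtain ⟨c, f, rfl⟩ := hspan x
  induction f using MvPolynomial.induction_on' with
  | monomial d r =>
    have hd : ∃ (a : ℕ) (p : Fin a → ι × ι), d = ∑ l, Finsupp.single (p l) 1 := by
      refine ⟨_, fun l => d.toMultiset.toList.get l, ?_⟩
      refine (Multiset.toFinsupp (α := ι × ι)).symm.injective ?_
      simp only [Multiset.toFinsupp_symm_apply]
      rw [map_sum]
      simp only [Finsupp.toMultiset_single, one_nsmul, List.get_eq_getElem]
      rw [Finset.sum_eq_multiset_sum]
      simp only [Fin.univ_def, Multiset.map_coe, Multiset.sum_coe, List.ofFn_eq_map.symm]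
      rw [List.ofFn_getElem_eq_map _ (fun x => ({x} : Multiset (ι × ι))), ← Multiset.sum_coe, ← Multiset.map_coe,
        Multiset.coe_toList, Multiset.sum_map_singleton]
    obtain ⟨a, q, rfl⟩ := hd
    letI := H66.MatComod.comod (isMat_smul (isMat_pw hP a) (hg.pow (n := c)))
    refine Submodule.mem_iSup_of_mem ⟨a, c, fun l => (q l).1⟩
      ⟨r • (Pi.single (fun l => (q l).2) (1 : k) : (Fin a → ι) → k), ?_⟩
    change H66.Coeff.coeff (C := A) (LinearMap.proj (fun l => (q l).1) : ((Fin a → ι) → k) →ₗ[k] k)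
      (r • (Pi.single (fun l => (q l).2) (1 : k) : (Fin a → ι) → k)) = _
    rw [map_smul, coeff_comod (isMat_smul (isMat_pw hP a) (hg.pow (n := c)))]
    rw [show MvPolynomial.monomial (∑ l, Finsupp.single (q l) 1) r =
        r • (∏ l, MvPolynomial.X (q l) : MvPolynomial (ι × ι) k) by
      rw [prod_X, MvPolynomial.smul_monomial, smul_eq_mul, mul_one]]
    simp [pw, map_prod]
  | add f₁ f₂ h₁ h₂ => rw [map_add, mul_add]; exact Submodule.add_mem _ (h₁ trivial) (h₂ trivial)

end

end Groth.Agent.H66.MatLR
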