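import Groth.Agent.H66.GLnLR
import Groth.Prelude.Def_ComodTens
import Mathlib.LinearAlgebra.PiTensorProduct.Basis
import Mathlib.LinearAlgebra.Finsupp.LSum

/-!
Representations of `GL_r` of pure degree are direct summands of twisted tensor powers of the
standard representation (characteristic zero).
-/

universe u v w

open TensorProduct CoordGrp Groth.Agent.Lib.Comod.Basic
open scoped LaurentPolynomial

set_option linter.style.haveILetI false
set_option linter.unusedSectionVars false

namespace Groth.Agent.H66.PolyRep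

noncomputable section

variable {k : Type u} [Field k] {r : ℕ}

/-- The standard representation of `GL_r`. -/
abbrev std (r : ℕ) (k : Type u) [Field k] : HopfRep.Comod k (GLn r k) (Fin r → k) :=
  GLin.comodAlong (CoordGrp.Mat.toGLn r k) (ComodTens.stdVec r k)

theorem std_coact_single (j : Fin r) :
    (std r k).coact (Pi.single j 1) = ∑ i, (Pi.single i (1 : k) : Fin r → k) ⊗ₜ[k] (GLn.X i j : GLn r k) := by
  rw [show (std r k).coact (Pi.single j 1) = TensorProduct.map LinearMap.id
    ((CoordGrp.Mat.toGLn r k : Mat r k →ₗ[k] GLn r k)) ((ComodTens.stdVec r k).coact (Pi.single j 1)) from rfl,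
    ComodTens.stdVec_coact_single, map_sum]
  refine Finset.sum_congr rfl fun i _ => ?_
  rw [TensorProduct.map_tmul]
  exact congrArg _ (CoordGrp.Mat.toGLn_X i j)

/-- The pure tensor of basis vectors. -/
def eT {a : ℕ} (J : Fin a → Fin r) : TensorPower k a (Fin r → k) :=
  PiTensorProduct.tprod k fun l => (Pi.single (J l) 1 : Fin r → k)

theorem tpow_coact : ∀ (a : ℕ) (J : Fin a → Fin r),
    (ComodTens.Comod.tpow (std r k) a).coact (eT J) =
      ∑ I : Fin a → Fin r, eT I ⊗ₜ[k] (∏ l, (GLn.X (I l) (J l) : GLn r k))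
  | 0, J => by
    have h1 : eT J = (PiTensorProduct.isEmptyEquiv (Fin 0) (R := k) (s := fun _ : Fin 0 => Fin r → k)).symm 1 := by
      rw [eq_comm, LinearEquiv.symm_apply_eq]
      exact (PiTensorProduct.isEmptyEquiv_apply_tprod _ _).symm
    rw [h1, ComodTens.tpow_zero, ComodTens.ofEquiv_coact_apply, Fintype.sum_unique]
    rw [show (HopfRep.Comod.trivial k (GLn r k) k).coact (1 : k) = (1 : k) ⊗ₜ[k] (1 : GLn r k) from rfl,
      LinearMap.rTensor_tmul]
    simp only [Finset.univ_eq_empty, Finset.prod_empty, LinearEquiv.coe_coe]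
    rw [← h1]
    exact congrArg (· ⊗ₜ[k] (1 : GLn r k)) (congrArg eT (Subsingleton.elim _ _))
  | a + 1, J => by
    have happ : ∀ (I : Fin a → Fin r) (i : Fin r),
        TensorPower.mulEquiv (R := k) (M := Fin r → k) (eT I ⊗ₜ[k] eT (fun _ : Fin 1 => i)) = eT (Fin.snoc I i) := by
      intro I i
      rw [← TensorPower.gMul_def, eT, eT, TensorPower.tprod_mul_tprod]
      refine congrArg (PiTensorProduct.tprod k) ?_
      rw [Fin.append_right_eq_snoc]
      funext l
      induction l using Fin.lastCases with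
      | last => simp
      | cast l => simp
    have hJ : eT J = TensorPower.mulEquiv (R := k) (M := Fin r → k)
        (eT (Fin.init J) ⊗ₜ[k] eT (fun _ : Fin 1 => J (Fin.last a))) := by
      rw [happ, Fin.snoc_init_self]
    have hone : ∀ j : Fin r, (ComodTens.Comod.tpowOne (std r k)).coact (eT fun _ : Fin 1 => j) =
        ∑ i, eT (fun _ : Fin 1 => i) ⊗ₜ[k] (GLn.X i j : GLn r k) := by
      intro j
      have h1 : eT (fun _ : Fin 1 => j) =
          (PiTensorProduct.subsingletonEquiv (R := k) (s := fun _ : Fin 1 => Fin r → k) (0 : Fin 1)).symm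
            (Pi.single j 1) := by
        rw [PiTensorProduct.subsingletonEquiv_symm_apply']
        rfl
      rw [h1, ComodTens.ofEquiv_coact_apply, std_coact_single, map_sum]
      refine Finset.sum_congr rfl fun i _ => ?_
      rw [LinearMap.rTensor_tmul, LinearEquiv.coe_coe, PiTensorProduct.subsingletonEquiv_symm_apply']
      rfl
    rw [ComodTens.tpow_succ, hJ, ComodTens.ofEquiv_coact_apply,
      ComodTens.tensor_coact_tmul_of_sum _ _ Finset.univ Finset.univ _ _ _ _ _ _
        (tpow_coact a (Fin.init J)) (hone (J (Fin.last a))), map_sum]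
    simp only [map_sum, LinearMap.rTensor_tmul, LinearEquiv.coe_coe, happ]
    rw [← Fintype.sum_equiv (Fin.snocEquiv fun _ : Fin (a + 1) => Fin r)
      (fun t : Fin r × (Fin a → Fin r) => eT (Fin.snoc t.2 t.1) ⊗ₜ[k]
        ((∏ l, (GLn.X (t.2 l) (Fin.init J l) : GLn r k)) * GLn.X t.1 (J (Fin.last a))))
      _ (fun t => ?_), Fintype.sum_prod_type, Finset.sum_comm]
    rw [Fin.prod_univ_castSucc]
    simp [Fin.snocEquiv, Fin.init]

/-- The coordinate at a basis tensor. -/
def psi {a : ℕ} (I : Fin a → Fin r) : TensorPower k a (Fin r → k) →ₗ[k] k :=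
  (Basis.piTensorProduct fun _ : Fin a => Pi.basisFun k (Fin r)).coord I

theorem psi_eT {a : ℕ} (I J : Fin a → Fin r) : psi I (eT J : TensorPower k a (Fin r → k)) = if J = I then 1 else 0 := by
  rw [psi, Module.Basis.coord_apply, eT, Basis.piTensorProduct_repr_tprod_apply]
  simp only [Pi.basisFun_repr, Pi.single_apply, Fintype.prod_ite_zero, Finset.prod_const_one]
  by_cases h : J = I
  · subst h; simp
  · rw [if_neg h, if_neg]
    exact fun h' => h (funext fun l => (h' l).symm)

theorem eval_scale {σ : Type v} {B : Type w} [CommRing B] [Algebra k B] {d : ℕ} {f : MvPolynomial σ k}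
    (hf : f.IsHomogeneous d) (y : σ → B) (s : B) :
    MvPolynomial.aeval (fun p => y p * s) f = MvPolynomial.aeval y f * s ^ d := by
  conv_lhs => rw [f.as_sum]
  conv_rhs => rw [f.as_sum]
  simp only [map_sum, Finset.sum_mul]
  refine Finset.sum_congr rfl fun e he => ?_
  rw [MvPolynomial.aeval_monomial, MvPolynomial.aeval_monomial]
  simp only [Finsupp.prod, mul_pow, Finset.prod_mul_distrib, Finset.prod_pow_eq_pow_sum]
  have hed : ∑ i ∈ e.support, e i = d :=
    Finsupp.degree_apply e ▸ (Finsupp.degree_eq_weight_one (R := ℕ) ▸ hf (MvPolynomial.mem_support_iff.1 he))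
  rw [hed]
  ring

/-- The span of the degree `a` polynomials in the entries, twisted by `Dinv ^ c`. -/
def S (r : ℕ) (k : Type u) [Field k] (a c : ℕ) : Submodule k (GLn r k) :=
  Submodule.span k (Set.range fun q : (Fin a → Fin r) × (Fin a → Fin r) =>
    (∏ l, (GLn.X (q.1 l) (q.2 l) : GLn r k)) * GLn.Dinv ^ c)

theorem mem_S {a : ℕ} {c : ℕ} {f : MvPolynomial (Fin r × Fin r) k} (hf : f.IsHomogeneous a) :
    GLn.Dinv ^ c * MvPolynomial.aeval (fun p : Fin r × Fin r => (GLn.X p.1 p.2 : GLn r k)) f ∈ S r k a c := by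
  rw [f.as_sum, map_sum, Finset.mul_sum]
  refine Submodule.sum_mem _ fun d hd => ?_
  have hda : Multiset.card (Finsupp.toMultiset d) = a := by
    rw [← hf (MvPolynomial.mem_support_iff.1 hd)]
    simp [Finsupp.card_toMultiset, Finsupp.weight_apply, Finsupp.sum]
  obtain ⟨L, hL⟩ : ∃ L : List (Fin r × Fin r), (L : Multiset _) = Finsupp.toMultiset d :=
    ⟨_, Multiset.coe_toList _⟩
  have hlen : L.length = a := by rw [← hda, ← hL, Multiset.coe_card]
  subst hlen
  have hprod : (∏ l : Fin L.length, (GLn.X (L.get l).1 (L.get l).2 : GLn r k)) =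
      d.prod fun p e => (GLn.X p.1 p.2 : GLn r k) ^ e := by
    rw [← List.prod_ofFn]
    simp only [List.get_eq_getElem]
    rw [List.ofFn_getElem_eq_map L fun p => (GLn.X p.1 p.2 : GLn r k), ← Multiset.prod_coe,
      ← Multiset.map_coe, hL, Finsupp.toMultiset_map, Finsupp.prod_toMultiset, Finsupp.prod_mapDomain_index]
    · exact fun _ => pow_zero _
    · exact fun _ _ _ => pow_add _ _ _
  rw [MvPolynomial.aeval_monomial, ← hprod,
    show GLn.Dinv ^ c * (algebraMap k (GLn r k) (f.coeff d) *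
        ∏ l : Fin L.length, (GLn.X (L.get l).1 (L.get l).2 : GLn r k)) =
      f.coeff d • ((∏ l : Fin L.length, (GLn.X (L.get l).1 (L.get l).2 : GLn r k)) * GLn.Dinv ^ c) by
      rw [Algebra.smul_def]; ring]
  exact Submodule.smul_mem _ _ (Submodule.subset_span ⟨(fun l => (L.get l).1, fun l => (L.get l).2), rfl⟩)

/-- An element of pure weight `h` lies in every large enough `S`. -/
theorem exists_bound (h : ℤ) (x : GLn r k)
    (hx : LinearMap.lTensor (GLn r k) (GLn.diag r k (fun _ => 1) : GLn r k →ₗ[k] k[T;T⁻¹])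
      (CoalgebraStruct.comul (R := k) x) = x ⊗ₜ[k] LaurentPolynomial.T h) :
    ∃ c₀ : ℕ, ∀ c a : ℕ, c₀ ≤ c → (a : ℤ) = h + (r : ℤ) * c → x ∈ S r k a c := by
  obtain ⟨c₀, f₀, hf₀⟩ := H66.GLnLR.gl_span x
  refine ⟨c₀, fun c a hc ha => ?_⟩
  obtain ⟨f, hf⟩ : ∃ f : MvPolynomial (Fin r × Fin r) k,
      x = GLn.Dinv ^ c * MvPolynomial.aeval (fun p : Fin r × Fin r => (GLn.X p.1 p.2 : GLn r k)) f := by
    refine ⟨H66.GLnLR.detPoly r k ^ (c - c₀) * f₀, ?_⟩
    rw [map_mul, map_pow, show MvPolynomial.aeval (fun p : Fin r × Fin r => (GLn.X p.1 p.2 : GLn r k))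
      (H66.GLnLR.detPoly r k) = (GLn.genMat r k).det from H66.GLnLR.aeval_detPoly (GLn.genMat r k), ← GLn.det_eq]
    conv_lhs => rw [hf₀]
    obtain ⟨d, rfl⟩ := Nat.exists_eq_add_of_le hc
    rw [Nat.add_sub_cancel_left, pow_add, mul_assoc, ← mul_assoc (GLn.Dinv ^ d), ← mul_pow, GLn.Dinv_mul_det,
      one_pow, one_mul]
    rfl
  let Θ : GLn r k →ₐ[k] GLn r k ⊗[k] k[T;T⁻¹] :=
    (Algebra.TensorProduct.map (AlgHom.id k (GLn r k)) (GLn.diag r k (fun _ => 1) : GLn r k →ₐ[k] k[T;T⁻¹])).comp
      (Bialgebra.comulAlgHom k (GLn r k))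
  have hΘ : Θ x = x ⊗ₜ[k] LaurentPolynomial.T h := by
    rw [← hx]
    change Algebra.TensorProduct.map _ _ (CoalgebraStruct.comul (R := k) x) = _
    induction CoalgebraStruct.comul (R := k) x using TensorProduct.induction_on with
    | zero => simp
    | add p q hp hq => simp only [map_add, hp, hq]
    | tmul p q => rfl
  have hΘX : ∀ i j, Θ (GLn.X i j) = (GLn.X i j : GLn r k) ⊗ₜ[k] LaurentPolynomial.T 1 := by
    intro i j
    change Algebra.TensorProduct.map _ _ (CoalgebraStruct.comul (R := k) (GLn.X i j : GLn r k)) = _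
    rw [GLn.comul_X, map_sum]
    simp [TensorProduct.tmul_ite]
  have hΘD : Θ GLn.Dinv = (GLn.Dinv : GLn r k) ⊗ₜ[k] LaurentPolynomial.T (-(r : ℤ)) := by
    change Algebra.TensorProduct.map _ _ (CoalgebraStruct.comul (R := k) (GLn.Dinv : GLn r k)) = _
    rw [GLn.comul_Dinv, Algebra.TensorProduct.map_tmul]
    simp
  have hcomp : ∀ d, Θ (MvPolynomial.aeval (fun p : Fin r × Fin r => (GLn.X p.1 p.2 : GLn r k))
        (MvPolynomial.homogeneousComponent d f)) =
      MvPolynomial.aeval (fun p : Fin r × Fin r => (GLn.X p.1 p.2 : GLn r k))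
        (MvPolynomial.homogeneousComponent d f) ⊗ₜ[k] LaurentPolynomial.T (d : ℤ) := by
    intro d
    rw [← AlgHom.comp_apply, MvPolynomial.comp_aeval]
    have e : (fun p : Fin r × Fin r => Θ (GLn.X p.1 p.2)) = fun p =>
        Algebra.TensorProduct.includeLeft (R := k) (S := k) (B := k[T;T⁻¹]) (GLn.X p.1 p.2 : GLn r k) *
          ((1 : GLn r k) ⊗ₜ[k] LaurentPolynomial.T 1) := by
      funext p
      rw [hΘX]
      simp
    rw [e, eval_scale (MvPolynomial.homogeneousComponent_isHomogeneous d f)]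
    rw [show MvPolynomial.aeval (fun p : Fin r × Fin r => Algebra.TensorProduct.includeLeft (R := k) (S := k)
        (B := k[T;T⁻¹]) (GLn.X p.1 p.2 : GLn r k)) (MvPolynomial.homogeneousComponent d f) =
      Algebra.TensorProduct.includeLeft (R := k) (S := k) (B := k[T;T⁻¹])
        (MvPolynomial.aeval (fun p : Fin r × Fin r => (GLn.X p.1 p.2 : GLn r k)) (MvPolynomial.homogeneousComponent d f))
      from (MvPolynomial.comp_aeval_apply _ _ _).symm]
    simp [Algebra.TensorProduct.tmul_pow, LaurentPolynomial.T_pow]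
  let co : k[T;T⁻¹] →ₗ[k] k := Finsupp.lapply h ∘ₗ (AddMonoidAlgebra.coeffLinearEquiv k).toLinearMap
  have hco : ∀ m : ℤ, co (LaurentPolynomial.T m) = if m = h then 1 else 0 := fun m => by
    change (AddMonoidAlgebra.single m (1 : k)).coeff h = _
    simp [Finsupp.single_apply]
  have e : x ⊗ₜ[k] (LaurentPolynomial.T h : k[T;T⁻¹]) = ∑ d ∈ Finset.range (f.totalDegree + 1),
      (GLn.Dinv ^ c * MvPolynomial.aeval (fun p : Fin r × Fin r => (GLn.X p.1 p.2 : GLn r k))
        (MvPolynomial.homogeneousComponent d f)) ⊗ₜ[k] (LaurentPolynomial.T ((d : ℤ) - (r : ℤ) * c) : k[T;T⁻¹]) := by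
    rw [← hΘ]
    conv_lhs => rw [hf, ← MvPolynomial.sum_homogeneousComponent f]
    simp only [map_sum, Finset.mul_sum, map_mul, map_pow, hcomp, hΘD, Algebra.TensorProduct.tmul_pow,
      Algebra.TensorProduct.tmul_mul_tmul, LaurentPolynomial.T_pow, ← LaurentPolynomial.T_add]
    exact Finset.sum_congr rfl fun d _ => by congr 2; ring
  have e2 := congrArg ((TensorProduct.rid k (GLn r k)).toLinearMap ∘ₗ co.lTensor (GLn r k)) e
  simp only [map_sum, LinearMap.comp_apply, LinearMap.lTensor_tmul, LinearEquiv.coe_coe, TensorProduct.rid_tmul,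
    hco, if_true, one_smul, ite_smul, zero_smul] at e2
  rw [e2]
  refine Submodule.sum_mem _ fun d _ => ?_
  split_ifs with hd
  · have : d = a := by omega
    subst this
    exact mem_S (MvPolynomial.homogeneousComponent_isHomogeneous d f)
  · exact Submodule.zero_mem _

theorem exists_directSummand [CharZero k] (V : Type u) [AddCommGroup V] [Module k V] [Module.Finite k V]
    (ρ : HopfRep.Comod k (GLn r k) V) (h : ℤ) (hr : 0 < r)
    (hh : @HopfRep.eigenspace k k[T;T⁻¹] _ _ _ V _ _
      (GLin.comodAlong (GLn.diag r k (fun _ => 1)) ρ) (LaurentPolynomial.T h) = ⊤) :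
    ∃ (a b c : ℕ), 0 < c ∧
      ∃ (i : V →ₗ[k] (Fin b → TensorPower k a (Fin r → k)))
        (p : (Fin b → TensorPower k a (Fin r → k)) →ₗ[k] V),
        p ∘ₗ i = LinearMap.id ∧
        @Hoch.IsComodHom k _ (GLn r k) _ _ _ V _ _ ρ (Fin b → TensorPower k a (Fin r → k)) _ _
          (ComodTens.Comod.twist (ComodTens.Comod.pi fun _ : Fin b => ComodTens.Comod.tpow (std r k) a)
            (GLn.Dinv ^ c) (IsGroupLikeElem.pow ⟨GLn.counit_Dinv, GLn.comul_Dinv⟩)) i ∧
        @Hoch.IsComodHom k _ (GLn r k) _ _ _ (Fin b → TensorPower k a (Fin r → k)) _ _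
          (ComodTens.Comod.twist (ComodTens.Comod.pi fun _ : Fin b => ComodTens.Comod.tpow (std r k) a)
            (GLn.Dinv ^ c) (IsGroupLikeElem.pow ⟨GLn.counit_Dinv, GLn.comul_Dinv⟩)) V _ _ ρ p := by
  classical
  letI := ρ
  let bV := Module.finBasis k V
  let m := Module.finrank k V
  have hwt : ∀ t : Fin m × Fin m, LinearMap.lTensor (GLn r k) (GLn.diag r k (fun _ => 1) : GLn r k →ₗ[k] k[T;T⁻¹])
      (CoalgebraStruct.comul (R := k) (H66.Coeff.coeff (C := GLn r k) (bV.coord t.1) (bV t.2))) =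
        H66.Coeff.coeff (C := GLn r k) (bV.coord t.1) (bV t.2) ⊗ₜ[k] LaurentPolynomial.T h := by
    intro t
    have hv : bV t.2 ∈ @HopfRep.eigenspace k k[T;T⁻¹] _ _ _ V _ _
      (GLin.comodAlong (GLn.diag r k (fun _ => 1)) ρ) (LaurentPolynomial.T h) := hh ▸ Submodule.mem_top
    have hv' : TensorProduct.map LinearMap.id (GLn.diag r k (fun _ => 1) : GLn r k →ₗ[k] k[T;T⁻¹])
        (HopfRep.Comod.coact (k := k) (A := GLn r k) (bV t.2)) = bV t.2 ⊗ₜ[k] LaurentPolynomial.T h := hv
    rw [H66.Coeff.comul_coeff, ComodTens.lTensor_rTensor_comm, LinearMap.lTensor, hv', LinearMap.rTensor_tmul]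
  choose c₁ hc₁ using fun t => exists_bound h _ (hwt t)
  let c : ℕ := (Finset.univ.sup c₁) + h.natAbs + 1
  obtain ⟨a, ha⟩ : ∃ a : ℕ, (a : ℤ) = h + (r : ℤ) * c := by
    refine ⟨(h + (r : ℤ) * c).toNat, Int.toNat_of_nonneg ?_⟩
    have h1 : (c : ℤ) ≤ (r : ℤ) * c := le_mul_of_one_le_left (by omega) (by omega)
    have h2 : (h.natAbs : ℤ) < c := by omega
    omega
  have hQ : ∀ t : Fin m × Fin m, H66.Coeff.coeff (C := GLn r k) (bV.coord t.1) (bV t.2) ∈ S r k a c := fun t =>
    hc₁ t c a ((Finset.le_sup (Finset.mem_univ t)).trans (by omega)) ha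
  refine ⟨a, Fintype.card (Fin m × (Fin a → Fin r)), c, by omega, ?_⟩
  let eI := (Fintype.equivFin (Fin m × (Fin a → Fin r))).symm
  let T := TensorPower k a (Fin r → k)
  let b := Fintype.card (Fin m × (Fin a → Fin r))
  let E := Fin b → T
  let cT : HopfRep.Comod k (GLn r k) T := ComodTens.Comod.twist (ComodTens.Comod.tpow (std r k) a)
    (GLn.Dinv ^ c) (IsGroupLikeElem.pow ⟨GLn.counit_Dinv, GLn.comul_Dinv⟩)
  letI cE : HopfRep.Comod k (GLn r k) E :=
    ComodTens.Comod.twist (ComodTens.Comod.pi fun _ : Fin b => ComodTens.Comod.tpow (std r k) a)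
      (GLn.Dinv ^ c) (IsGroupLikeElem.pow ⟨GLn.counit_Dinv, GLn.comul_Dinv⟩)
  letI := cT
  have hproj : ∀ j : Fin b, Hoch.IsComodHom (GLn r k) (LinearMap.proj j : E →ₗ[k] T) := by
    intro j
    refine LinearMap.ext fun y => ?_
    change (LinearMap.mulRight k ((GLn.Dinv : GLn r k) ^ c)).lTensor T ((ComodTens.Comod.tpow (std r k) a).coact (y j)) =
      (LinearMap.proj j : E →ₗ[k] T).rTensor (GLn r k) ((LinearMap.mulRight k ((GLn.Dinv : GLn r k) ^ c)).lTensor E
        ((ComodTens.Comod.pi fun _ : Fin b => ComodTens.Comod.tpow (std r k) a).coact y))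
    rw [← ComodTens.lTensor_rTensor_comm]
    congr 1
    rw [ComodTens.pi_coact, map_sum, Finset.sum_eq_single j]
    · rw [← LinearMap.rTensor_comp_apply,
        show (LinearMap.proj j : E →ₗ[k] T) ∘ₗ LinearMap.single k (fun _ : Fin b => T) j = LinearMap.id from
          LinearMap.ext fun x => by simp, LinearMap.rTensor_id, LinearMap.id_apply]
    · intro l _ hl
      rw [← LinearMap.rTensor_comp_apply,
        show (LinearMap.proj j : E →ₗ[k] T) ∘ₗ LinearMap.single k (fun _ : Fin b => T) l = 0 from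
          LinearMap.ext fun x => by simp [Ne.symm hl], LinearMap.rTensor_zero, LinearMap.zero_apply]
    · simp
  have hψ : ∀ I J : Fin a → Fin r, H66.Coeff.coeff (C := GLn r k) (psi I) (eT J : T) =
      (∏ l, (GLn.X (I l) (J l) : GLn r k)) * GLn.Dinv ^ c := by
    intro I J
    rw [H66.Coeff.coeff_apply]
    change TensorProduct.lid k (GLn r k) ((psi I).rTensor (GLn r k)
      ((LinearMap.mulRight k ((GLn.Dinv : GLn r k) ^ c)).lTensor T ((ComodTens.Comod.tpow (std r k) a).coact (eT J)))) = _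
    rw [tpow_coact]
    simp [psi_eT, ite_smul]
  letI := H66.DualMod.module k (GLn r k) (GLn r k)
  letI := H66.DualMod.module k (GLn r k) V
  letI := H66.DualMod.module k (GLn r k) E
  haveI : Module.Finite k T := Module.Finite.of_basis (Basis.piTensorProduct fun _ : Fin a => Pi.basisFun k (Fin r))
  haveI : Module.Finite k E := inferInstanceAs (Module.Finite k (Fin b → T))
  haveI : IsSemisimpleModule (H66.DualMod.CDual k (GLn r k)) E :=
    H66.DualMod.isSemisimpleComod_iff.1 (H66.GLnLR.isLinearlyReductive_GLn E inferInstance)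
  let F : V →ₗ[H66.DualMod.CDual k (GLn r k)] (Fin m → GLn r k) := LinearMap.pi fun i =>
    H66.DualMod.homOf (H66.Coeff.coeff (C := GLn r k) (bV.coord i)) (H66.Coeff.isComodHom_coeff _)
  have hFinj : Function.Injective F := (injective_iff_map_eq_zero F).2 fun v hv => bV.ext_elem fun i => by
    have h1 : H66.Coeff.coeff (C := GLn r k) (bV.coord i) v = 0 := congrFun hv i
    have h2 := H66.Coeff.counit_coeff (C := GLn r k) (bV.coord i) v
    rw [h1, map_zero] at h2
    simpa using h2.symm
  let G : E →ₗ[H66.DualMod.CDual k (GLn r k)] (Fin m → GLn r k) := LinearMap.pi fun i =>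
    ∑ I : Fin a → Fin r, H66.DualMod.homOf
      (H66.Coeff.coeff (C := GLn r k) (psi I) ∘ₗ (LinearMap.proj (eI.symm (i, I)) : E →ₗ[k] T))
      (isComodHom_comp (hproj _) (H66.Coeff.isComodHom_coeff _))
  have hG : ∀ (y : E) (i' : Fin m), G y i' =
      ∑ I : Fin a → Fin r, H66.Coeff.coeff (C := GLn r k) (psi I) (y (eI.symm (i', I))) :=
    fun y i' => (LinearMap.sum_apply _ _ _).trans rfl
  have hle : ∀ v, F v ∈ LinearMap.range G := by
    intro v
    have hS : ∀ i, ∀ x ∈ S r k a c, ∃ y : E, G y = Pi.single i x := by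
      intro i x hx
      induction hx using Submodule.span_induction with
      | mem x hx =>
        obtain ⟨⟨I, J⟩, rfl⟩ := hx
        refine ⟨Pi.single (eI.symm (i, I)) (eT J), funext fun i' => ?_⟩
        rw [hG]
        simp only [Pi.single_apply, eI.symm.injective.eq_iff, Prod.mk.injEq, apply_ite, map_zero]
        by_cases hii : i' = i
        · simp [hii, hψ]
        · simp [hii]
      | zero => exact ⟨0, by rw [map_zero, Pi.single_zero]⟩
      | add p q _ _ hp hq =>
        obtain ⟨y, hy⟩ := hp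
        obtain ⟨z, hz⟩ := hq
        exact ⟨y + z, by rw [map_add, hy, hz, Pi.single_add]⟩
      | smul s p _ hp =>
        obtain ⟨y, hy⟩ := hp
        refine ⟨s • y, ?_⟩
        rw [Pi.single_smul, ← hy]
        refine funext fun i' => ?_
        rw [Pi.smul_apply, hG, hG, Finset.smul_sum]
        exact Finset.sum_congr rfl fun I' _ => by rw [Pi.smul_apply, map_smul]
    have hmem : ∀ i, F v i ∈ S r k a c := by
      intro i
      change H66.Coeff.coeff (C := GLn r k) (bV.coord i) v ∈ _
      rw [← bV.sum_repr v, map_sum]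
      exact Submodule.sum_mem _ fun j _ => by rw [map_smul]; exact Submodule.smul_mem _ _ (hQ (i, j))
    choose y hy using fun i => hS i _ (hmem i)
    exact ⟨∑ i, y i, by rw [map_sum]; simp only [hy]; exact Finset.univ_sum_single _⟩
  obtain ⟨sec, hsec⟩ := IsSemisimpleModule.lifting_property G.rangeRestrict G.surjective_rangeRestrict
    (F.codRestrict (LinearMap.range G) hle)
  have hinj : Function.Injective sec := fun x y e => hFinj (by
    have hx := congrArg Subtype.val (LinearMap.congr_fun hsec x)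
    have hy := congrArg Subtype.val (LinearMap.congr_fun hsec y)
    simp only [LinearMap.comp_apply] at hx hy
    rw [e] at hx
    exact hx.symm.trans hy)
  obtain ⟨ret, hret⟩ := IsSemisimpleModule.extension_property sec hinj LinearMap.id
  exact ⟨H66.DualMod.homBack sec, H66.DualMod.homBack ret, LinearMap.ext fun v => LinearMap.congr_fun hret v,
    H66.DualMod.isComodHom_homBack sec, H66.DualMod.isComodHom_homBack ret⟩

end

end Groth.Agent.H66.PolyRep
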