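import Groth.Agent.H66.Vec.Split
import Groth.Agent.H66.Trigon
import Groth.Agent.H60.RedLR.Reductive
import Groth.Agent.H1.Classical.SemisimpleRep
import Groth.Agent.H1.Classical.UnipotentRadical

/-!
A connected group all of whose points are semisimple is a torus.
-/

universe u

open TensorProduct CategoryTheory MonoidalCategory CartesianMonoidalCategory MonObj GrpObj AlgebraicGeometry
  Groth.Agent.Lib.Comod.Basic Groth.Agent.H1.Classical Groth.Agent.H1.Classical.Scheme'
  Groth.Agent.Lib.RedPts.Points Groth.Agent.Lib.RedPts.BC Groth.Agent.Lib.GrpSch WithConv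

attribute [local instance] Groth.Agent.Lib.RedPts.Points.baseAlgebra

namespace Groth.Agent.H66.SemisimplePoints

set_option linter.style.haveILetI false

variable {k : Type u} [Field k] [IsAlgClosed k] {A : Type u} [CommRing A] [HopfAlgebra k A] [Algebra.FiniteType k A]
  [IsDomain A]

/-- A connected group whose points are all semisimple is diagonalizable. -/
theorem isDiagonalizable_of_semisimple_points
    (hss : ∀ (g : A →ₐ[k] k) (V : Type u) [AddCommGroup V] [Module k V] [HopfRep.Comod k A V], Module.Finite k V →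
      Module.End.IsSemisimple (HopfRep.Comod.act k A V g)) :
    HopfRep.IsDiagonalizable k A := by
  classical
  haveI : AlgebraicGeometry.IsIntegral (GA k A).left :=
    inferInstanceAs (AlgebraicGeometry.IsIntegral (Spec (CommRingCat.of A)))
  haveI : Smooth (GA k A).hom := smooth_GA
  obtain ⟨V, _, _, _, _, hf⟩ := H60.RedLR.exists_faithful_comod (k := k) (A := A)
  refine TorusSplit.isDiag_of_isTorus (H1.Classical.UnipotentRadical.isTorus_of_no_unip fun U _ i _ hci hsm hconn hU => ?_)
  haveI := hci
  haveI := hsm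
  haveI := hconn
  haveI : IsAffine U.left := isAffine_of_isAffineHom i.left
  haveI : Mono i := Over.mono_of_mono_left i
  obtain ⟨A', _, _, _, _, e, he⟩ := MaxTorusApply.exists_GA U
  haveI := he
  haveI : IsMonHom e.inv := inferInstance
  obtain ⟨r, hr, hrreg⟩ := exists_ptMap (e.inv ≫ i)
  obtain ⟨W', _, σ', hσ'⟩ := Torus.GenRep.exists_gen (HopfPts.D k A') hasMul_pts pts_ext
  have h' : Red.HasNoSubtorus k (GA k A') := fun T _ j _ _ hT => hU T (j ≫ e.inv) hT
  set ρ := ComodPts.rep (k := k) (A := A) V
  have hnil : ∀ χ, IsNilpotent (ρ (r χ) - 1) := fun χ =>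
    Torus.ImageTorus.nilp_of_gen hσ' (Unipotent.nilp_GA h' hσ' χ) (ρ := ρ.comp r)
      fun w l => hrreg _ (ComodPts.endFn V w l)
  have hr1 : ∀ χ, r χ = 1 := fun χ => hf (by
    have hs : Module.End.IsSemisimple (ρ (r χ)) := hss (r χ).ofConv V inferInstance
    have h1 : Module.End.IsSemisimple (ρ (r χ) - 1) := by
      have h2 : Module.End.IsSemisimple (ρ (r χ) - algebraMap k (Module.End k V) 1) :=
        Module.End.isSemisimple_sub_algebraMap_iff.2 hs
      rwa [map_one] at h2
    rw [map_one, ← sub_eq_zero]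
    exact Module.End.eq_zero_of_isNilpotent_isSemisimple (hnil χ) h1)
  have hid : toUnit U ≫ η[U] = 𝟙 U := MaxTorusExists.hom_ext_of_points _ _ fun x => by
    obtain ⟨χ, hχ⟩ := ptHom_surjective (x ≫ e.hom)
    rw [Category.comp_id, ← Category.assoc, toUnit_unique (x ≫ toUnit U) (toUnit _), ← Hom.one_def,
      ← cancel_mono i, MonObj.one_comp, show x = ptHom _ χ ≫ e.inv by rw [hχ, Category.assoc, e.hom_inv_id,
        Category.comp_id], Category.assoc, hr, hr1, map_one]
  haveI : IsIso (toUnit U) := ⟨η[U], hid, toUnit_unique _ _⟩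
  haveI : IsIso (toUnit U).left := inferInstanceAs (IsIso ((Over.forget _).map (toUnit U)))
  show IsIso U.hom
  rw [← Over.w (toUnit U)]
  haveI : IsIso (𝟙_ (Over (Spec (CommRingCat.of k)))).hom := inferInstanceAs (IsIso (𝟙 _))
  infer_instance

end Groth.Agent.H66.SemisimplePoints
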