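import Groth.Agent.H66.Trigon2
import Groth.Agent.H66.Unip
import Groth.Agent.H66.Tame
import Mathlib.RingTheory.Valuation.ValuationRing
import Mathlib.RingTheory.Localization.FractionRing
import Mathlib.LinearAlgebra.TensorProduct.RightExactness

/-!
Lattices in the generic fibre of a flat bialgebra and their reductions in another fibre.
-/

universe u v

open TensorProduct Groth.Agent.Lib.Comod.Basic

set_option linter.style.haveILetI false
set_option linter.unusedSectionVars false

namespace Groth.Agent.H66.SpecFibre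

noncomputable section

variable {A : Type u} [CommRing A] (K : Type u) [Field K] [Algebra A K]
variable (k : Type u) [Field k] [Algebra A k]
variable {H : Type u} [CommRing H] [Bialgebra A H] [Module.Flat A H]

/-- The lattice cut out in `H` by a subspace of the generic fibre. -/
def lat (U : Submodule K (K ⊗[A] H)) : Submodule A H :=
  (U.restrictScalars A).comap (TensorProduct.mk A K H 1)

variable {K} in
theorem mem_lat {U : Submodule K (K ⊗[A] H)} {h : H} : h ∈ lat K U ↔ (1 : K) ⊗ₜ[A] h ∈ U := Iff.rfl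

/-- An element of `H ⊗ H` whose generic fibre lies in `U ⊗ H_K` lies in `lat U ⊗ H`. -/
theorem mem_range_of_generic (U : Submodule K (K ⊗[A] H)) (z : H ⊗[A] H)
    (hz : AlgebraTensorModule.distribBaseChange A K H H ((1 : K) ⊗ₜ[A] z) ∈
      LinearMap.range (U.subtype.rTensor (K ⊗[A] H))) :
    z ∈ LinearMap.range ((lat K U).subtype.rTensor H) := by
  let q : H →ₗ[A] H ⧸ lat K U := (lat K U).mkQ
  let j : (H ⧸ lat K U) →ₗ[A] (K ⊗[A] H) ⧸ U :=
    (lat K U).liftQ ((U.mkQ.restrictScalars A) ∘ₗ TensorProduct.mk A K H 1)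
      (fun h hh => (Submodule.Quotient.mk_eq_zero U).2 hh)
  have hj : Function.Injective j := by
    rw [← LinearMap.ker_eq_bot]
    refine Submodule.ker_liftQ_eq_bot _ _ _ fun h hh => ?_
    exact (Submodule.Quotient.mk_eq_zero U).1 hh
  let θ := (AlgebraTensorModule.cancelBaseChange A K K ((K ⊗[A] H) ⧸ U) H).symm
  have key : ∀ w : H ⊗[A] H, θ (j.rTensor H (q.rTensor H w)) =
      U.mkQ.rTensor (K ⊗[A] H) (AlgebraTensorModule.distribBaseChange A K H H ((1 : K) ⊗ₜ[A] w)) := by
    intro w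
    induction w using TensorProduct.induction_on with
    | zero => simp
    | add a b ha hb => simp only [map_add, TensorProduct.tmul_add, ha, hb]
    | tmul a b => simp [θ, j, q]
  have h0 : U.mkQ.rTensor (K ⊗[A] H)
      (AlgebraTensorModule.distribBaseChange A K H H ((1 : K) ⊗ₜ[A] z)) = 0 := by
    obtain ⟨y, hy⟩ := hz
    rw [← hy, ← LinearMap.comp_apply, ← LinearMap.rTensor_comp,
      show U.mkQ ∘ₗ U.subtype = 0 from LinearMap.ext fun x => (Submodule.Quotient.mk_eq_zero U).2 x.2,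
      LinearMap.rTensor_zero, LinearMap.zero_apply]
  rw [← key] at h0
  have h1 : q.rTensor H z = 0 :=
    Module.Flat.rTensor_preserves_injective_linearMap j hj
      ((θ.injective (h0.trans (map_zero θ).symm)).trans (map_zero _).symm)
  exact (rTensor_exact H (LinearMap.exact_subtype_mkQ (lat K U)) (Submodule.mkQ_surjective _) z).1 h1

/-- Reduction of `F ⊗ H`. -/
theorem distrib_mem_range {R : Type u} [CommRing R] [Algebra A R] {F : Submodule A H} {z : H ⊗[A] H}
    (hz : z ∈ LinearMap.range (F.subtype.rTensor H)) :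
    AlgebraTensorModule.distribBaseChange A R H H ((1 : R) ⊗ₜ[A] z) ∈
      LinearMap.range ((F.baseChange R).subtype.rTensor (R ⊗[A] H)) := by
  obtain ⟨y, rfl⟩ := hz
  induction y using TensorProduct.induction_on with
  | zero => simp
  | add p q hp hq => simp only [map_add, TensorProduct.tmul_add]; exact Submodule.add_mem _ hp hq
  | tmul p q =>
    rw [LinearMap.rTensor_tmul, AlgebraTensorModule.distribBaseChange_tmul]
    exact ⟨⟨(1 : R) ⊗ₜ[A] (p : H), Submodule.tmul_mem_baseChange_of_mem 1 p.2⟩ ⊗ₜ[R] ((1 : R) ⊗ₜ[A] q), rfl⟩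

theorem isSubcomod_lat {U : Submodule K (K ⊗[A] H)}
    (hU : HopfRep.IsSubcomod (k := K) (A := K ⊗[A] H) U) :
    HopfRep.IsSubcomod (k := k) (A := k ⊗[A] H) ((lat K U).baseChange k) := by
  let D : k ⊗[A] H →ₗ[k] (k ⊗[A] H) ⊗[k] (k ⊗[A] H) := CoalgebraStruct.comul (R := k)
  change (lat K U).baseChange k ≤
    (LinearMap.range (((lat K U).baseChange k).subtype.rTensor (k ⊗[A] H))).comap D
  rw [Submodule.baseChange_eq_span k (lat K U), Submodule.span_le]
  rintro _ ⟨h, hh, rfl⟩
  simp only [SetLike.mem_coe, Submodule.mem_comap, D, TensorProduct.mk_apply]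
  rw [H66.Tame.comul_baseChange, LinearMap.baseChange_tmul, ← Submodule.baseChange_eq_span k (lat K U)]
  refine distrib_mem_range (mem_range_of_generic K U _ ?_)
  have h2 : CoalgebraStruct.comul (R := K) ((1 : K) ⊗ₜ[A] h) ∈
      LinearMap.range (U.subtype.rTensor (K ⊗[A] H)) := hU _ hh
  rw [H66.Tame.comul_baseChange, LinearMap.baseChange_tmul] at h2
  exact h2

open H66.Unip (fil)

theorem lat_fil_le (hinj : Function.Injective (TensorProduct.mk A K H 1)) (n : ℕ) :
    (lat K (fil K (K ⊗[A] H) (K ⊗[A] H) n)).baseChange k ≤ fil k (k ⊗[A] H) (k ⊗[A] H) n := by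
  induction n with
  | zero =>
    rw [Submodule.baseChange_eq_span, Submodule.span_le]
    rintro _ ⟨h, hh, rfl⟩
    have h1 : (1 : K) ⊗ₜ[A] h = 0 := (Submodule.mem_bot K).1 hh
    have h2 : h = 0 := hinj (h1.trans (map_zero (TensorProduct.mk A K H 1)).symm)
    simp [h2]
  | succ n ih =>
    rw [Submodule.baseChange_eq_span, Submodule.span_le]
    rintro _ ⟨h, hh, rfl⟩
    have hγ : ∀ (R : Type u) [CommRing R] [Algebra A R],
        AlgebraTensorModule.distribBaseChange A R H H
            ((1 : R) ⊗ₜ[A] (CoalgebraStruct.comul (R := A) h - h ⊗ₜ[A] (1 : H))) =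
          CoalgebraStruct.comul (R := R) ((1 : R) ⊗ₜ[A] h) -
            ((1 : R) ⊗ₜ[A] h) ⊗ₜ[R] (1 : R ⊗[A] H) := by
      intro R _ _
      rw [TensorProduct.tmul_sub, map_sub, H66.Tame.comul_baseChange, LinearMap.baseChange_tmul,
        AlgebraTensorModule.distribBaseChange_tmul, Algebra.TensorProduct.one_def]
    have h1 := H66.Unip.mem_fil_succ_iff_coact.1 (mem_lat.1 hh)
    change CoalgebraStruct.comul (R := K) ((1 : K) ⊗ₜ[A] h) - _ ∈ _ at h1
    rw [← hγ K] at h1
    have h2 := distrib_mem_range (R := k) (mem_range_of_generic K _ _ h1)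
    rw [hγ k] at h2
    refine H66.Unip.mem_fil_succ_iff_coact.2 ?_
    have h3 : LinearMap.range
        (((lat K (fil K (K ⊗[A] H) (K ⊗[A] H) n)).baseChange k).subtype.rTensor (k ⊗[A] H)) ≤
        LinearMap.range ((fil k (k ⊗[A] H) (k ⊗[A] H) n).subtype.rTensor (k ⊗[A] H)) := by
      rw [← Submodule.subtype_comp_inclusion _ _ ih, LinearMap.rTensor_comp]
      exact LinearMap.range_comp_le_range _ _
    exact h3 h2

theorem isUnipotent_fibre (hinj : Function.Injective (TensorProduct.mk A K H 1))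
    (hK : HopfRep.IsUnipotent K (K ⊗[A] H)) : HopfRep.IsUnipotent k (k ⊗[A] H) := by
  refine H66.Unip.isUnipotent_iff.2 (eq_top_iff.2 fun x _ => ?_)
  induction x using TensorProduct.induction_on with
  | zero => exact Submodule.zero_mem _
  | add a b ha hb => exact Submodule.add_mem _ (ha trivial) (hb trivial)
  | tmul c h =>
    obtain ⟨n, hn⟩ := H66.Unip.mem_fil_exists hK ((1 : K) ⊗ₜ[A] h)
    refine Submodule.mem_iSup_of_mem n (lat_fil_le K k hinj n ?_)
    exact Submodule.tmul_mem_baseChange_of_mem c hn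

theorem exists_step_lat [IsDomain A] [ValuationRing A] [IsFractionRing A K]
    {U U' : Submodule K (K ⊗[A] H)} {x : K ⊗[A] H} (hx : U' ≤ U ⊔ Submodule.span K {x}) :
    ∃ y, (lat K U').baseChange k ≤ (lat K U).baseChange k ⊔ Submodule.span k {y} := by
  by_cases hall : (lat K U').baseChange k ≤ (lat K U).baseChange k
  · exact ⟨0, hall.trans le_sup_left⟩
  rw [Submodule.baseChange_eq_span, Submodule.span_le] at hall
  obtain ⟨_, ⟨b, hb, rfl⟩, hb'⟩ := Set.not_subset.1 hall
  refine ⟨(1 : k) ⊗ₜ[A] b, ?_⟩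
  rw [Submodule.baseChange_eq_span, Submodule.span_le]
  rintro _ ⟨a, ha, rfl⟩
  obtain ⟨ua, hua, wa, hwa, ea⟩ := Submodule.mem_sup.1 (hx (mem_lat.1 ha))
  obtain ⟨ub, hub, wb, hwb, eb⟩ := Submodule.mem_sup.1 (hx (mem_lat.1 hb))
  obtain ⟨ca, rfl⟩ := Submodule.mem_span_singleton.1 hwa
  obtain ⟨cb, rfl⟩ := Submodule.mem_span_singleton.1 hwb
  have hsub : ∀ (r : A) (p q : H) (cp cq : K) (up uq : K ⊗[A] H), up ∈ U → uq ∈ U →
      up + cp • x = (1 : K) ⊗ₜ[A] p → uq + cq • x = (1 : K) ⊗ₜ[A] q → cp = algebraMap A K r * cq →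
      p - r • q ∈ lat K U := by
    intro r p q cp cq up uq hup huq ep eq hc
    rw [mem_lat, TensorProduct.tmul_sub, TensorProduct.tmul_smul, ← ep, ← eq, ← algebraMap_smul K r,
      hc, smul_add, smul_smul, add_sub_add_right_eq_sub]
    exact U.sub_mem hup (U.smul_mem _ huq)
  show (1 : k) ⊗ₜ[A] a ∈ _
  by_cases hcb : cb = 0
  · exfalso
    apply hb'
    refine Submodule.tmul_mem_baseChange_of_mem 1 ?_
    rw [hcb, zero_smul, add_zero] at eb
    rw [mem_lat, ← eb]; exact hub
  rcases ValuationRing.isInteger_or_isInteger A (ca / cb) with ⟨r, hr⟩ | ⟨r, hr⟩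
  · have h1 := hsub r a b ca cb ua ub hua hub ea eb (by rw [hr, div_mul_cancel₀ _ hcb])
    have e : (1 : k) ⊗ₜ[A] a = (1 : k) ⊗ₜ[A] (a - r • b) + algebraMap A k r • ((1 : k) ⊗ₜ[A] b) := by
      rw [algebraMap_smul, TensorProduct.tmul_sub, TensorProduct.tmul_smul, sub_add_cancel]
    rw [e]
    exact Submodule.add_mem _ (Submodule.mem_sup_left (Submodule.tmul_mem_baseChange_of_mem 1 h1))
      (Submodule.mem_sup_right (Submodule.smul_mem _ _ (Submodule.mem_span_singleton_self _)))
  · by_cases hca : ca = 0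
    · refine Submodule.mem_sup_left (Submodule.tmul_mem_baseChange_of_mem 1 ?_)
      rw [hca, zero_smul, add_zero] at ea
      rw [mem_lat, ← ea]; exact hua
    have h1 := hsub r b a cb ca ub ua hub hua eb ea (by rw [hr, inv_div, div_mul_cancel₀ _ hca])
    have hr0 : algebraMap A k r ≠ 0 := fun h0 => by
      apply hb'
      have e : (1 : k) ⊗ₜ[A] b = (1 : k) ⊗ₜ[A] (b - r • a) := by
        rw [TensorProduct.tmul_sub, TensorProduct.tmul_smul, ← algebraMap_smul k r, h0, zero_smul, sub_zero]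
      show (1 : k) ⊗ₜ[A] b ∈ _
      rw [e]
      exact Submodule.tmul_mem_baseChange_of_mem 1 h1
    have e : (1 : k) ⊗ₜ[A] a =
        (algebraMap A k r)⁻¹ • ((1 : k) ⊗ₜ[A] b - (1 : k) ⊗ₜ[A] (b - r • a)) := by
      rw [TensorProduct.tmul_sub, sub_sub_cancel, TensorProduct.tmul_smul, ← algebraMap_smul k r,
        inv_smul_smul₀ hr0]
    rw [e]
    exact Submodule.smul_mem _ _ (Submodule.sub_mem _
      (Submodule.mem_sup_right (Submodule.mem_span_singleton_self _))
      (Submodule.mem_sup_left (Submodule.tmul_mem_baseChange_of_mem 1 h1)))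

theorem isTrigonalizable_fibre [IsDomain A] [ValuationRing A] [IsFractionRing A K]
    (hinj : Function.Injective (TensorProduct.mk A K H 1))
    (hK : HopfRep.IsTrigonalizable K (K ⊗[A] H)) : HopfRep.IsTrigonalizable k (k ⊗[A] H) := by
  classical
  intro V _ _ _ hV hs
  haveI := hs.1
  obtain ⟨φ, hφ⟩ := exists_ne (0 : V →ₗ[k] k)
  let c : V →ₗ[k] k ⊗[A] H := H66.Coeff.coeff (C := k ⊗[A] H) φ
  obtain ⟨s, hs'⟩ := hV.fg_top
  have hmem : ∀ v : V, ∃ M : Submodule K (K ⊗[A] H),
      HopfRep.IsSubcomod (k := K) (A := K ⊗[A] H) M ∧ M.FG ∧ c v ∈ (lat K M).baseChange k := by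
    intro v
    obtain ⟨S, hS⟩ := TensorProduct.exists_finset (c v)
    refine ⟨⨆ p : S, cyclic (k := K) (A := K ⊗[A] H) (K ⊗[A] H) ((1 : K) ⊗ₜ[A] p.1.2),
      isSubcomod_iSup fun p => isSubcomod_cyclic _,
      Submodule.fg_iSup _ fun p => cyclic_fg _ _, ?_⟩
    rw [hS]
    exact Submodule.sum_mem _ fun p hp => Submodule.tmul_mem_baseChange_of_mem _
      (mem_lat.2 (Submodule.mem_iSup_of_mem ⟨p, hp⟩ (self_mem_cyclic _ _)))
  choose M hM1 hM2 hM3 using hmem
  let N : Submodule K (K ⊗[A] H) := ⨆ v : s, M v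
  have hN : HopfRep.IsSubcomod (k := K) (A := K ⊗[A] H) N := isSubcomod_iSup fun v => hM1 v
  haveI : Module.Finite K N := Module.Finite.iff_fg.2 (Submodule.fg_iSup _ fun v => hM2 v)
  letI := subComod N hN
  obtain ⟨F, -, hF0, hFsub, -, hFtop, hFstep⟩ := H66.Trigon.exists_flag (V := N) hK
  refine H66.Trigon2.finrank_eq_one_of_flag hs c (H66.Coeff.isComodHom_coeff φ)
    (H66.Coeff.injective_coeff_of_ne_zero hs φ hφ) (fun i => (lat K ((F i).map N.subtype)).baseChange k)
    (fun i => isSubcomod_lat K k (isSubcomod_map (isComodHom_subtype hN) (hFsub i))) ?_ ?_ ?_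
  · have h0 : lat K ((F 0).map N.subtype) = ⊥ := by
      rw [hF0, Submodule.map_bot, eq_bot_iff]
      intro h hh
      exact (Submodule.mem_bot A).2 (hinj (((Submodule.mem_bot K).1 hh).trans (map_zero _).symm))
    simp only [h0, Submodule.baseChange_bot]
  · refine ⟨Module.finrank K N, ?_⟩
    rw [hFtop _ le_rfl, Submodule.map_top, Submodule.range_subtype, LinearMap.range_eq_map, ← hs',
      Submodule.map_span, Submodule.span_le]
    rintro _ ⟨v, hv, rfl⟩
    have hle : M v ≤ N := le_iSup (fun v : s => M v) ⟨v, hv⟩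
    refine (Submodule.baseChange_eq_span k (lat K (M v))).le.trans ?_ (hM3 v)
    rw [Submodule.span_le]
    rintro _ ⟨a, ha, rfl⟩
    exact Submodule.tmul_mem_baseChange_of_mem 1 (hle ha : a ∈ lat K N)
  · intro i
    obtain ⟨x, hx⟩ := hFstep i
    refine exists_step_lat K k (x := (x : K ⊗[A] H)) ?_
    refine (Submodule.map_mono hx).trans ?_
    rw [Submodule.map_sup, Submodule.map_span, Set.image_singleton]
    rfl

end

end Groth.Agent.H66.SpecFibre
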