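import Groth.Prelude.Def_Dyn
import Groth.Agent.H66.MatComod
import Mathlib.LinearAlgebra.Matrix.Adjugate
import Mathlib.RingTheory.HopfAlgebra.Quotient

/-!
The stabilizer of a coordinate subspace of a matrix comodule, and the line cutting it out.
-/

universe u v w

open TensorProduct Matrix

set_option linter.unusedSectionVars false
set_option linter.style.haveILetI false

namespace Groth.Agent.H66.Stab

noncomputable section

variable {k : Type u} [Field k] {A : Type u} [CommRing A] [HopfAlgebra k A]
variable {ι : Type w} [Fintype ι] [DecidableEq ι] {d : ℕ} (P : Matrix ι ι A) (s : Fin d ↪ ι)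

/-- The ideal of the entries leading out of the subspace. -/
def blockIdeal : Ideal A := Ideal.span {a | ∃ (i : ι) (b : Fin d), i ∉ Set.range s ∧ a = P i (s b)}

theorem mem_blockIdeal {i : ι} (hi : i ∉ Set.range s) (b : Fin d) : P i (s b) ∈ blockIdeal P s :=
  Ideal.subset_span ⟨i, b, hi, rfl⟩

theorem kills_iff {R : Type v} [CommRing R] [Algebra k R] (g : A →ₐ[k] R) :
    (∀ a ∈ blockIdeal P s, g a = 0) ↔ ∀ (i : ι) (b : Fin d), i ∉ Set.range s → g (P i (s b)) = 0 := by
  refine ⟨fun h i b hi => h _ (mem_blockIdeal P s hi b), fun h a ha => ?_⟩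
  refine (Ideal.span_le (I := RingHom.ker g)).2 ?_ ha
  rintro _ ⟨i, b, hi, rfl⟩
  exact h i b hi

variable (k) in
/-- The line vector: the coordinates of the wedge of the selected basis vectors. -/
def lineVec : (Fin d → ι) → k := fun I => (Matrix.of fun a b => if I a = s b then (1 : k) else 0).det

theorem lineVec_self : lineVec k s (fun a => s a) = 1 := by
  rw [lineVec, show (Matrix.of fun a b => if s a = s b then (1 : k) else 0) = 1 from ?_, Matrix.det_one]
  ext a b
  simp [Matrix.one_apply]

theorem lineVec_ne_zero : lineVec k s ≠ 0 := fun h => one_ne_zero ((lineVec_self (k := k) s).symm.trans (congrFun h _))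

theorem map_pw_mulVec {R : Type u} [CommRing R] [Algebra k R] (g : A →ₐ[k] R) (I : Fin d → ι) :
    (((MatComod.pw P d).map g) *ᵥ MatComod.up R (lineVec k s)) I =
      (Matrix.of fun a b => g (P (I a) (s b))).det := by
  have hup : ∀ J : Fin d → ι, MatComod.up R (lineVec k s) J =
      (Matrix.of fun a b => if J a = s b then (1 : R) else 0).det := by
    intro J
    rw [MatComod.up, lineVec, RingHom.map_det]
    congr 1
    ext a b
    simp [apply_ite (algebraMap k R)]
  simp only [Matrix.mulVec, dotProduct, hup, MatComod.pw_map, Matrix.det_apply', Finset.mul_sum]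
  rw [Finset.sum_comm]
  refine Finset.sum_congr rfl fun σ _ => ?_
  rw [Finset.sum_eq_single (fun a => s (σ.symm a)) (fun J _ hJ => ?_) (fun h => absurd (Finset.mem_univ _) h)]
  · simp only [Matrix.of_apply, Equiv.symm_apply_apply, if_true, Finset.prod_const_one, mul_one]
    rw [mul_comm]
    congr 1
    rw [← Equiv.prod_comp σ]
    simp
  · obtain ⟨b, hb⟩ : ∃ b, J (σ b) ≠ s b := by
      by_contra hcon
      simp only [not_exists, not_not] at hcon
      exact hJ (funext fun a => by rw [← hcon, Equiv.apply_symm_apply])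
    have h0 : ∏ b, (Matrix.of fun a b => if J a = s b then (1 : R) else 0) (σ b) b = 0 :=
      Finset.prod_eq_zero (Finset.mem_univ b) (by rw [Matrix.of_apply, if_neg hb])
    rw [h0]
    simp

variable {P}

theorem stab_of_kills {R : Type u} [CommRing R] [Algebra k R] {g : A →ₐ[k] R}
    (h : ∀ (i : ι) (b : Fin d), i ∉ Set.range s → g (P i (s b)) = 0) :
    ((MatComod.pw P d).map g) *ᵥ MatComod.up R (lineVec k s) =
      (Matrix.of fun a b => g (P (s a) (s b))).det • MatComod.up R (lineVec k s) := by
  funext I
  rw [map_pw_mulVec, Pi.smul_apply, MatComod.up, lineVec, RingHom.map_det, smul_eq_mul, mul_comm, ← Matrix.det_mul]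
  congr 1
  ext a b
  simp only [Matrix.mul_apply, RingHom.mapMatrix_apply, Matrix.map_apply, Matrix.of_apply, apply_ite (algebraMap k R),
    map_one, map_zero, ite_mul, one_mul, zero_mul]
  by_cases hI : I a ∈ Set.range s
  · obtain ⟨c, hc⟩ := hI
    simp only [← hc, s.injective.eq_iff, Finset.sum_ite_eq, Finset.mem_univ, if_true]
  · rw [h _ b hI, Finset.sum_eq_zero]
    intro c _
    rw [if_neg]
    exact fun e => hI ⟨c, e.symm⟩

theorem kills_of_stab (hP : MatComod.IsMat k P) {R : Type u} [CommRing R] [Algebra k R] {g : A →ₐ[k] R} {c : R}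
    (h : ((MatComod.pw P d).map g) *ᵥ MatComod.up R (lineVec k s) = c • MatComod.up R (lineVec k s))
    (i : ι) (b : Fin d) (hi : i ∉ Set.range s) : g (P i (s b)) = 0 := by
  let M : Matrix (Fin d) (Fin d) R := Matrix.of fun a b => g (P (s a) (s b))
  have hM : M.det = c := by
    have := congrFun h (fun a => s a)
    rw [map_pw_mulVec, Pi.smul_apply, MatComod.up, lineVec_self, map_one, smul_eq_mul, mul_one] at this
    exact this
  have hc : IsUnit c := MatComod.isUnit_of_stab (MatComod.isMat_pw hP d) g
    ⟨fun a => s a, by rw [lineVec_self]; exact one_ne_zero⟩ h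
  have key : (fun b' => g (P i (s b'))) ᵥ* M.adjugate = 0 := by
    funext a
    have h1 := congrFun h (Function.update (fun a => s a) a i)
    rw [map_pw_mulVec, Pi.smul_apply, MatComod.up, lineVec, RingHom.map_det] at h1
    have h2 : ((algebraMap k R).mapMatrix (Matrix.of fun a' b' =>
        if Function.update (fun a => s a) a i a' = s b' then (1 : k) else 0)).det = 0 := by
      refine Matrix.det_eq_zero_of_row_eq_zero a fun b' => ?_
      simp only [RingHom.mapMatrix_apply, Matrix.map_apply, Matrix.of_apply, Function.update_self]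
      rw [if_neg fun e : i = s b' => hi ⟨b', e.symm⟩, map_zero]
    rw [h2, smul_zero] at h1
    have h3 : (Matrix.of fun a' b' => g (P (Function.update (fun a => s a) a i a') (s b'))) =
        M.updateRow a (fun b' => g (P i (s b'))) := by
      ext a' b'
      by_cases e : a' = a
      · subst e; simp [Matrix.updateRow_self]
      · simp [Matrix.updateRow_ne e, Function.update_of_ne e, M]
    rw [h3] at h1
    rw [Pi.zero_apply, ← h1, ← Matrix.det_transpose, ← Matrix.updateCol_transpose, ← Matrix.cramer_apply,
      Matrix.cramer_eq_adjugate_mulVec, ← Matrix.adjugate_transpose, Matrix.mulVec_transpose]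
  have h4 := congrArg (· ᵥ* M) key
  simp only [Matrix.vecMul_vecMul, Matrix.adjugate_mul, hM, Matrix.zero_vecMul, Matrix.vecMul_smul,
    Matrix.vecMul_one] at h4
  have h5 := congrFun h4 b
  simp only [Pi.smul_apply, smul_eq_mul, Pi.zero_apply] at h5
  exact hc.mul_right_eq_zero.1 h5

/-- The line cuts out the block ideal. -/
theorem represents_line (hP : MatComod.IsMat k P) :
    letI := MatComod.comod (MatComod.isMat_pw hP d)
    Dyn.Represents k A (blockIdeal P s) (fun R _ _ g => SGA3.StabilizesLine k A (lineVec k s) R g) := by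
  intro R _ _ g
  rw [kills_iff]
  refine Iff.trans ?_ (MatComod.stabilizesLine_iff (MatComod.isMat_pw hP d) _ R g).symm
  exact ⟨fun h => ⟨_, stab_of_kills s h⟩, fun ⟨c, h⟩ i b hi => kills_of_stab s hP h i b hi⟩

theorem isHopfIdeal (hP : MatComod.IsMat k P) : (blockIdeal P s).IsHopfIdeal k := by
  haveI : ((blockIdeal P s).restrictScalars k).IsCoideal := by
    refine Submodule.IsCoideal.mk (fun x hx => ?_) fun x hx => ?_
    · change Bialgebra.counitAlgHom k A x = 0
      refine (kills_iff P s (Bialgebra.counitAlgHom k A)).2 (fun i b hi => ?_) x hx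
      rw [Bialgebra.counitAlgHom_apply, hP.2, if_neg]
      exact fun e => hi ⟨b, e.symm⟩
    · have hmk : (Submodule.restrictScalars k (blockIdeal P s)).mkQ =
          (Ideal.Quotient.mkₐ k (blockIdeal P s)).toLinearMap := rfl
      rw [hmk]
      let q := Ideal.Quotient.mkₐ k (blockIdeal P s)
      change (Algebra.TensorProduct.map q q).comp (Bialgebra.comulAlgHom k A) x = 0
      refine (kills_iff P s ((Algebra.TensorProduct.map q q).comp (Bialgebra.comulAlgHom k A))).2
        (fun i b hi => ?_) x hx
      rw [AlgHom.comp_apply, Bialgebra.comulAlgHom_apply, hP.1, map_sum, Finset.sum_eq_zero]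
      intro l _
      rw [Algebra.TensorProduct.map_tmul]
      by_cases hl : l ∈ Set.range s
      · obtain ⟨c, rfl⟩ := hl
        rw [show q (P i (s c)) = 0 from Ideal.Quotient.eq_zero_iff_mem.2 (mem_blockIdeal P s hi c), zero_tmul]
      · rw [show q (P l (s b)) = 0 from Ideal.Quotient.eq_zero_iff_mem.2 (mem_blockIdeal P s hl b), tmul_zero]
  refine Ideal.IsHopfIdeal.mk fun x hx => ?_
  let q := Ideal.Quotient.mkₐ k (blockIdeal P s)
  let h := q.comp (HopfAlgebra.antipodeAlgHom k A)
  refine Ideal.Quotient.eq_zero_iff_mem.1 ?_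
  change h x = 0
  refine (kills_iff P s h).2 (fun i b hi => ?_) x hx
  let M : Matrix (Fin d) (Fin d) (A ⧸ blockIdeal P s) := Matrix.of fun a b => q (P (s a) (s b))
  let Q : ι → Fin d → (A ⧸ blockIdeal P s) := fun i a => h (P i (s a))
  have hzero : ∀ i' : ι, ∀ b', ∑ a, Q i' a * M a b' = if i' = s b' then 1 else 0 := by
    intro i' b'
    have e := congrFun (congrFun (MatComod.inv_map_mul hP q) i') (s b')
    rw [Matrix.mul_apply, Matrix.one_apply] at e
    rw [← e]
    refine Finset.sum_bij_ne_zero (fun a _ _ => s a) (fun _ _ _ => Finset.mem_univ _)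
      (fun _ _ _ _ _ _ e => s.injective e) (fun l _ hl => ?_) (fun a _ _ => rfl)
    by_cases hr : l ∈ Set.range s
    · obtain ⟨c, rfl⟩ := hr
      exact ⟨c, Finset.mem_univ _, hl, rfl⟩
    · refine absurd ?_ hl
      simp only [Matrix.map_apply]
      rw [show q (P l (s b')) = 0 from Ideal.Quotient.eq_zero_iff_mem.2 (mem_blockIdeal P s hr b'), mul_zero]
  have hinv : (Matrix.of fun a a' => Q (s a) a') * M = 1 := by
    ext a b'
    simp only [Matrix.mul_apply, Matrix.of_apply, hzero, s.injective.eq_iff, Matrix.one_apply]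
  have hrow : (fun a => Q i a) ᵥ* M = 0 := by
    funext b'
    simp only [Matrix.vecMul, dotProduct, hzero, Pi.zero_apply]
    exact if_neg fun e => hi ⟨b', e.symm⟩
  have h6 := congrArg (· ᵥ* (Matrix.of fun a a' => Q (s a) a')) hrow
  simp only [Matrix.vecMul_vecMul, mul_eq_one_comm.1 hinv, Matrix.vecMul_one, Matrix.zero_vecMul] at h6
  exact congrFun h6 b

end

end Groth.Agent.H66.Stab
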