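import Groth.Agent.H66.Tame
import Mathlib.RingTheory.Trace.Basic
import Mathlib.RingTheory.Bialgebra.Basic

/-!
The trace of the regular representation of a finite Hopf algebra is an integral.
-/

universe u v

open TensorProduct

namespace Groth.Agent.H66.TraceInt

noncomputable section

variable {k : Type u} [Field k] {A : Type v} [CommRing A] [HopfAlgebra k A] [Module.Finite k A]

variable (k A) in
/-- `x ⊗ y ↦ (x ⊗ 1) * τ(Δ y)`. -/
def shearHom : A ⊗[k] A →ₐ[A] A ⊗[k] A :=
  Algebra.TensorProduct.lift (Algebra.ofId A (A ⊗[k] A))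
    ((Algebra.TensorProduct.comm k A A).toAlgHom.comp (Bialgebra.comulAlgHom k A))
    (fun _ _ => Commute.all _ _)

theorem shearHom_tmul (x y : A) :
    shearHom k A (x ⊗ₜ y) = (x ⊗ₜ[k] (1 : A)) * TensorProduct.comm k A A (CoalgebraStruct.comul y) := by
  rw [shearHom, Algebra.TensorProduct.lift_tmul]
  rfl

theorem shearHom_surjective : Function.Surjective (shearHom k A) := by
  let S : A →ₗ[k] A := HopfAlgebraStruct.antipode (R := k) (A := A)
  intro z
  induction z using TensorProduct.induction_on with
  | zero => exact ⟨0, map_zero _⟩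
  | add p q hp hq =>
    obtain ⟨a, rfl⟩ := hp
    obtain ⟨b, rfl⟩ := hq
    exact ⟨a + b, map_add _ _ _⟩
  | tmul x a =>
    refine ⟨(x ⊗ₜ[k] (1 : A)) * TensorProduct.comm k A A (S.lTensor A (CoalgebraStruct.comul a)), ?_⟩
    let Ψ : A ⊗[k] (A ⊗[k] A) →ₗ[k] A ⊗[k] A :=
      (TensorProduct.comm k A A).toLinearMap ∘ₗ (LinearMap.mul' k A ∘ₗ S.lTensor A).lTensor A
    have key : ∀ w : A ⊗[k] A, shearHom k A (TensorProduct.comm k A A (S.lTensor A w)) =
        Ψ (TensorProduct.assoc k A A A ((CoalgebraStruct.comul (R := k) (A := A)).rTensor A w)) := by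
      intro w
      induction w using TensorProduct.induction_on with
      | zero => simp
      | add p q hp hq => simp only [map_add, hp, hq]
      | tmul p q =>
        rw [LinearMap.lTensor_tmul, TensorProduct.comm_tmul, shearHom_tmul, LinearMap.rTensor_tmul]
        induction CoalgebraStruct.comul (R := k) p using TensorProduct.induction_on with
        | zero => simp
        | add r s hr hs => simp only [map_add, TensorProduct.add_tmul, mul_add, hr, hs]
        | tmul r s => simp [Ψ, mul_comm]
    rw [map_mul, key, shearHom_tmul, Bialgebra.comul_one, Algebra.TensorProduct.one_def,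
      TensorProduct.comm_tmul, ← Algebra.TensorProduct.one_def, mul_one]
    have hco : TensorProduct.assoc k A A A ((CoalgebraStruct.comul (R := k) (A := A)).rTensor A
        (CoalgebraStruct.comul a)) = (CoalgebraStruct.comul (R := k) (A := A)).lTensor A (CoalgebraStruct.comul a) :=
      LinearMap.congr_fun (Coalgebra.coassoc (R := k) (A := A)) a
    rw [hco]
    simp only [Ψ, LinearMap.comp_apply, LinearEquiv.coe_coe]
    rw [← LinearMap.lTensor_comp_apply, LinearMap.comp_assoc]
    simp only [S, HopfAlgebra.mul_antipode_lTensor_comul]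
    rw [LinearMap.lTensor_comp_apply, Coalgebra.lTensor_counit_comul, LinearMap.lTensor_tmul,
      Algebra.linearMap_apply, map_one, TensorProduct.comm_tmul, Algebra.TensorProduct.tmul_mul_tmul,
      mul_one, one_mul]

variable (k A) in
/-- The shear as an automorphism. -/
def shearEquiv : A ⊗[k] A ≃ₐ[A] A ⊗[k] A :=
  AlgEquiv.ofBijective (shearHom k A)
    ⟨(LinearMap.injective_iff_surjective (f := (shearHom k A).toLinearMap.restrictScalars k)).2
      shearHom_surjective, shearHom_surjective⟩

theorem trace_tmul (x y : A) :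
    Algebra.trace A (A ⊗[k] A) (x ⊗ₜ y) = Algebra.trace k A y • x := by
  have h : Algebra.trace A (A ⊗[k] A) ((1 : A) ⊗ₜ y) = algebraMap k A (Algebra.trace k A y) := by
    rw [Algebra.trace_apply, Algebra.trace_apply, ← LinearMap.trace_baseChange]
    congr 1
    ext a
    simp
  rw [show x ⊗ₜ[k] y = x • ((1 : A) ⊗ₜ[k] y) by rw [TensorProduct.smul_tmul', smul_eq_mul, mul_one],
    map_smul, h, Algebra.smul_def (Algebra.trace k A y) x, smul_eq_mul, mul_comm]

theorem trace_isIntegral (a : A) :
    Algebra.trace k A a ⊗ₜ[k] (1 : A) = (Algebra.trace k A).rTensor A (CoalgebraStruct.comul a) := by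
  have hinj : Function.Injective (TensorProduct.lid k A) := (TensorProduct.lid k A).injective
  refine hinj ?_
  have h1 := Algebra.trace_eq_of_algEquiv (shearEquiv k A) ((1 : A) ⊗ₜ[k] a)
  change Algebra.trace A (A ⊗[k] A) (shearHom k A (1 ⊗ₜ a)) = _ at h1
  rw [shearHom_tmul, ← Algebra.TensorProduct.one_def, one_mul, trace_tmul] at h1
  rw [TensorProduct.lid_tmul, ← h1]
  induction CoalgebraStruct.comul (R := k) a using TensorProduct.induction_on with
  | zero => simp
  | add p q hp hq => simp only [map_add, hp, hq]
  | tmul p q => simp [trace_tmul]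

theorem hasIntegral_of_finrank_ne_zero (h : (Module.finrank k A : k) ≠ 0) : H66.Tame.HasIntegral k A := by
  refine ⟨(Module.finrank k A : k)⁻¹ • Algebra.trace k A, ?_, fun a => ?_⟩
  · rw [LinearMap.smul_apply, ← map_one (algebraMap k A), Algebra.trace_algebraMap, nsmul_eq_mul, mul_one,
      smul_eq_mul, inv_mul_cancel₀ h]
  · rw [LinearMap.rTensor_smul, LinearMap.smul_apply, LinearMap.smul_apply, ← trace_isIntegral,
      TensorProduct.smul_tmul']

end

end Groth.Agent.H66.TraceInt
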