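import Groth.Agent.H66.Unip
import Mathlib.RingTheory.Coalgebra.Convolution
import Mathlib.RingTheory.HopfAlgebra.Convolution

/-!
The filtration of the functionals on a coalgebra by the orders of vanishing on `fil`.
-/

universe u v w

open TensorProduct WithConv Groth.Agent.Lib.Comod.Basic

set_option linter.unusedSectionVars false
set_option linter.style.haveILetI false

namespace Groth.Agent.H66.UnipConv

noncomputable section

variable {k : Type u} [Field k] {A : Type v} [CommRing A] [Bialgebra k A]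

open H66.Unip (fil delta)

/-- `ψ` vanishes on `fil l`. -/
def InL (l : ℕ) (ψ : A →ₗ[k] k) : Prop := ∀ a ∈ fil k A A l, ψ a = 0

theorem inL_zero (ψ : A →ₗ[k] k) : InL 0 ψ := fun a ha => by
  rw [(Submodule.mem_bot k).1 ha, map_zero]

theorem InL.mono {m l : ℕ} {ψ : A →ₗ[k] k} (h : InL l ψ) (hml : m ≤ l) : InL m ψ :=
  fun a ha => h a (H66.Unip.fil_mono hml ha)

theorem inL_one_iff {ψ : A →ₗ[k] k} : InL 1 ψ ↔ ψ 1 = 0 := by
  refine ⟨fun h => h 1 (by rw [H66.Unip.fil_one_regular]; exact Submodule.mem_span_singleton_self 1), fun h a ha => ?_⟩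
  rw [H66.Unip.fil_one_regular, Submodule.mem_span_singleton] at ha
  obtain ⟨c, rfl⟩ := ha
  rw [map_smul, h, smul_zero]

theorem conv_apply_coeff (χ ψ : A →ₗ[k] k) (a : A) :
    conv χ ψ a = ψ (H66.Coeff.coeff (C := A) χ a) := by
  rw [H66.Coeff.coeff_apply]
  change LinearMap.mul' k k (TensorProduct.map χ ψ (CoalgebraStruct.comul a)) =
    ψ (TensorProduct.lid k A (χ.rTensor A (CoalgebraStruct.comul (R := k) a)))
  induction CoalgebraStruct.comul (R := k) a using TensorProduct.induction_on with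
  | zero => simp
  | add p q hp hq => simp only [map_add, hp, hq]
  | tmul p q => simp

theorem conv_apply_dact (χ ψ : A →ₗ[k] k) (a : A) : conv χ ψ a = χ (dact A ψ a) := by
  change LinearMap.mul' k k (TensorProduct.map χ ψ (CoalgebraStruct.comul a)) =
    χ (contract A ψ (CoalgebraStruct.comul (R := k) a))
  induction CoalgebraStruct.comul (R := k) a using TensorProduct.induction_on with
  | zero => simp
  | add p q hp hq => simp only [map_add, hp, hq]
  | tmul p q => simp [mul_comm]

/-- Left translation by an augmentation-zero functional lowers the filtration. -/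
theorem coeff_mem {φ : A →ₗ[k] k} (hφ : φ 1 = 0) (n : ℕ) {a : A} (ha : a ∈ fil k A A (n + 1)) :
    H66.Coeff.coeff (C := A) φ a ∈ fil k A A n := by
  induction n generalizing a with
  | zero =>
    rw [H66.Unip.fil_one_regular, Submodule.mem_span_singleton] at ha
    obtain ⟨c, rfl⟩ := ha
    rw [map_smul, H66.Coeff.coeff_apply,
      show HopfRep.Comod.coact (k := k) (A := A) (1 : A) = CoalgebraStruct.comul (R := k) (1 : A) from rfl,
      Bialgebra.comul_one, Algebra.TensorProduct.one_def, LinearMap.rTensor_tmul, hφ, zero_tmul, map_zero, smul_zero]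
    exact Submodule.zero_mem _
  | succ n ih =>
    refine H66.Unip.mem_fil_succ.2 fun χ => ?_
    rw [← map_dact (H66.Coeff.isComodHom_coeff (C := A) φ), ← map_smul, ← map_sub]
    exact ih (H66.Unip.mem_fil_succ.1 ha χ)

theorem InL.conv_left {l : ℕ} {φ ψ : A →ₗ[k] k} (hφ : φ 1 = 0) (hψ : InL l ψ) : InL (l + 1) (conv φ ψ) := by
  intro a ha
  rw [conv_apply_coeff]
  exact hψ _ (coeff_mem hφ l ha)

/-- A functional killing `fil l` lowers the filtration by `l`. -/
theorem dact_mem_fil {l : ℕ} {ψ : A →ₗ[k] k} (hψ : InL l ψ) (n : ℕ) {a : A} (ha : a ∈ fil k A A (n + l)) :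
    dact A ψ a ∈ fil k A A n := by
  induction n generalizing l ψ a with
  | zero =>
    rw [H66.Unip.fil_zero, Submodule.mem_bot]
    refine (Module.forall_dual_apply_eq_zero_iff k _).1 fun χ => ?_
    rw [← conv_apply_dact, conv_apply_coeff]
    refine hψ _ ?_
    have := H66.Unip.map_fil_le (H66.Coeff.isComodHom_coeff (C := A) (V := A) χ) l ⟨a, ?_, rfl⟩
    · exact this
    · simpa using ha
  | succ n ih =>
    refine H66.Unip.mem_fil_succ.2 fun φ => ?_
    let φ' : A →ₗ[k] k := φ - φ 1 • CoalgebraStruct.counit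
    have hφ' : φ' 1 = 0 := by simp [φ']
    have e : dact A φ (dact A ψ a) - φ 1 • dact A ψ a = dact A (conv φ' ψ) a := by
      rw [← dact_dact]
      simp only [φ']
      conv_rhs => rw [← dactAt_apply, map_sub, map_smul, dactAt_apply, dactAt_apply, dact_counit_apply]
    rw [e]
    exact ih (hψ.conv_left hφ') (by rwa [show n + (l + 1) = n + 1 + l by omega])

theorem InL.conv {i j : ℕ} {χ ψ : A →ₗ[k] k} (hχ : InL i χ) (hψ : InL j ψ) : InL (i + j) (conv χ ψ) := by
  intro a ha
  rw [conv_apply_dact]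
  exact hχ _ (dact_mem_fil hψ i ha)

theorem InL.add {l : ℕ} {χ ψ : A →ₗ[k] k} (hχ : InL l χ) (hψ : InL l ψ) : InL l (χ + ψ) :=
  fun a ha => by rw [LinearMap.add_apply, hχ a ha, hψ a ha, add_zero]

theorem InL.sub {l : ℕ} {χ ψ : A →ₗ[k] k} (hχ : InL l χ) (hψ : InL l ψ) : InL l (χ - ψ) :=
  fun a ha => by rw [LinearMap.sub_apply, hχ a ha, hψ a ha, sub_zero]

/-- The comultiplication respects the filtration. -/
theorem comul_mem (r : ℕ) {a : A} (ha : a ∈ fil k A A (r + 1)) :
    CoalgebraStruct.comul (R := k) a ∈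
      ⨆ i ∈ Finset.range (r + 1), LinearMap.range (TensorProduct.mapIncl (fil k A A (i + 1)) (fil k A A (r - i + 1))) := by
  classical
  have hP : ∀ n, ∃ P : A →ₗ[k] A, (∀ x, P x ∈ fil k A A n) ∧ ∀ x ∈ fil k A A n, P x = x := fun n => by
    obtain ⟨C, hC⟩ := (fil k A A n).exists_isCompl
    exact ⟨(fil k A A n).subtype ∘ₗ Submodule.projectionOnto _ C hC, fun x => Submodule.coe_mem _,
      fun x hx => congrArg Subtype.val (Submodule.projectionOnto_apply_left hC ⟨x, hx⟩)⟩
  choose P hP1 hP2 using hP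
  let Q : ℕ → (A →ₗ[k] A) := fun l => P (l + 1) - P l
  have hP0 : P 0 = 0 := LinearMap.ext fun x => (Submodule.mem_bot k).1 (hP1 0 x)
  have hsum : ∑ l ∈ Finset.range (r + 1), Q l = P (r + 1) := by
    rw [Finset.sum_range_sub P (r + 1), hP0, sub_zero]
  set x := CoalgebraStruct.comul (R := k) a
  have hx : x = (P (r + 1)).lTensor A x := by
    refine ext_contract fun φ => ?_
    rw [contract_lTensor, ← sub_eq_zero]
    have h0 : InL (r + 1) (φ - φ ∘ₗ P (r + 1)) := fun b hb => by simp [hP2 _ b hb]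
    have h1 : dact A (φ - φ ∘ₗ P (r + 1)) a = 0 :=
      (Submodule.mem_bot k).1 (dact_mem_fil h0 0 (by simpa using ha))
    rw [← dactAt_apply, map_sub] at h1
    exact h1
  rw [hx, ← hsum, show (∑ l ∈ Finset.range (r + 1), Q l).lTensor A = ∑ l ∈ Finset.range (r + 1), (Q l).lTensor A from
    map_sum (LinearMap.lTensorHom A) _ _, LinearMap.sum_apply]
  refine Submodule.sum_mem _ fun l hl => ?_
  have hlr : l ≤ r := Nat.lt_succ_iff.1 (Finset.mem_range.1 hl)
  refine Submodule.mem_iSup_of_mem (r - l) (Submodule.mem_iSup_of_mem (Finset.mem_range.2 (by omega)) ?_)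
  rw [show r - (r - l) = l by omega]
  have hQ : ∀ b, Q l b ∈ fil k A A (l + 1) := fun b =>
    Submodule.sub_mem _ (hP1 _ b) (H66.Unip.fil_le_succ l (hP1 _ b))
  have hy : (Q l).lTensor A x = TensorProduct.map (P (r - l + 1)) (Q l) x := by
    refine ext_contract fun φ => ?_
    rw [contract_lTensor, ← LinearMap.rTensor_comp_lTensor, LinearMap.comp_apply, contract_rTensor, contract_lTensor]
    refine (hP2 _ _ ?_).symm
    refine dact_mem_fil (l := l) (fun b hb => ?_) (r - l + 1) (by rwa [show r - l + 1 + l = r + 1 by omega])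
    simp only [Q, LinearMap.comp_apply, LinearMap.sub_apply, hP2 _ b hb, hP2 _ b (H66.Unip.fil_le_succ l hb), sub_self,
      map_zero]
  rw [hy]
  refine ⟨TensorProduct.map ((P (r - l + 1)).codRestrict _ (hP1 _)) ((Q l).codRestrict _ hQ) x, ?_⟩
  rw [TensorProduct.mapIncl, TensorProduct.map_map, LinearMap.subtype_comp_codRestrict,
    LinearMap.subtype_comp_codRestrict]

end

end Groth.Agent.H66.UnipConv
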